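import Cfsg.Agent.Lib.OddChar.CliffordExtra

/-! Invariant characters of normal subgroups with abelian quotient; the coprime extension theorem. -/

namespace Cfsg.Agent.OddChar

open scoped ComplexConjugate
open Representation Module

universe u

variable {X : Type u} [Group X]

theorem isIrr_mul_linear [Fintype X] {ψ ξ : X → ℂ} (hψ : Cfsg.IsIrrCharacter X ψ)
    (hξ : Cfsg.IsCharacter X ξ) (h1 : ξ 1 = 1) : Cfsg.IsIrrCharacter X (ψ * ξ) := by
  obtain ⟨lam, rfl⟩ := CT.exists_hom_of_degree_one hξ h1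
  refine CT.isIrr_of_inner_self (CT.isCharacter_mul (CT.isCharacter_of_isIrr hψ) hξ) ?_
  have := CT.irr_inner_self hψ
  rw [Cfsg.classInner] at this ⊢
  rw [← this]
  congr 1
  refine Finset.sum_congr rfl fun g _ => ?_
  have hn : (lam g : ℂ) * conj (lam g : ℂ) = 1 := by
    rw [Complex.mul_conj']
    have h2 : (lam g : ℂ) ^ orderOf g = 1 := by
      rw [← Units.val_pow_eq_pow_val, ← map_pow, pow_orderOf_eq_one, map_one, Units.val_one]
    rw [Complex.norm_eq_one_of_pow_eq_one h2 (orderOf_pos g).ne']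
    simp
  simp only [Pi.mul_apply, map_mul]
  linear_combination (ψ g * conj (ψ g)) * hn

variable (M : Subgroup X) [hM : M.Normal]

/-- A group extension lemma: a projective section with trivial determinant and coprime
order can be corrected to a homomorphism. -/
theorem exists_hom_of_factor_set {S : Type*} [Group S] [Fintype S] {U : Type*} [Group U]
    (ι : ℂˣ →* U) (hι : Function.Injective ι) (hc : ∀ z u, ι z * u = u * ι z) (det : U →* ℂˣ) {n : ℕ}
    (hdet : ∀ z, det (ι z) = z ^ n) (hcop : Nat.Coprime (Fintype.card S) n) (P : S → U)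
    (hP : ∀ s, det (P s) = 1) (c : S → S → ℂˣ) (hmul : ∀ s t, P s * P t = ι (c s t) * P (s * t)) :
    ∃ (Q : S →* U) (b : S → ℂˣ), ∀ s, Q s = ι (b s) * P s := by
  have hcn : ∀ s t, c s t ^ n = 1 := by
    intro s t
    have h := congrArg det (hmul s t)
    simpa [hP, hdet] using h.symm
  have hcoc : ∀ s t u, c s t * c (s * t) u = c t u * c s (t * u) := by
    intro s t u
    have h1 : P s * P t * P u = ι (c s t * c (s * t) u) * P (s * t * u) := by
      rw [hmul, mul_assoc, hmul, map_mul]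
      simp only [mul_assoc]
    have h2 : P s * P t * P u = ι (c t u * c s (t * u)) * P (s * t * u) := by
      rw [mul_assoc, hmul, ← mul_assoc, ← hc, mul_assoc, hmul, map_mul, mul_assoc, mul_assoc]
    exact hι (mul_right_cancel (h1.symm.trans h2))
  have hbk : ∀ s t, c s t ^ Fintype.card S * ∏ u, c (s * t) u = (∏ u, c t u) * ∏ u, c s u := by
    intro s t
    rw [← Finset.card_univ, ← Finset.prod_const, ← Finset.prod_mul_distrib,
      Finset.prod_congr rfl fun u _ => hcoc s t u, Finset.prod_mul_distrib]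
    congr 1
    exact Fintype.prod_equiv (Equiv.mulLeft t) _ _ fun u => rfl
  obtain ⟨j, hj1, hj2⟩ := exists_sep_exponent (m := n) (n := Fintype.card S) hcop.symm
  obtain ⟨i, rfl⟩ := hj2
  have hkey : ∀ s t, c s t * (∏ u, c (s * t) u) ^ i = ((∏ u, c t u) * ∏ u, c s u) ^ i := by
    intro s t
    rw [← hbk, mul_pow, ← pow_mul]
    congr 1
    exact (pow_eq_self_of_mod (orderOf_dvd_iff_pow_eq_one.mpr (hcn s t)) hj1).symm
  refine ⟨MonoidHom.mk' (fun s => ι ((∏ u, c s u) ^ i)⁻¹ * P s) fun s t => ?_, _, fun s => rfl⟩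
  calc ι ((∏ u, c (s * t) u) ^ i)⁻¹ * P (s * t)
      = ι (((∏ u, c s u) ^ i)⁻¹ * ((∏ u, c t u) ^ i)⁻¹) * (ι (c s t) * P (s * t)) := by
        rw [← mul_assoc, ← map_mul]
        congr 2
        rw [← mul_inv, ← mul_pow, mul_comm (∏ u, c s u), ← hkey]
        group
    _ = _ := by
        rw [← hmul, map_mul, mul_assoc, mul_assoc]
        congr 1
        rw [← mul_assoc, hc, mul_assoc]

/-- An invariant irreducible character of a normal Hall subgroup extends. -/
theorem exists_extension_coprime [Fintype X] {φ : M → ℂ} (hφ : Cfsg.IsIrrCharacter M φ)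
    (hinv : ∀ x, CT.conjFun M x φ = φ) (hcop : Nat.Coprime (Nat.card M) M.index) :
    ∃ ψ : X → ℂ, Cfsg.IsIrrCharacter X ψ ∧ (fun m : M => ψ m) = φ := by
  classical
  haveI := Fintype.ofFinite M
  obtain ⟨n, σ, hσ, rfl⟩ := hφ
  haveI := hσ
  haveI := ((CT.isIrreducible_iff σ).mp hσ).1
  have hn : 0 < n := by
    have := CT.finrank_pos_of_irreducible σ
    simpa using this
  obtain ⟨S, hS⟩ := Subgroup.exists_right_complement'_of_coprime hcop
  haveI := Fintype.ofFinite S
  let V := Fin n → ℂ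
  let ι : ℂˣ →* (Module.End ℂ V)ˣ := Units.map (algebraMap ℂ (Module.End ℂ V)).toMonoidHom
  let det : (Module.End ℂ V)ˣ →* ℂˣ := Units.map (LinearMap.det (A := ℂ) (M := V))
  have hι : Function.Injective ι := by
    intro a b h
    apply Units.ext
    have h' : algebraMap ℂ (Module.End ℂ V) a = algebraMap ℂ (Module.End ℂ V) b := congrArg Units.val h
    obtain ⟨v, hv⟩ := exists_ne (0 : V)
    have h2 := congrArg (fun T : Module.End ℂ V => T v) h'
    simp only [Module.algebraMap_end_apply] at h2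
    exact smul_left_injective ℂ hv h2
  have hc : ∀ z u, ι z * u = u * ι z := fun z u => Units.ext (Algebra.commutes _ _)
  have hdet : ∀ z, det (ι z) = z ^ n := by
    intro z
    apply Units.ext
    show LinearMap.det (algebraMap ℂ (Module.End ℂ V) (z : ℂ)) = _
    rw [Algebra.algebraMap_eq_smul_one, LinearMap.det_smul, map_one, mul_one]
    simp [V]
  let σU : M →* (Module.End ℂ V)ˣ := MonoidHom.toHomUnits σ
  have hex : ∀ s : X, ∃ P : (Module.End ℂ V)ˣ, det P = 1 ∧
      ∀ m : M, P * σU m = σU ((MulAut.conjNormal s : M ≃* M) m) * P := by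
    intro s
    have hch : σ.character = Representation.character
        (σ.comp (MulAut.conjNormal s : M ≃* M).toMonoidHom : Representation ℂ M V) := by
      funext m
      have := congrFun (hinv s) m
      rw [CT.conjFun_eq_comp] at this
      exact this.symm
    obtain ⟨e⟩ := CT.equiv_of_character_eq σ _ hch
    let P₀ : (Module.End ℂ V)ˣ := (LinearMap.GeneralLinearGroup.generalLinearEquiv ℂ V).symm e.toLinearEquiv
    obtain ⟨z, hz⟩ := IsAlgClosed.exists_pow_nat_eq ((det P₀)⁻¹ : ℂˣ).val hn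
    have hz0 : z ≠ 0 := by
      intro h
      rw [h, zero_pow hn.ne'] at hz
      exact Units.ne_zero _ hz.symm
    refine ⟨ι (Units.mk0 z hz0) * P₀, ?_, fun m => ?_⟩
    · rw [map_mul, hdet, mul_eq_one_iff_eq_inv]
      exact Units.ext (by rw [Units.val_pow_eq_pow_val, Units.val_mk0]; exact hz)
    · rw [mul_assoc, ← mul_assoc _ _ P₀, ← hc, mul_assoc]
      congr 1
      refine Units.ext (LinearMap.ext fun v => ?_)
      exact e.toIntertwiningMap.isIntertwining _ _ m v
  choose P hPd hP using hex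
  have hfac : ∀ s t : X, ∃ z : ℂˣ, P s * P t = ι z * P (s * t) := by
    intro s t
    have hcomm : ∀ m : M, (P s * P t * (P (s * t))⁻¹) * σU m = σU m * (P s * P t * (P (s * t))⁻¹) := by
      intro m
      obtain ⟨m', rfl⟩ := (MulAut.conjNormal (s * t) : M ≃* M).surjective m
      calc P s * P t * (P (s * t))⁻¹ * σU ((MulAut.conjNormal (s * t) : M ≃* M) m')
          = P s * P t * σU m' * (P (s * t))⁻¹ := by
            rw [mul_assoc _ (P (s * t))⁻¹, mul_assoc _ (σU m')]
            congr 1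
            rw [eq_mul_inv_iff_mul_eq, mul_assoc, ← hP, inv_mul_cancel_left]
        _ = σU ((MulAut.conjNormal (s * t) : M ≃* M) m') * (P s * P t * (P (s * t))⁻¹) := by
            rw [mul_assoc (P s), hP, ← mul_assoc (P s), hP, map_mul, MulAut.mul_apply]
            simp only [mul_assoc]
    have h := CT.eq_scalar_of_commute σ ((P s * P t * (P (s * t))⁻¹ : (Module.End ℂ V)ˣ) : Module.End ℂ V)
      fun m => congrArg Units.val (hcomm m)
    obtain ⟨w, hw⟩ : ∃ w : ℂ, ((P s * P t * (P (s * t))⁻¹ : (Module.End ℂ V)ˣ) : Module.End ℂ V) =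
      w • LinearMap.id := ⟨_, h⟩
    have hw0 : w ≠ 0 := by
      intro h0
      rw [h0, zero_smul] at hw
      exact (Units.ne_zero _ : ((P s * P t * (P (s * t))⁻¹ : (Module.End ℂ V)ˣ) : Module.End ℂ V) ≠ 0) hw
    refine ⟨Units.mk0 w hw0, mul_inv_eq_iff_eq_mul.mp (Units.ext ?_)⟩
    rw [hw]
    exact (Algebra.algebraMap_eq_smul_one w).symm
  choose c hmul using hfac
  have hcardS : Fintype.card S = M.index := by
    rw [← Nat.card_eq_fintype_card]
    exact hS.symm.index_eq_card.symm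
  have hdvd : n ∣ Nat.card M := by
    have := CT.finrank_dvd_card σ
    simpa using this
  obtain ⟨Q, b, hQ⟩ := exists_hom_of_factor_set ι hι hc det hdet
    (hcardS ▸ (hcop.coprime_dvd_left hdvd).symm) (fun s : S => P s) (fun s => hPd _)
    (fun s t => c s t) fun s t => hmul s t
  have hQc : ∀ (s : S) (m : M), Q s * σU m = σU ((MulAut.conjNormal (s : X) : M ≃* M) m) * Q s := by
    intro s m
    rw [hQ, mul_assoc, hP, ← mul_assoc, hc, mul_assoc]
  choose p hp using fun x : X => (Function.Bijective.surjective hS) x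
  have huniq : ∀ (m m' : M) (s s' : S), (m : X) * s = m' * s' → m = m' ∧ s = s' := fun m m' s s' h =>
    Prod.ext_iff.mp ((Function.Bijective.injective hS) (a₁ := (m, s)) (a₂ := (m', s')) h)
  let ρU : X →* (Module.End ℂ V)ˣ := MonoidHom.mk' (fun x => σU (p x).1 * Q (p x).2) fun x y => by
    have h : ((p (x * y)).1 : X) * (p (x * y)).2 =
        (((p x).1 * (MulAut.conjNormal ((p x).2 : X) : M ≃* M) (p y).1 : M) : X) *
          (((p x).2 * (p y).2 : S) : X) := by
      refine (hp (x * y)).trans ?_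
      conv_lhs => rw [← hp x, ← hp y]
      simp [mul_assoc]
    obtain ⟨h1, h2⟩ := huniq _ _ _ _ h
    rw [h1, h2, map_mul, map_mul, mul_assoc, ← mul_assoc _ (Q (p x).2) (Q (p y).2), ← hQc]
    simp only [mul_assoc]
  let ρ : Representation ℂ X V := (Units.coeHom _).comp ρU
  have hres : ∀ m : M, ρ m = σ m := by
    intro m
    obtain ⟨h1, h2⟩ := huniq (p (m : X)).1 m (p (m : X)).2 1 (by simpa using hp (m : X))
    show ((σU (p (m : X)).1 * Q (p (m : X)).2 : (Module.End ℂ V)ˣ) : Module.End ℂ V) = σ m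
    rw [h1, h2, map_one, mul_one]
    rfl
  haveI : ρ.IsIrreducible := by
    obtain ⟨hV, hW⟩ := (CT.isIrreducible_iff σ).mp hσ
    exact (CT.isIrreducible_iff ρ).mpr ⟨hV, fun W h => hW W fun m v hv => hres m ▸ h _ v hv⟩
  refine ⟨ρ.character, CT.isIrrCharacter_character ρ, funext fun m => ?_⟩
  simp [Representation.character, hres]
  rfl

/-- An irreducible character of the quotient part multiplies constituents. -/
theorem constituent_eq_mul_linear [Fintype X] [Fintype M] {φ : M → ℂ} (hφ : Cfsg.IsIrrCharacter M φ)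
    (hinv : ∀ x, CT.conjFun M x φ = φ) (hab : ∀ x y : X, x * y * x⁻¹ * y⁻¹ ∈ M) {ψ η : X → ℂ}
    (hψ : Cfsg.IsIrrCharacter X ψ) (hη : Cfsg.IsIrrCharacter X η)
    (h1 : Cfsg.classInner (fun m : M => ψ m) φ ≠ 0) (h2 : Cfsg.classInner (fun m : M => η m) φ ≠ 0) :
    η 1 = ψ 1 := by
  classical
  have hres := CT.restrict_eq_smul_of_invariant M hψ hφ h1 hinv
  have hne : Cfsg.classInner (Cfsg.indFun M (fun _ => 1) * ψ) η ≠ 0 := by
    rw [← CT.indFun_mul_restrict M _ (CT.isClassFunction_of_isIrr hψ),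
      show ((fun _ => (1 : ℂ)) * fun m : M => ψ m) = fun m : M => ψ m from one_mul _, hres,
      CT.indFun_smul, CT.classInner_smul_left,
      CT.frobenius_reciprocity M φ (CT.isClassFunction_of_isIrr hη),
      CT.classInner_comm_of_char (CT.isCharacter_of_isIrr hφ)
        (CT.isCharacter_restrict M (CT.isCharacter_of_isIrr hη))]
    exact mul_ne_zero h1 h2
  have hi : Cfsg.IsCharacter X (Cfsg.indFun M fun _ => (1 : ℂ)) := CT.isCharacter_indFun_one M
  rw [CT.character_eq_sum hi, Finset.sum_mul, CT.classInner_sum_left] at hne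
  obtain ⟨ξ, -, hξ⟩ := Finset.exists_ne_zero_of_sum_ne_zero hne
  rw [smul_mul_assoc, CT.classInner_smul_left] at hξ
  obtain ⟨hξ1, hξ2⟩ := mul_ne_zero_iff.mp hξ
  have hξ0 : Cfsg.classInner (fun m : M => (ξ : X → ℂ) m) (fun _ => 1) ≠ 0 := by
    rw [CT.classInner_comm_of_char (CT.isCharacter_restrict M (CT.isCharacter_of_isIrr ξ.2))
      CT.isCharacter_one, ← CT.frobenius_reciprocity M _ (CT.isClassFunction_of_isIrr ξ.2),
      CT.mult_spec hi (CT.isCharacter_of_isIrr ξ.2)]
    exact hξ1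
  have hξM := CT.restrict_eq_smul_of_invariant M ξ.2 CT.isIrrCharacter_one hξ0 (fun x => rfl)
  have hker : ∀ m ∈ M, (ξ : X → ℂ) m = (ξ : X → ℂ) 1 := by
    intro m hm
    have e1 := congrFun hξM ⟨m, hm⟩
    have e2 := congrFun hξM 1
    simp only [Pi.smul_apply] at e1 e2
    exact e1.trans e2.symm
  obtain ⟨ξ', hξ', hval⟩ := CT.exists_quotient_irr ξ.2 M hker
  have hd : (ξ : X → ℂ) 1 = 1 := by
    rw [← hval 1, QuotientGroup.mk_one]
    refine CT.irr_degree_one_of_comm (fun a b => ?_) hξ'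
    induction a using QuotientGroup.induction_on with | _ a =>
    induction b using QuotientGroup.induction_on with | _ b =>
    rw [← QuotientGroup.mk_mul, ← QuotientGroup.mk_mul, QuotientGroup.eq]
    have := hab b⁻¹ a⁻¹
    simpa [mul_assoc] using this
  have hmul := isIrr_mul_linear hψ (CT.isCharacter_of_isIrr ξ.2) hd
  rw [mul_comm] at hmul
  rw [← CT.eq_of_inner_ne_zero hmul hη hξ2, Pi.mul_apply, hd, one_mul]

/-- Structure of an induced invariant character when the quotient is abelian. -/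
theorem induced_invariant_decomp [Fintype X] [Fintype M] {φ : M → ℂ} (hφ : Cfsg.IsIrrCharacter M φ)
    (hinv : ∀ x, CT.conjFun M x φ = φ) (hab : ∀ x y : X, x * y * x⁻¹ * y⁻¹ ∈ M) :
    ∃ (e : ℕ) (C : Finset (X → ℂ)), 0 < e ∧
      (∀ ψ ∈ C, Cfsg.IsIrrCharacter X ψ ∧ Cfsg.classInner (fun m : M => ψ m) φ = e ∧
        ψ 1 = e * φ 1) ∧
      (∀ ψ, Cfsg.IsIrrCharacter X ψ → Cfsg.classInner (fun m : M => ψ m) φ ≠ 0 → ψ ∈ C) ∧
      e ^ 2 * C.card = M.index ∧ Cfsg.indFun M φ = (e : ℂ) • ∑ ψ ∈ C, ψ := by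
  classical
  obtain ⟨ψ₀, h0⟩ := CT.exists_irr_over M hφ
  have hres0 := CT.isCharacter_restrict M (CT.isCharacter_of_isIrr ψ₀.2)
  obtain ⟨e, he⟩ : ∃ e : ℕ, Cfsg.classInner (fun m : M => (ψ₀ : X → ℂ) m) φ = e :=
    ⟨_, CT.mult_spec hres0 (CT.isCharacter_of_isIrr hφ)⟩
  have he0 : 0 < e := Nat.pos_of_ne_zero fun h => h0 (by rw [he, h, Nat.cast_zero])
  have hall : ∀ η : X → ℂ, Cfsg.IsIrrCharacter X η → Cfsg.classInner (fun m : M => η m) φ ≠ 0 →
      Cfsg.classInner (fun m : M => η m) φ = e ∧ η 1 = e * φ 1 := by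
    intro η hη hne
    have e1 := congrFun (CT.restrict_eq_smul_of_invariant M hη hφ hne hinv) 1
    have e2 := congrFun (CT.restrict_eq_smul_of_invariant M ψ₀.2 hφ h0 hinv) 1
    simp only [Pi.smul_apply, smul_eq_mul, OneMemClass.coe_one] at e1 e2
    rw [constituent_eq_mul_linear M hφ hinv hab ψ₀.2 hη h0 hne, e2] at e1
    have e3 := (mul_right_cancel₀ (CT.irr_one_ne_zero hφ) e1).symm
    refine ⟨e3.trans he, ?_⟩
    rw [constituent_eq_mul_linear M hφ hinv hab ψ₀.2 hη h0 hne, e2, he]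
  obtain ⟨C, hC⟩ : ∃ C : Finset (X → ℂ), C = ((Finset.univ : Finset (Cfsg.IrrCharacter X)).filter
      fun η : Cfsg.IrrCharacter X => Cfsg.classInner (fun m : M => η.1 (m : X)) φ ≠ 0).image Subtype.val := ⟨_, rfl⟩
  have hind := CT.isCharacter_indFun M (CT.isCharacter_of_isIrr hφ)
  have hsum : Cfsg.indFun M φ = (e : ℂ) • ∑ ψ ∈ C, ψ := by
    rw [CT.character_eq_sum hind, hC, Finset.sum_image (fun a _ b _ h => Subtype.ext h), Finset.smul_sum,
      Finset.sum_filter]
    refine Finset.sum_congr rfl fun η _ => ?_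
    rw [← CT.mult_spec hind (CT.isCharacter_of_isIrr η.2),
      CT.frobenius_reciprocity M φ (CT.isClassFunction_of_isIrr η.2),
      CT.classInner_comm_of_char (CT.isCharacter_of_isIrr hφ)
        (CT.isCharacter_restrict M (CT.isCharacter_of_isIrr η.2))]
    by_cases h : Cfsg.classInner (fun m : M => (η : X → ℂ) m) φ = 0
    · rw [h, zero_smul, if_neg (not_not.mpr rfl)]
    · rw [if_pos h, (hall η η.2 h).1]
  have hCmem : ∀ ψ ∈ C, Cfsg.IsIrrCharacter X ψ ∧ Cfsg.classInner (fun m : M => ψ m) φ = e ∧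
      ψ 1 = e * φ 1 := by
    intro ψ hψ
    rw [hC] at hψ
    obtain ⟨η, hη, rfl⟩ := Finset.mem_image.mp hψ
    exact ⟨η.2, hall η η.2 (Finset.mem_filter.mp hη).2⟩
  refine ⟨e, C, he0, hCmem, fun ψ hψ hne => ?_, ?_, hsum⟩
  · rw [hC]
    exact Finset.mem_image.mpr ⟨⟨ψ, hψ⟩, Finset.mem_filter.mpr ⟨Finset.mem_univ _, hne⟩, rfl⟩
  · have h := CT.card_mul_inner_indFun M hφ
    have htop : CT.inertia M φ = ⊤ := eq_top_iff.mpr fun x _ => hinv x
    rw [htop, Subgroup.card_top, ← M.index_mul_card, hsum, CT.classInner_smul_left,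
      CT.classInner_smul_right, CT.classInner_sum_left,
      Finset.sum_congr rfl (g := fun _ => (1 : ℂ)) (fun a ha => by
        rw [CT.classInner_sum_right, Finset.sum_eq_single a
          (fun b hb hne => CT.irr_inner_of_ne (hCmem a ha).1 (hCmem b hb).1 (Ne.symm hne))
          (fun h => absurd ha h), CT.irr_inner_self (hCmem a ha).1]),
      Finset.sum_const, nsmul_eq_mul, map_natCast, mul_one] at h
    have hM0 : (Nat.card M : ℂ) ≠ 0 := Nat.cast_ne_zero.mpr Nat.card_pos.ne'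
    rw [Nat.cast_mul, mul_comm (M.index : ℂ)] at h
    have h' := mul_left_cancel₀ hM0 h
    rw [← mul_assoc, ← sq] at h'
    exact_mod_cast h'

end Cfsg.Agent.OddChar

namespace Cfsg.Agent.OddChar

universe u

variable {G : Type u} [Group G]

/-- Clifford decomposition of an induced character when the inertia quotient is abelian. -/
theorem clifford_induced_decomp [Fintype G] (H T : Subgroup G) [hN : H.Normal] (θ : H → ℂ)
    (hθ : Cfsg.IsIrrCharacter H θ)
    (hT : ∀ g : G, g ∈ T ↔ ∀ h : H, θ ⟨g * h * g⁻¹, hN.conj_mem h h.2 g⟩ = θ h)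
    (hab : ∀ x ∈ T, ∀ y ∈ T, x * y * x⁻¹ * y⁻¹ ∈ H) :
    ∃ (e : ℕ) (C : Finset (G → ℂ)), 0 < e ∧ (∀ χ ∈ C, Cfsg.IsIrrCharacter G χ) ∧
      e ^ 2 * C.card = H.relIndex T ∧ Cfsg.indFun H θ = (e : ℂ) • ∑ χ ∈ C, χ ∧
      (∀ χ ∈ C, χ 1 = (T.index : ℂ) * e * θ 1) ∧
      (Nat.Coprime (Nat.card H) (H.relIndex T) → e = 1) := by
  classical
  haveI := Fintype.ofFinite H
  haveI := Fintype.ofFinite T
  haveI := Fintype.ofFinite (H.subgroupOf T)
  have hTi : T = CT.inertia H θ := by
    ext g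
    rw [hT g, CT.mem_inertia_iff]
  have hHT : H ≤ T := hTi ▸ CT.le_inertia H (CT.isClassFunction_of_isIrr hθ)
  let i : H.subgroupOf T ≃* H := Subgroup.subgroupOfEquivOfLe hHT
  obtain ⟨φ, hφdef⟩ : ∃ φ : H.subgroupOf T → ℂ,
      φ = fun x : H.subgroupOf T => θ ⟨((x : T) : G), Subgroup.mem_subgroupOf.mp x.2⟩ := ⟨_, rfl⟩
  have hφ : Cfsg.IsIrrCharacter (H.subgroupOf T) φ :=
    hφdef ▸ CT.isIrrCharacter_comp i.toMonoidHom i.surjective hθ
  have hinv : ∀ t : T, CT.conjFun (H.subgroupOf T) t φ = φ := by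
    intro t
    subst hφdef
    funext m
    exact congrFun (show (t : G) ∈ CT.inertia H θ from hTi ▸ t.2) (i m)
  have hab' : ∀ x y : T, x * y * x⁻¹ * y⁻¹ ∈ H.subgroupOf T := fun x y =>
    Subgroup.mem_subgroupOf.mpr (by simpa using hab x x.2 y y.2)
  obtain ⟨e, C₀, he, hC₀, hC₀all, hcard, hsum⟩ :=
    induced_invariant_decomp (H.subgroupOf T) hφ hinv hab'
  have hin : ∀ η : T → ℂ, Cfsg.classInner (CT.resTo H T hHT η) θ =
      Cfsg.classInner (fun m : H.subgroupOf T => η m) φ := by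
    intro η
    simp only [Cfsg.classInner, hφdef]
    rw [Nat.card_congr i.toEquiv]
    congr 1
    exact (Fintype.sum_equiv i.toEquiv _ _ fun m => rfl).symm
  have hover : ∀ η ∈ C₀, Cfsg.classInner (CT.resTo H T hHT η) θ ≠ 0 := fun η hη => by
    rw [hin, (hC₀ η hη).2.1]
    exact Nat.cast_ne_zero.mpr he.ne'
  have hinj : Set.InjOn (fun η : T → ℂ => Cfsg.indFun T η) C₀ := by
    intro a ha b hb hab2
    by_contra hne
    obtain ⟨χ, hχdef⟩ : ∃ χ, χ = Cfsg.indFun T a := ⟨_, rfl⟩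
    have hχ : Cfsg.IsIrrCharacter G χ :=
      hχdef ▸ CT.isIrr_indFun_of_over H hθ T hTi hHT (hC₀ a ha).1 (hover a ha)
    have hcχ := CT.isCharacter_of_isIrr hχ
    have hm : ∀ η : T → ℂ, Cfsg.IsIrrCharacter T η → Cfsg.indFun T η = χ →
        CT.mult (fun t : T => χ t) η = 1 := by
      intro η hη hηχ
      have h := CT.mult_spec (CT.isCharacter_restrict T hcχ) (CT.isCharacter_of_isIrr hη)
      rw [← CT.frobenius_reciprocity' T (CT.isClassFunction_of_isIrr hχ), hηχ, CT.irr_inner_self hχ] at h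
      exact_mod_cast h.symm
    have hmult : ∀ η ∈ C₀, CT.mult (CT.resTo H T hHT η) θ = e := by
      intro η hη
      have h := CT.mult_spec (CT.isCharacter_resTo H T hHT (CT.isCharacter_of_isIrr (hC₀ η hη).1))
        (CT.isCharacter_of_isIrr hθ)
      rw [hin, (hC₀ η hη).2.1] at h
      exact_mod_cast h.symm
    have hpair : e + e ≤ CT.mult (fun n : H => χ n) θ := by
      rw [CT.sum_mult_over H hθ T hHT hcχ]
      refine le_trans (le_of_eq ?_) (Finset.sum_le_sum_of_subset_of_nonneg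
        (f := fun c : Cfsg.IrrCharacter T => CT.mult (fun t : T => χ t) c * CT.mult (CT.resTo H T hHT c) θ)
        (Finset.subset_univ {⟨a, (hC₀ a ha).1⟩, ⟨b, (hC₀ b hb).1⟩}) (fun _ _ _ => Nat.zero_le _))
      rw [Finset.sum_pair (fun h => hne (congrArg Subtype.val h)), hm a (hC₀ a ha).1 hχdef.symm,
        hm b (hC₀ b hb).1 (hab2.symm.trans hχdef.symm), hmult a ha, hmult b hb, one_mul]
    have hcon : Cfsg.classInner (fun n : H => χ n) θ ≠ 0 := by
      rw [CT.mult_spec (CT.isCharacter_restrict H hcχ) (CT.isCharacter_of_isIrr hθ), Nat.cast_ne_zero]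
      omega
    have hd1 := CT.clifford_mult H hχ hθ hcon
    rw [← hTi] at hd1
    have hd2 : CT.deg χ = T.index * (e * CT.deg θ) := by
      rw [← hmult a ha, ← CT.deg_eq_of_over H hθ T hTi hHT (hC₀ a ha).1 (hover a ha)]
      have h := CT.deg_eq hcχ
      rw [hχdef, CT.indFun_one_eval, CT.deg_eq (CT.isCharacter_of_isIrr (hC₀ a ha).1), ← hχdef] at h
      exact_mod_cast h.symm
    have hpos2 : 0 < T.index * CT.deg θ :=
      Nat.mul_pos (Nat.pos_of_ne_zero Subgroup.index_ne_zero_of_finite) (CT.deg_pos hθ)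
    nlinarith
  refine ⟨e, C₀.image fun η => Cfsg.indFun T η, he, ?_, ?_, ?_, ?_, ?_⟩
  · intro χ hχ
    obtain ⟨η, hη, rfl⟩ := Finset.mem_image.mp hχ
    exact CT.isIrr_indFun_of_over H hθ T hTi hHT (hC₀ η hη).1 (hover η hη)
  · rw [Finset.card_image_of_injOn hinj]
    exact hcard
  · rw [Finset.sum_image hinj, ← CT.indFun_trans H T hHT θ, ← hφdef, hsum, CT.indFun_smul, CT.indFun_sum]
  · intro χ hχ
    obtain ⟨η, hη, rfl⟩ := Finset.mem_image.mp hχ
    have h1 : φ 1 = θ 1 := by rw [hφdef]; rfl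
    rw [CT.indFun_one_eval, (hC₀ η hη).2.2, h1, mul_assoc]
  · intro hcop
    have hc' : Nat.Coprime (Nat.card (H.subgroupOf T)) (H.subgroupOf T).index := by
      rw [Nat.card_congr i.toEquiv]
      exact hcop
    obtain ⟨ψ, hψ, hψr⟩ := exists_extension_coprime (H.subgroupOf T) hφ hinv hc'
    have h1 : Cfsg.classInner (fun m : H.subgroupOf T => ψ m) φ = 1 := by
      rw [hψr]
      exact CT.irr_inner_self hφ
    have h2 := (hC₀ ψ (hC₀all ψ hψ (by rw [h1]; exact one_ne_zero))).2.1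
    rw [h1] at h2
    exact_mod_cast h2.symm

end Cfsg.Agent.OddChar
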