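import Cfsg.Agent.Lib.CT.Induced
import Mathlib

/-! Galois conjugates of characters: coprime powers. -/

namespace Cfsg.Agent.OddChar

open scoped IntermediateField
open Cardinal Representation

universe u v w

theorem exists_ringEquiv_extend {R : Type u} [CommRing R] [Nontrivial R] {K : Type v} [Field K]
    [Algebra R K] [IsAlgClosed K] {L : Type v} [Field L] [Algebra R L] [IsAlgClosed L]
    [FaithfulSMul R K] [FaithfulSMul R L] (hR : #R ≤ ℵ₀) (hK : ℵ₀ < #K) (hKL : #K = #L) :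
    ∃ f : K ≃+* L, ∀ r, f (algebraMap R K r) = algebraMap R L r := by
  obtain ⟨s, hs⟩ := exists_isTranscendenceBasis R K
  obtain ⟨t, ht⟩ := exists_isTranscendenceBasis R L
  have hst : #s = #t := by
    have h1 := IsAlgClosed.cardinal_eq_cardinal_transcendence_basis_of_aleph0_lt _ hs hR hK
    have h2 := IsAlgClosed.cardinal_eq_cardinal_transcendence_basis_of_aleph0_lt _ ht hR (hKL ▸ hK)
    simp only [Cardinal.lift_id] at h1 h2
    rw [← h1, hKL, h2]
  obtain ⟨e⟩ := Cardinal.eq.mp hst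
  letI := IsAlgClosed.isAlgClosure_of_transcendence_basis _ hs
  letI := IsAlgClosed.isAlgClosure_of_transcendence_basis _ ht
  let E := hs.1.aevalEquiv.symm.trans ((MvPolynomial.renameEquiv R e).trans ht.1.aevalEquiv)
  refine ⟨IsAlgClosure.equivOfEquiv K L E.toRingEquiv, fun r => ?_⟩
  rw [IsScalarTower.algebraMap_apply R (Algebra.adjoin R (Set.range ((↑) : s → K))) K r,
    IsAlgClosure.equivOfEquiv_algebraMap]
  show algebraMap (Algebra.adjoin R (Set.range ((↑) : t → L))) L (E (algebraMap R _ r)) = _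
  rw [AlgEquiv.commutes, ← IsScalarTower.algebraMap_apply]

/-- An automorphism of `ℂ` acting on the `n`-th roots of unity as a given coprime power. -/
theorem exists_ringEquiv_pow {n : ℕ} (hn : 0 < n) {j : ℕ} (hj : j.Coprime n) :
    ∃ f : ℂ ≃+* ℂ, ∀ z : ℂ, z ^ n = 1 → f z = z ^ j := by
  haveI : NeZero n := ⟨hn.ne'⟩
  obtain ⟨ζ, hζ⟩ : ∃ ζ : ℂ, IsPrimitiveRoot ζ n := ⟨_, Complex.isPrimitiveRoot_exp n hn.ne'⟩
  have hint : IsIntegral ℚ ζ := (hζ.isIntegral hn).tower_top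
  have hroot : ζ ^ j ∈ (minpoly ℚ ζ).aroots ℂ := by
    rw [Polynomial.mem_aroots]
    refine ⟨minpoly.ne_zero hint, ?_⟩
    rw [← Polynomial.cyclotomic_eq_minpoly_rat hζ hn,
      Polynomial.cyclotomic_eq_minpoly_rat (hζ.pow_of_coprime j hj) hn]
    exact minpoly.aeval ℚ _
  let φ : ℚ⟮ζ⟯ →ₐ[ℚ] ℂ := (IntermediateField.algHomAdjoinIntegralEquiv ℚ hint).symm ⟨ζ ^ j, hroot⟩
  have hφ : φ (IntermediateField.AdjoinSimple.gen ℚ ζ) = ζ ^ j :=
    IntermediateField.algHomAdjoinIntegralEquiv_symm_apply_gen ℚ hint _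
  haveI := IntermediateField.adjoin.finiteDimensional hint
  haveI : Algebra.IsAlgebraic ℚ ℚ⟮ζ⟯ := Algebra.IsAlgebraic.of_finite ℚ _
  have hR : #ℚ⟮ζ⟯ ≤ ℵ₀ := by
    refine (Algebra.IsAlgebraic.cardinalMk_le_max ℚ ℚ⟮ζ⟯).trans ?_
    simp
  have hK : ℵ₀ < #ℂ := by rw [Cardinal.mk_complex]; exact Cardinal.aleph0_lt_continuum
  obtain ⟨f, hf⟩ : ∃ f : ℂ ≃+* ℂ, ∀ r : ℚ⟮ζ⟯, f (r : ℂ) = φ r :=
    @exists_ringEquiv_extend ℚ⟮ζ⟯ _ _ ℂ _ (inferInstance) _ ℂ _ φ.toRingHom.toAlgebra _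
      inferInstance ((@faithfulSMul_iff_algebraMap_injective _ _ _ _ φ.toRingHom.toAlgebra).mpr φ.toRingHom.injective)
      hR hK rfl
  refine ⟨f, fun z hz => ?_⟩
  obtain ⟨i, -, rfl⟩ := hζ.eq_pow_of_pow_eq_one hz
  rw [map_pow, show f ζ = ζ ^ j from (hf (IntermediateField.AdjoinSimple.gen ℚ ζ)).trans hφ,
    ← pow_mul, ← pow_mul, mul_comm]

variable {G : Type u} [Group G] [Finite G]

theorem isCharacter_map_pow {χ : G → ℂ} (hχ : Cfsg.IsCharacter G χ) {j : ℕ}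
    (hj : j.Coprime (Nat.card G)) : Cfsg.IsCharacter G (fun g => χ (g ^ j)) := by
  classical
  obtain ⟨f, hf⟩ := exists_ringEquiv_pow (Nat.card_pos (α := G)) hj
  obtain ⟨m, ρ, rfl⟩ := hχ
  let ρ' : Representation ℂ G (Fin m → ℂ) :=
    ((Matrix.toLinAlgEquiv' (R := ℂ) (n := Fin m)).toMonoidHom.comp
      (f.toRingHom.mapMatrix.toMonoidHom.comp
        ((LinearMap.toMatrixAlgEquiv' (R := ℂ) (n := Fin m)).toMonoidHom.comp ρ)))
  refine ⟨m, ρ', funext fun g => ?_⟩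
  have h1 : ρ'.character g = f (ρ.character g) := by
    show LinearMap.trace ℂ _ (Matrix.toLinAlgEquiv' ((LinearMap.toMatrixAlgEquiv' (ρ g)).map f)) = _
    rw [show Matrix.toLinAlgEquiv' ((LinearMap.toMatrixAlgEquiv' (ρ g)).map f) =
      Matrix.toLin' ((LinearMap.toMatrix' (ρ g)).map f) from rfl, Matrix.trace_toLin'_eq]
    show _ = f (LinearMap.trace ℂ _ (ρ g))
    conv_rhs => rw [← Matrix.toLin'_toMatrix' (ρ g), Matrix.trace_toLin'_eq]
    simp only [Matrix.trace, Matrix.diag, map_sum, Matrix.map_apply]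
  obtain ⟨ω, hω, he⟩ := CT.exists_eigenvalues ρ g
  have h2 := he 1
  simp only [pow_one] at h2
  rw [h1, h2, map_sum, he j]
  exact Finset.sum_congr rfl fun i _ => hf _ (orderOf_dvd_iff_pow_eq_one.mp
    ((orderOf_dvd_of_pow_eq_one (hω i)).trans (orderOf_dvd_natCard g)))

theorem isIrr_map_pow {χ : G → ℂ} (hχ : Cfsg.IsIrrCharacter G χ) {j : ℕ}
    (hj : j.Coprime (Nat.card G)) : Cfsg.IsIrrCharacter G (fun g => χ (g ^ j)) := by
  haveI := Fintype.ofFinite G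
  refine CT.isIrr_of_inner_self (isCharacter_map_pow (CT.isCharacter_of_isIrr hχ) hj) ?_
  rw [← CT.irr_inner_self hχ, Cfsg.classInner, Cfsg.classInner]
  congr 1
  exact Fintype.sum_equiv (powCoprime hj.symm) _ _ fun g => rfl

end Cfsg.Agent.OddChar
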