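import Mathlib

/-! Separating powers of commuting elements of coprime order. -/

namespace Cfsg.Agent.OddChar

theorem exists_sep_exponent {m n : ℕ} (h : Nat.Coprime m n) :
    ∃ e : ℕ, e % m = 1 % m ∧ n ∣ e := by
  obtain ⟨e, h1, h2⟩ := Nat.chineseRemainder h 1 0
  exact ⟨e, h1, Nat.modEq_zero_iff_dvd.mp h2⟩

theorem pow_eq_self_of_mod {G : Type*} [Group G] {a : G} {m e : ℕ}
    (ha : orderOf a ∣ m) (he : e % m = 1 % m) : a ^ e = a := by
  have h : e ≡ 1 [MOD orderOf a] := Nat.ModEq.of_dvd ha he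
  calc a ^ e = a ^ 1 := pow_eq_pow_iff_modEq.mpr h
    _ = a := pow_one a

theorem commute_mul_pow_eq_left {G : Type*} [Group G] {a u : G} {m n e : ℕ}
    (hc : Commute a u) (ha : orderOf a ∣ m) (hu : orderOf u ∣ n)
    (he : e % m = 1 % m) (hn : n ∣ e) : (a * u) ^ e = a := by
  rw [hc.mul_pow, pow_eq_self_of_mod ha he, orderOf_dvd_iff_pow_eq_one.mp (hu.trans hn), mul_one]

theorem orderOf_conj {G : Type*} [Group G] (g x : G) : orderOf (g * x * g⁻¹) = orderOf x :=
  (MulAut.conj g).orderOf_eq x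

/-- If conjugate elements split as commuting products of coprime parts, their first parts are
conjugate by the same element. -/
theorem conj_left_eq {G : Type*} [Group G] {a u b v g : G} {m n : ℕ} (hmn : Nat.Coprime m n)
    (hau : Commute a u) (hbv : Commute b v) (ha : orderOf a ∣ m) (hb : orderOf b ∣ m)
    (hu : orderOf u ∣ n) (hv : orderOf v ∣ n) (h : g * (a * u) * g⁻¹ = b * v) :
    g * a * g⁻¹ = b := by
  obtain ⟨e, he, hn⟩ := exists_sep_exponent hmn
  have h2 := congrArg (· ^ e) h
  simp only [conj_pow] at h2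
  rwa [commute_mul_pow_eq_left hau ha hu he hn, commute_mul_pow_eq_left hbv hb hv he hn] at h2

end Cfsg.Agent.OddChar
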