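import Cfsg.Agent.Lib.CT.Kernel
import Cfsg.Agent.Lib.CT.Tables
import Cfsg.Agent.Lib.CT.FrobeniusGroup
import Cfsg.Agent.Lib.OddChar.Powers
import Cfsg.Agent.S1496

/-! Supplements to Clifford theory. -/

namespace Cfsg.Agent.OddChar

open scoped ComplexConjugate

universe u

variable {G : Type u} [Group G]

section Conj

variable (N : Subgroup G) [hN : N.Normal]

theorem indFun_conjFun [Fintype G] (θ : N → ℂ) (g : G) :
    Cfsg.indFun N (CT.conjFun N g θ) = Cfsg.indFun N θ := by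
  funext y
  unfold Cfsg.indFun
  congr 1
  refine Fintype.sum_equiv (Equiv.mulRight g⁻¹) _ _ fun x => ?_
  simp only [Equiv.coe_mulRight]
  have e : (x * g⁻¹)⁻¹ * y * (x * g⁻¹) = g * (x⁻¹ * y * x) * g⁻¹ := by group
  rw [e]
  by_cases h : x⁻¹ * y * x ∈ N
  · rw [CT.extendByZero_mem N _ h, CT.extendByZero_mem N _ (hN.conj_mem _ h g)]
    rfl
  · rw [CT.extendByZero_not_mem N _ h, CT.extendByZero_not_mem N]
    intro hh
    exact h (by simpa [mul_assoc] using hN.conj_mem _ hh g⁻¹)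

theorem indFun_orth [Fintype G] {θ φ : N → ℂ} (hθ : Cfsg.IsIrrCharacter N θ)
    (hφ : Cfsg.IsIrrCharacter N φ) (h : ∀ g : G, CT.conjFun N g θ ≠ φ) :
    Cfsg.classInner (Cfsg.indFun N φ) (Cfsg.indFun N θ) = 0 := by
  classical
  haveI := Fintype.ofFinite N
  rw [CT.frobenius_reciprocity N φ (CT.isClassFunction_indFun N θ), CT.restrict_indFun,
    CT.classInner_smul_right, CT.classInner_sum_right, Finset.sum_eq_zero, mul_zero]
  intro g _
  exact CT.irr_inner_of_ne hφ (CT.isIrrCharacter_conjFun N g hθ) (h g).symm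

/-- Brauer's permutation lemma for the conjugation action on a normal subgroup. -/
theorem card_fixed_irr [Fintype G] (g : G) :
    Nat.card {θ : Cfsg.IrrCharacter N // CT.conjFun N g (θ : N → ℂ) = θ} =
      Nat.card {C : ConjClasses N //
        ConjClasses.map (MulAut.conjNormal g : N ≃* N).toMonoidHom C = C} := by
  classical
  haveI := Fintype.ofFinite N
  let α : N ≃* N := MulAut.conjNormal g
  have hσinj : Function.Injective fun χ : Cfsg.IrrCharacter N =>
      (⟨fun x => (χ : N → ℂ) (α.symm x),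
        CT.isIrrCharacter_comp α.symm.toMonoidHom α.symm.surjective χ.2⟩ : Cfsg.IrrCharacter N) := by
    intro a b e
    apply Subtype.ext
    funext x
    have := congrFun (congrArg Subtype.val e) (α x)
    simpa using this
  let σ : Cfsg.IrrCharacter N ≃ Cfsg.IrrCharacter N :=
    Equiv.ofBijective _ (Finite.injective_iff_bijective.mp hσinj)
  have hperm := CT.brauer_permutation σ (ConjClasses.map α.toMonoidHom) fun χ x x' e => by
    show (χ : N → ℂ) (α.symm x') = (χ : N → ℂ) x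
    rw [show ConjClasses.map α.toMonoidHom (ConjClasses.mk x) = ConjClasses.mk (α x) from rfl] at e
    obtain ⟨c, hc⟩ := isConj_iff.mp (ConjClasses.mk_eq_mk_iff_isConj.mp e)
    refine (CT.isClassFunction_isConj (CT.isClassFunction_of_isIrr χ.2) ?_)
    refine isConj_iff.mpr ⟨α.symm c, ?_⟩
    apply α.injective
    simp [← hc]
  rw [← hperm]
  refine Nat.card_congr (Equiv.subtypeEquivRight fun θ => ?_)
  constructor
  · intro h
    apply Subtype.ext
    funext x
    show (θ : N → ℂ) (α.symm x) = (θ : N → ℂ) x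
    have h' := congrFun h (α.symm x)
    rw [CT.conjFun_eq_comp] at h'
    rw [← h']
    simp [α]
  · intro h
    funext x
    have h' := congrFun (congrArg Subtype.val h) (α x)
    change (θ : N → ℂ) (α.symm (α x)) = (θ : N → ℂ) (α x) at h'
    rw [α.symm_apply_apply] at h'
    rw [CT.conjFun_eq_comp]
    exact h'.symm

/-- A non-principal fixed character exists iff some non-identity class is fixed. -/
theorem exists_fixed_irr_iff [Fintype G] (g : G) :
    (∃ θ : N → ℂ, Cfsg.IsIrrCharacter N θ ∧ θ ≠ (fun _ => 1) ∧ CT.conjFun N g θ = θ) ↔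
      ∃ k ∈ N, k ≠ 1 ∧ ∃ h ∈ N, g * k * g⁻¹ = h * k * h⁻¹ := by
  classical
  haveI := Fintype.ofFinite N
  have hperm := card_fixed_irr N g
  haveI : Finite (ConjClasses N) := Finite.of_surjective _ ConjClasses.mk_surjective
  have ht : CT.conjFun N g (fun _ : N => (1 : ℂ)) = fun _ => 1 := rfl
  have h1 : (∃ θ : N → ℂ, Cfsg.IsIrrCharacter N θ ∧ θ ≠ (fun _ => 1) ∧ CT.conjFun N g θ = θ) ↔
      1 < Nat.card {θ : Cfsg.IrrCharacter N // CT.conjFun N g (θ : N → ℂ) = θ} := by
    rw [Finite.one_lt_card_iff_nontrivial]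
    constructor
    · rintro ⟨θ, hθ, hne, hfix⟩
      exact ⟨⟨⟨θ, hθ⟩, hfix⟩, ⟨CT.trivIrr N, ht⟩, fun e =>
        hne (congrArg Subtype.val (congrArg Subtype.val e))⟩
    · intro hnt
      obtain ⟨θ, hθ⟩ := exists_ne (⟨CT.trivIrr N, ht⟩ :
        {θ : Cfsg.IrrCharacter N // CT.conjFun N g (θ : N → ℂ) = θ})
      exact ⟨θ.1, θ.1.2, fun e => hθ (Subtype.ext (Subtype.ext e)), θ.2⟩
  have hone : ConjClasses.map (MulAut.conjNormal g : N ≃* N).toMonoidHom (ConjClasses.mk (1 : N)) =
      ConjClasses.mk 1 := by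
    show ConjClasses.mk ((MulAut.conjNormal g : N ≃* N) 1) = _
    rw [map_one]
  rw [h1, hperm, Finite.one_lt_card_iff_nontrivial]
  constructor
  · intro hnt
    obtain ⟨⟨C, hC⟩, hne⟩ := exists_ne (⟨_, hone⟩ : {C : ConjClasses N //
        ConjClasses.map (MulAut.conjNormal g : N ≃* N).toMonoidHom C = C})
    obtain ⟨x, rfl⟩ := ConjClasses.mk_surjective C
    obtain ⟨c, hc⟩ := isConj_iff.mp (ConjClasses.mk_eq_mk_iff_isConj.mp
      (show ConjClasses.mk x = ConjClasses.mk ((MulAut.conjNormal g : N ≃* N) x) from hC.symm))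
    refine ⟨x, x.2, fun e => hne ?_, c, c.2, ?_⟩
    · exact Subtype.ext (congrArg ConjClasses.mk (Subtype.ext (by simpa using e)))
    · have := congrArg Subtype.val hc
      simpa [eq_comm] using this
  · rintro ⟨k, hk, hk1, h, hh, e⟩
    have hC : ConjClasses.map (MulAut.conjNormal g : N ≃* N).toMonoidHom (ConjClasses.mk ⟨k, hk⟩) =
        ConjClasses.mk ⟨k, hk⟩ := by
      show ConjClasses.mk ((MulAut.conjNormal g : N ≃* N) ⟨k, hk⟩) = _
      refine (ConjClasses.mk_eq_mk_iff_isConj.mpr (isConj_iff.mpr ⟨⟨h, hh⟩, Subtype.ext ?_⟩)).symm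
      simp [e]
    refine ⟨⟨_, hC⟩, ⟨_, hone⟩, fun ee => hk1 ?_⟩
    obtain ⟨c, hc⟩ := isConj_iff.mp (ConjClasses.mk_eq_mk_iff_isConj.mp (congrArg Subtype.val ee).symm)
    have := congrArg Subtype.val hc
    simpa using this.symm

end Conj

/-- In a normal Hall subgroup a class fixed by `x` gives a non-identity element centralised by `x`. -/
theorem hall_exists_centralized [Finite G] (N : Subgroup G) [hN : N.Normal]
    (hHall : Nat.Coprime (Nat.card N) N.index) {x k h : G} (hk : k ∈ N) (hk1 : k ≠ 1) (hh : h ∈ N)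
    (e : x * k * x⁻¹ = h * k * h⁻¹) : ∃ c ∈ N, c ≠ 1 ∧ x * c = c * x := by
  classical
  obtain ⟨m, hm1, hm2⟩ := Nat.chineseRemainder hHall 0 1
  have hNpow : ∀ v ∈ N, v ^ m = 1 := fun v hv => orderOf_dvd_iff_pow_eq_one.mp
    ((Subgroup.orderOf_dvd_natCard N hv).trans (Nat.modEq_zero_iff_dvd.mp hm1))
  have hq : ∀ v : G, (v ^ m)⁻¹ * v ∈ N := by
    intro v
    have hv : orderOf (QuotientGroup.mk v : G ⧸ N) ∣ N.index := by
      rw [Subgroup.index_eq_card]; exact orderOf_dvd_natCard _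
    have := pow_eq_pow_iff_modEq.mpr (hm2.of_dvd hv)
    rw [pow_one, ← QuotientGroup.mk_pow] at this
    exact QuotientGroup.eq.mp this
  obtain ⟨u, hu⟩ : ∃ u, u = (x ^ m)⁻¹ * x := ⟨_, rfl⟩
  by_cases hu1 : u = 1
  · -- `x` has order prime to the order of `N`
    have hxm : x ^ m = x := by
      rw [hu, inv_mul_eq_one] at hu1
      exact hu1
    obtain ⟨z, hzdef⟩ : ∃ z, z = (h⁻¹ * x) ^ m := ⟨_, rfl⟩
    have hzk : Commute z k := by
      rw [hzdef]
      refine Commute.pow_left ?_ _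
      show h⁻¹ * x * k = k * (h⁻¹ * x)
      calc h⁻¹ * x * k = h⁻¹ * (x * k * x⁻¹) * x := by group
        _ = k * (h⁻¹ * x) := by rw [e]; group
    have hcx : Nat.Coprime (orderOf x) (Nat.card N) := by
      have h1 : (x ^ m) = x := hxm
      rw [Nat.coprime_iff_gcd_eq_one]
      have hd1 : Nat.gcd (orderOf x) (Nat.card N) ∣ orderOf x := Nat.gcd_dvd_left _ _
      have hd2 : Nat.gcd (orderOf x) (Nat.card N) ∣ m :=
        (Nat.gcd_dvd_right _ _).trans (Nat.modEq_zero_iff_dvd.mp hm1)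
      have hpos : 0 < orderOf x := orderOf_pos x
      have h2 : m ≡ 1 [MOD orderOf x] := by
        rw [← pow_eq_pow_iff_modEq, pow_one, h1]
      have h3 := Nat.modEq_zero_iff_dvd.mpr hd2
      exact Nat.dvd_one.mp (Nat.modEq_zero_iff_dvd.mp ((h2.of_dvd hd1).symm.trans h3))
    have hzx : z * x⁻¹ ∈ N := by
      have h1 : ((QuotientGroup.mk ((h⁻¹ * x) ^ m) : G ⧸ N)) = QuotientGroup.mk (x ^ m) := by
        have hh1 : (QuotientGroup.mk h⁻¹ : G ⧸ N) = 1 := (QuotientGroup.eq_one_iff _).mpr (inv_mem hh)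
        simp [QuotientGroup.mk_pow, QuotientGroup.mk_mul, hh1]
      rw [hxm, ← hzdef] at h1
      have h2 := QuotientGroup.eq.mp h1.symm
      have h3 := hN.conj_mem _ h2 x
      simpa [mul_assoc] using h3
    have hcop2 : Nat.Coprime (orderOf z) (Nat.card N) := by
      have hb := orderOf_pow_dvd (x := h⁻¹ * x) (n := m)
      have hgc : (orderOf z) ∣ N.index := by
        rw [orderOf_dvd_iff_pow_eq_one, hzdef, ← pow_mul, mul_comm, pow_mul]
        refine hNpow _ ?_
        rw [← QuotientGroup.eq_one_iff, QuotientGroup.mk_pow, ← orderOf_dvd_iff_pow_eq_one,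
          Subgroup.index_eq_card]
        exact orderOf_dvd_natCard _
      exact (hHall.symm).coprime_dvd_left hgc
    -- `z` is conjugate to `x` under `N`
    have hconj : ∃ t ∈ N, t * z * t⁻¹ = x := by
      obtain ⟨t, ht, c, hc, hcomm, htc⟩ := Cfsg.Agent.S1496.result N x
        (by rw [Subgroup.normalizer_eq_top (H := N)]; trivial) hcx (z * x⁻¹) hzx
      rw [inv_mul_cancel_right] at htc
      refine ⟨t, ht, ?_⟩
      have hord : orderOf (c * x) = orderOf z := by
        rw [← htc, orderOf_conj]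
      have hco : Nat.Coprime (orderOf c) (orderOf x) :=
        (hcx.coprime_dvd_right (Subgroup.orderOf_dvd_natCard _ hc)).symm
      have hm' := (show Commute c x from hcomm).orderOf_mul_eq_mul_orderOf_of_coprime hco
      rw [hord] at hm'
      have hc1 : c = 1 := by
        rw [← orderOf_eq_one_iff]
        exact Nat.eq_one_of_dvd_coprimes hcop2 (hm' ▸ dvd_mul_right _ _)
          (Subgroup.orderOf_dvd_natCard _ hc)
      rw [htc, hc1, one_mul]
    obtain ⟨t, ht, htz⟩ := hconj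
    refine ⟨t * k * t⁻¹, hN.conj_mem k hk t, fun e1 => hk1 (by simpa using e1), ?_⟩
    rw [← htz]
    calc t * z * t⁻¹ * (t * k * t⁻¹) = t * (z * k) * t⁻¹ := by group
      _ = t * (k * z) * t⁻¹ := by rw [hzk.eq]
      _ = _ := by group
  · refine ⟨u, hu ▸ hq x, hu1, ?_⟩
    rw [hu]
    exact (((Commute.refl x).pow_right m).inv_right.mul_right (Commute.refl x)).eq

/-- Sum over a group of a function factoring through a quotient. -/
theorem sum_quotient_mk [Fintype G] (A : Subgroup G) [Fintype (G ⧸ A)] {M : Type*} [AddCommMonoid M]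
    (f : G ⧸ A → M) : ∑ x : G, f (QuotientGroup.mk x) = Nat.card A • ∑ q : G ⧸ A, f q := by
  classical
  rw [← Finset.sum_fiberwise_of_maps_to (g := fun x : G => (QuotientGroup.mk x : G ⧸ A))
    (t := Finset.univ) (fun _ _ => Finset.mem_univ _), Finset.smul_sum]
  refine Finset.sum_congr rfl fun q _ => ?_
  rw [Finset.sum_congr rfl fun x hx => by rw [(Finset.mem_filter.mp hx).2], Finset.sum_const]
  congr 1
  have := QuotientGroup.card_preimage_mk A {q}
  rw [Nat.card_coe_set_eq, Nat.card_coe_set_eq, Set.ncard_singleton, mul_one,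
    Set.ncard_eq_toFinset_card'] at this
  convert this using 1
  congr 1
  ext x
  simp

end Cfsg.Agent.OddChar

namespace Cfsg.Agent.OddChar

universe u

variable {G : Type u} [Group G]

/-- A class fixed by an element of coprime order meets its centraliser. -/
theorem coprime_class_meets [Finite G] (N : Subgroup G) [hN : N.Normal] {y k h : G}
    (hcop : Nat.Coprime (orderOf y) (Nat.card N)) (hh : h ∈ N)
    (e : y * k * y⁻¹ = h * k * h⁻¹) : ∃ t ∈ N, y * (t * k * t⁻¹) = t * k * t⁻¹ * y := by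
  obtain ⟨t, ht, c, hc, hcomm, htc⟩ := Cfsg.Agent.S1496.result N y
    (by rw [Subgroup.normalizer_eq_top (H := N)]; trivial) hcop h⁻¹ (inv_mem hh)
  have hk : Commute (h⁻¹ * y) k := by
    show h⁻¹ * y * k = k * (h⁻¹ * y)
    calc h⁻¹ * y * k = h⁻¹ * (y * k * y⁻¹) * y := by group
      _ = k * (h⁻¹ * y) := by rw [e]; group
  obtain ⟨i, hi1, hi2⟩ := exists_sep_exponent hcop
  have hpow : (c * y) ^ i = y := by
    rw [hcomm]
    exact commute_mul_pow_eq_left (show Commute y c from hcomm.symm) dvd_rfl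
      (Subgroup.orderOf_dvd_natCard _ hc) hi1 hi2
  refine ⟨t, ht, ?_⟩
  have h2 : Commute (c * y) (t * k * t⁻¹) := by
    rw [← htc]
    show t * (h⁻¹ * y) * t⁻¹ * (t * k * t⁻¹) = t * k * t⁻¹ * (t * (h⁻¹ * y) * t⁻¹)
    calc t * (h⁻¹ * y) * t⁻¹ * (t * k * t⁻¹) = t * (h⁻¹ * y * k) * t⁻¹ := by group
      _ = t * (k * (h⁻¹ * y)) * t⁻¹ := by rw [hk.eq]
      _ = _ := by group
  have h3 := h2.pow_left i
  rw [hpow] at h3
  exact h3.eq

/-- Centralised elements conjugate in `N` are conjugate in the centraliser. -/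
theorem coprime_centralized_conj [Finite G] (N : Subgroup G) [hN : N.Normal] {y a b k : G}
    (hcop : Nat.Coprime (orderOf y) (Nat.card N)) (ha : y * a = a * y) (hb : y * b = b * y)
    (hk : k ∈ N) (e : k * a * k⁻¹ = b) : ∃ v ∈ N, y * v = v * y ∧ v * a * v⁻¹ = b := by
  let N' : Subgroup G := N ⊓ Subgroup.centralizer ({a} : Set G)
  have hcop' : Nat.Coprime (orderOf y) (Nat.card N') :=
    hcop.coprime_dvd_right (Subgroup.card_dvd_of_le inf_le_left)
  have hyC : y ∈ Subgroup.centralizer ({a} : Set G) := Subgroup.mem_centralizer_singleton_iff.mpr ha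
  have hnorm : y ∈ Subgroup.normalizer (N' : Set G) := by
    rw [Subgroup.mem_normalizer_iff]
    intro v
    constructor
    · rintro ⟨h1, h2⟩
      exact ⟨hN.conj_mem v h1 y, mul_mem (mul_mem hyC h2) ((Subgroup.centralizer _).inv_mem hyC)⟩
    · rintro ⟨h1, h2⟩
      refine ⟨?_, ?_⟩
      · simpa [mul_assoc] using hN.conj_mem _ h1 y⁻¹
      · simpa [mul_assoc] using mul_mem (mul_mem ((Subgroup.centralizer _).inv_mem hyC) h2) hyC
  have hkyk : Commute (k⁻¹ * y * k) a := by
    show k⁻¹ * y * k * a = a * (k⁻¹ * y * k)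
    calc k⁻¹ * y * k * a = k⁻¹ * (y * (k * a * k⁻¹)) * k := by group
      _ = k⁻¹ * ((k * a * k⁻¹) * y) * k := by rw [e, hb]
      _ = _ := by group
  have hzy : k⁻¹ * y * k * y⁻¹ ∈ N' := by
    refine ⟨?_, ?_⟩
    · show k⁻¹ * y * k * y⁻¹ ∈ N
      have := mul_mem (inv_mem hk) (hN.conj_mem k hk y)
      simpa [mul_assoc] using this
    · exact mul_mem (Subgroup.mem_centralizer_singleton_iff.mpr hkyk.eq) ((Subgroup.centralizer _).inv_mem hyC)
  obtain ⟨t, ht, c, hc, hcomm, htc⟩ := Cfsg.Agent.S1496.result N' y hnorm hcop' _ hzy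
  rw [inv_mul_cancel_right] at htc
  obtain ⟨i, hi1, hi2⟩ := exists_sep_exponent hcop'
  have hpow : (c * y) ^ i = y := by
    rw [hcomm]
    exact commute_mul_pow_eq_left (show Commute y c from hcomm.symm) dvd_rfl
      (Subgroup.orderOf_dvd_natCard _ hc) hi1 hi2
  have hord : orderOf (c * y) = orderOf y := by
    rw [← htc, orderOf_conj]
    simpa using orderOf_conj k⁻¹ y
  rw [pow_eq_self_of_mod (dvd_of_eq hord) hi1] at hpow
  rw [hpow] at htc
  refine ⟨k * t⁻¹, mul_mem hk (inv_mem ht.1), ?_, ?_⟩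
  · calc y * (k * t⁻¹) = k * (k⁻¹ * y * k) * t⁻¹ := by group
      _ = k * t⁻¹ * (t * (k⁻¹ * y * k) * t⁻¹) := by group
      _ = _ := by rw [htc]
  · have hta : t * a = a * t := Subgroup.mem_centralizer_singleton_iff.mp ht.2
    calc k * t⁻¹ * a * (k * t⁻¹)⁻¹ = k * (t⁻¹ * (a * t)) * k⁻¹ := by group
      _ = k * a * k⁻¹ := by rw [← hta, inv_mul_cancel_left]
      _ = b := e

/-- The fixed classes of a coprime automorphism with abelian centraliser. -/
theorem card_fixed_classes [Fintype G] (N : Subgroup G) [hN : N.Normal] {y : G}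
    (hcop : Nat.Coprime (orderOf y) (Nat.card N)) {C : Subgroup G}
    (hC : N ⊓ Subgroup.centralizer ({y} : Set G) = C) (hab : ∀ a ∈ C, ∀ b ∈ C, a * b = b * a) :
    Nat.card {θ : Cfsg.IrrCharacter N // CT.conjFun N y (θ : N → ℂ) = θ} = Nat.card C := by
  rw [card_fixed_irr N y]
  subst hC
  let Φ : ↥(N ⊓ Subgroup.centralizer ({y} : Set G)) →
      {K : ConjClasses N // ConjClasses.map (MulAut.conjNormal y : N ≃* N).toMonoidHom K = K} :=
    fun a => ⟨ConjClasses.mk ⟨a, a.2.1⟩, congrArg ConjClasses.mk (Subtype.ext (by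
      show (((MulAut.conjNormal y : N ≃* N) ⟨a, a.2.1⟩ : N) : G) = a
      rw [MulAut.conjNormal_apply]
      exact mul_inv_eq_iff_eq_mul.mpr (Subgroup.mem_centralizer_singleton_iff.mp a.2.2).symm))⟩
  refine (Nat.card_eq_of_bijective Φ ⟨?_, ?_⟩).symm
  · intro a b hab'
    obtain ⟨k, hk⟩ := isConj_iff.mp (ConjClasses.mk_eq_mk_iff_isConj.mp (congrArg Subtype.val hab'))
    obtain ⟨v, hv, hvy, hva⟩ := coprime_centralized_conj N hcop
      (Subgroup.mem_centralizer_singleton_iff.mp a.2.2).symm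
      (Subgroup.mem_centralizer_singleton_iff.mp b.2.2).symm k.2 (congrArg Subtype.val hk)
    have hvC : v ∈ N ⊓ Subgroup.centralizer ({y} : Set G) :=
      ⟨hv, Subgroup.mem_centralizer_singleton_iff.mpr hvy.symm⟩
    rw [hab v hvC a a.2, mul_inv_cancel_right] at hva
    exact Subtype.ext hva
  · rintro ⟨K, hK⟩
    obtain ⟨x, rfl⟩ := ConjClasses.mk_surjective K
    obtain ⟨h, hh⟩ := isConj_iff.mp (ConjClasses.mk_eq_mk_iff_isConj.mp hK.symm)
    have e : y * (x : G) * y⁻¹ = h * x * (h : G)⁻¹ := by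
      have := congrArg Subtype.val hh
      simpa using this.symm
    obtain ⟨t, ht, hty⟩ := coprime_class_meets N hcop h.2 e
    refine ⟨⟨t * x * t⁻¹, hN.conj_mem _ x.2 t, Subgroup.mem_centralizer_singleton_iff.mpr hty.symm⟩,
      Subtype.ext ?_⟩
    refine ConjClasses.mk_eq_mk_iff_isConj.mpr (isConj_iff.mpr ⟨⟨t, ht⟩⁻¹, Subtype.ext ?_⟩)
    simp [mul_assoc]

end Cfsg.Agent.OddChar
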