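import Cfsg.Prelude.Def_OddOrderChar
import Cfsg.Agent.Lib.CT.Induced

/-! Signed irreducible characters, integer spans and isometries on them. -/

namespace Cfsg.Agent.OddChar

open scoped ComplexConjugate

universe u v

variable {G : Type u} [Group G]

/-- An irreducible character up to sign. -/
def IsSigned (a : G → ℂ) : Prop := Cfsg.IsIrrCharacter G a ∨ Cfsg.IsIrrCharacter G (-a)

theorem isSigned_neg {a : G → ℂ} (ha : IsSigned a) : IsSigned (-a) := by
  unfold IsSigned at *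
  rw [neg_neg]
  exact ha.symm

theorem isSigned_isGen {a : G → ℂ} (ha : IsSigned a) : Cfsg.IsGeneralizedCharacter G a := by
  rcases ha with h | h
  · exact CT.isGen_of_isIrr h
  · simpa using CT.isGen_neg (CT.isGen_of_isIrr h)

theorem isSigned_one_ne_zero {a : G → ℂ} (ha : IsSigned a) : a 1 ≠ 0 := by
  rcases ha with h | h
  · exact CT.irr_one_ne_zero h
  · simpa using CT.irr_one_ne_zero h

theorem isSigned_exists {a : G → ℂ} (ha : IsSigned a) :
    ∃ (χ : G → ℂ) (e : ℂ), Cfsg.IsIrrCharacter G χ ∧ (e = 1 ∨ e = -1) ∧ a = e • χ := by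
  rcases ha with h | h
  · exact ⟨a, 1, h, Or.inl rfl, (one_smul _ _).symm⟩
  · exact ⟨-a, -1, h, Or.inr rfl, by simp⟩

section

variable [Fintype G]

theorem isSigned_norm {a : G → ℂ} (ha : IsSigned a) : Cfsg.classInner a a = 1 := by
  rcases ha with h | h
  · exact CT.irr_inner_self h
  · have := CT.irr_inner_self h
    rwa [CT.classInner_neg_left, CT.classInner_neg_right, neg_neg] at this

/-- Two signed irreducibles are orthogonal or equal up to sign. -/
theorem isSigned_inner {a b : G → ℂ} (ha : IsSigned a) (hb : IsSigned b) :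
    Cfsg.classInner a b = 0 ∨ ∃ e : ℂ, (e = 1 ∨ e = -1) ∧ Cfsg.classInner a b = e ∧ a = e • b := by
  classical
  obtain ⟨χ, e, hχ, he, rfl⟩ := isSigned_exists ha
  obtain ⟨ψ, d, hψ, hd, rfl⟩ := isSigned_exists hb
  rw [CT.classInner_smul_left, CT.classInner_smul_right, CT.irr_inner hχ hψ]
  by_cases h : χ = ψ
  · subst h
    refine Or.inr ⟨e * d, ?_, ?_, ?_⟩
    · rcases he with rfl | rfl <;> rcases hd with rfl | rfl <;> simp
    · rcases hd with rfl | rfl <;> simp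
    · rcases hd with rfl | rfl <;> simp
  · exact Or.inl (by simp [h])

theorem isSigned_inner_symm_eq_zero {a b : G → ℂ} (h : Cfsg.classInner a b = 0) :
    Cfsg.classInner b a = 0 := by
  rw [← CT.classInner_conj_symm, h, map_zero]

/-- A weighted version of Peterfalvi's orthogonality lemma. -/
theorem signed_pair_orth {x y z w : G → ℂ} (hx : IsSigned x) (hy : IsSigned y) (hz : IsSigned z)
    (hw : IsSigned w) {p q u v : ℝ} (hp : p ≠ 0) (hq : q ≠ 0) (hu : u ≠ 0) (hv : v ≠ 0)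
    (hxy : Cfsg.classInner x y = 0) (hzw : Cfsg.classInner z w = 0)
    (hmix : Cfsg.classInner ((p : ℂ) • x - (q : ℂ) • y) ((u : ℂ) • z - (v : ℂ) • w) = 0)
    (h1 : (p : ℂ) * x 1 = (q : ℂ) * y 1) (h2 : (u : ℂ) * z 1 = (v : ℂ) * w 1) :
    Cfsg.classInner x z = 0 := by
  rcases isSigned_inner hx hz with h | ⟨e, he, hxz, hxe⟩
  · exact h
  exfalso
  have he0 : e ≠ 0 := by rcases he with rfl | rfl <;> simp
  have hxw : Cfsg.classInner x w = 0 := by rw [hxe, CT.classInner_smul_left, hzw, mul_zero]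
  have hyz : Cfsg.classInner y z = 0 := by
    have h := isSigned_inner_symm_eq_zero hxy
    rw [hxe, CT.classInner_smul_right] at h
    exact (mul_eq_zero.mp h).resolve_left (by simpa using he0)
  simp only [CT.classInner_sub_left, CT.classInner_sub_right, CT.classInner_smul_left,
    CT.classInner_smul_right, Complex.conj_ofReal, hxz, hxw, hyz, mul_zero, sub_zero, zero_sub] at hmix
  rcases isSigned_inner hy hw with h | ⟨d, hd, hyw, hye⟩
  · rw [h] at hmix
    simp [hp, hu, he0] at hmix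
  rw [hyw] at hmix
  rw [hxe, hye, Pi.smul_apply, Pi.smul_apply, smul_eq_mul, smul_eq_mul] at h1
  have hz1 := isSigned_one_ne_zero hz
  have key : ((u : ℂ) ^ 2 + (v : ℂ) ^ 2) * ((p : ℂ) * e * z 1) = 0 := by
    linear_combination (u * z 1) * hmix + (v : ℂ) ^ 2 * h1 - ((q : ℂ) * v * d) * h2
  have hne : (u : ℂ) ^ 2 + (v : ℂ) ^ 2 ≠ 0 := by
    have hpos : 0 < u ^ 2 + v ^ 2 := by positivity
    exact_mod_cast hpos.ne'
  simp [hne, hp, he0, hz1] at key

theorem signed_pair_orth' {x y z w : G → ℂ} (hx : IsSigned x) (hy : IsSigned y) (hz : IsSigned z)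
    (hw : IsSigned w) {p q u v : ℝ} (hp : p ≠ 0) (hq : q ≠ 0) (hu : u ≠ 0) (hv : v ≠ 0)
    (hxy : Cfsg.classInner x y = 0) (hzw : Cfsg.classInner z w = 0)
    (hmix : Cfsg.classInner ((p : ℂ) • x - (q : ℂ) • y) ((u : ℂ) • z - (v : ℂ) • w) = 0)
    (h1 : (p : ℂ) * x 1 = (q : ℂ) * y 1) (h2 : (u : ℂ) * z 1 = (v : ℂ) * w 1) :
    Cfsg.classInner x z = 0 ∧ Cfsg.classInner x w = 0 ∧ Cfsg.classInner y z = 0 ∧
      Cfsg.classInner y w = 0 := by
  have hyx := isSigned_inner_symm_eq_zero hxy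
  have hwz := isSigned_inner_symm_eq_zero hzw
  have m1 : Cfsg.classInner ((p : ℂ) • x - (q : ℂ) • y) ((v : ℂ) • w - (u : ℂ) • z) = 0 := by
    rw [← neg_sub ((u : ℂ) • z), CT.classInner_neg_right, hmix, neg_zero]
  have m2 : Cfsg.classInner ((q : ℂ) • y - (p : ℂ) • x) ((u : ℂ) • z - (v : ℂ) • w) = 0 := by
    rw [← neg_sub ((p : ℂ) • x), CT.classInner_neg_left, hmix, neg_zero]
  have m3 : Cfsg.classInner ((q : ℂ) • y - (p : ℂ) • x) ((v : ℂ) • w - (u : ℂ) • z) = 0 := by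
    rw [← neg_sub ((p : ℂ) • x), CT.classInner_neg_left, m1, neg_zero]
  exact ⟨signed_pair_orth hx hy hz hw hp hq hu hv hxy hzw hmix h1 h2,
    signed_pair_orth hx hy hw hz hp hq hv hu hxy hwz m1 h1 h2.symm,
    signed_pair_orth hy hx hz hw hq hp hu hv hyx hzw m2 h1.symm h2,
    signed_pair_orth hy hx hw hz hq hp hv hu hyx hwz m3 h1.symm h2.symm⟩

theorem gen_exists_coeff {a : G → ℂ} (ha : Cfsg.IsGeneralizedCharacter G a) :
    ∃ m : Cfsg.IrrCharacter G → ℤ, (∀ χ : Cfsg.IrrCharacter G, Cfsg.classInner a χ = m χ) ∧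
      a = ∑ χ : Cfsg.IrrCharacter G, (m χ : ℂ) • (χ : G → ℂ) ∧
      Cfsg.classInner a a = ((∑ χ : Cfsg.IrrCharacter G, m χ ^ 2 : ℤ) : ℂ) := by
  obtain ⟨hcf, hm⟩ := CT.isGen_iff.mp ha
  choose m hm using hm
  refine ⟨m, hm, ?_, ?_⟩
  · have := CT.classFunction_eq_sum hcf
    simp only [hm] at this
    exact this
  · rw [CT.classInner_eq_sum (f := a) hcf]
    simp [hm, pow_two]

theorem isSigned_of_norm_one {a : G → ℂ} (ha : Cfsg.IsGeneralizedCharacter G a)
    (h : Cfsg.classInner a a = 1) : IsSigned a := by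
  classical
  obtain ⟨m, -, hexp, hn⟩ := gen_exists_coeff ha
  rw [h] at hn
  have hsum : ∑ χ : Cfsg.IrrCharacter G, m χ ^ 2 = 1 := by exact_mod_cast hn.symm
  obtain ⟨χ₀, hχ₀⟩ : ∃ χ : Cfsg.IrrCharacter G, m χ ≠ 0 := by
    by_contra hh
    push Not at hh
    simp [hh] at hsum
  have h2 := Finset.add_sum_erase (Finset.univ : Finset (Cfsg.IrrCharacter G)) (fun c => m c ^ 2)
    (Finset.mem_univ χ₀)
  have h3 : 0 < m χ₀ ^ 2 := by positivity
  have h4 : 0 ≤ ∑ c ∈ Finset.univ.erase χ₀, m c ^ 2 := Finset.sum_nonneg fun c _ => sq_nonneg _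
  have h5 : ∑ c ∈ Finset.univ.erase χ₀, m c ^ 2 = 0 := by omega
  have h6 : m χ₀ ^ 2 = 1 := by omega
  rw [Finset.sum_eq_zero_iff_of_nonneg fun c _ => sq_nonneg _] at h5
  have ha' : a = (m χ₀ : ℂ) • (χ₀ : G → ℂ) := by
    conv_lhs => rw [hexp]
    exact Finset.sum_eq_single χ₀ (fun b _ hb => by
      simp [sq_eq_zero_iff.mp (h5 b (Finset.mem_erase.mpr ⟨hb, Finset.mem_univ b⟩))]) (by simp)
  rcases sq_eq_one_iff.mp h6 with e | e
  · exact Or.inl (by rw [ha', e]; simpa using χ₀.2)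
  · exact Or.inr (by rw [ha', e]; simpa using χ₀.2)

/-- A virtual character of norm two is the sum of two orthogonal signed irreducibles. -/
theorem gen_norm_two {a : G → ℂ} (ha : Cfsg.IsGeneralizedCharacter G a)
    (h : Cfsg.classInner a a = 2) :
    ∃ x y : G → ℂ, IsSigned x ∧ IsSigned y ∧ Cfsg.classInner x y = 0 ∧ a = x + y := by
  classical
  obtain ⟨m, hm, hexp, hn⟩ := gen_exists_coeff ha
  rw [h] at hn
  have hsum : ∑ χ : Cfsg.IrrCharacter G, m χ ^ 2 = 2 := by exact_mod_cast hn.symm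
  obtain ⟨χ₀, hχ₀⟩ : ∃ χ : Cfsg.IrrCharacter G, m χ ≠ 0 := by
    by_contra hh
    push Not at hh
    simp [hh] at hsum
  have hle : m χ₀ ^ 2 ≤ 2 :=
    hsum ▸ Finset.single_le_sum (f := fun c => m c ^ 2) (fun c _ => sq_nonneg _) (Finset.mem_univ χ₀)
  have hm1 : m χ₀ = 1 ∨ m χ₀ = -1 := by
    have : m χ₀ ≤ 1 := by nlinarith
    have : -1 ≤ m χ₀ := by nlinarith
    omega
  have hx : IsSigned ((m χ₀ : ℂ) • (χ₀ : G → ℂ)) := by
    rcases hm1 with e | e
    · exact Or.inl (by rw [e]; simpa using χ₀.2)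
    · exact Or.inr (by rw [e]; simpa using χ₀.2)
  refine ⟨_, a - (m χ₀ : ℂ) • (χ₀ : G → ℂ), hx,
    isSigned_of_norm_one (CT.isGen_sub ha (isSigned_isGen hx)) ?_, ?_, (add_sub_cancel _ _).symm⟩
  · rw [CT.classInner_sub_left, CT.classInner_sub_right, CT.classInner_sub_right, h, isSigned_norm hx,
      CT.classInner_smul_right, CT.classInner_smul_left, hm,
      ← CT.classInner_conj_symm a (χ₀ : G → ℂ), hm]
    rcases hm1 with e | e <;> simp [e] <;> norm_num
  · rw [CT.classInner_sub_right, isSigned_norm hx, CT.classInner_smul_left,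
      ← CT.classInner_conj_symm a (χ₀ : G → ℂ), hm]
    rcases hm1 with e | e <;> simp [e]

theorem gen_inner_int {a b : G → ℂ} (ha : Cfsg.IsGeneralizedCharacter G a)
    (hb : Cfsg.IsGeneralizedCharacter G b) : ∃ m : ℤ, Cfsg.classInner a b = m :=
  CT.isGen_inner_int ha hb

theorem classInner_zsmul_left (n : ℤ) (a b : G → ℂ) :
    Cfsg.classInner (n • a) b = (n : ℂ) * Cfsg.classInner a b := by
  rw [← Int.cast_smul_eq_zsmul ℂ, CT.classInner_smul_left]

theorem classInner_zsmul_right (n : ℤ) (a b : G → ℂ) :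
    Cfsg.classInner a (n • b) = (n : ℂ) * Cfsg.classInner a b := by
  rw [← Int.cast_smul_eq_zsmul ℂ, CT.classInner_smul_right]
  simp

theorem isGen_int_smul (n : ℤ) {a : G → ℂ} (ha : Cfsg.IsGeneralizedCharacter G a) :
    Cfsg.IsGeneralizedCharacter G (n • a) := by
  rw [← Int.cast_smul_eq_zsmul ℂ]
  exact CT.isGen_zsmul n ha

/-- Pythagoras for an orthogonal finite family with a remainder. -/
theorem bessel {ι : Type v} (s : Finset ι) (Y : ι → G → ℂ) (c : ι → ℂ) (β : G → ℂ)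
    (ho : ∀ i ∈ s, ∀ j ∈ s, i ≠ j → Cfsg.classInner (Y i) (Y j) = 0)
    (hc : ∀ i ∈ s, Cfsg.classInner β (Y i) = c i * Cfsg.classInner (Y i) (Y i)) :
    Cfsg.classInner (β - ∑ i ∈ s, c i • Y i) (β - ∑ i ∈ s, c i • Y i) =
        Cfsg.classInner β β - ∑ i ∈ s, c i * conj (c i) * Cfsg.classInner (Y i) (Y i) ∧
      ∀ i ∈ s, Cfsg.classInner (β - ∑ i ∈ s, c i • Y i) (Y i) = 0 := by
  classical
  have h1 : ∀ i ∈ s, Cfsg.classInner (∑ j ∈ s, c j • Y j) (Y i) =
      c i * Cfsg.classInner (Y i) (Y i) := by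
    intro i hi
    rw [CT.classInner_sum_left, Finset.sum_eq_single i]
    · rw [CT.classInner_smul_left]
    · intro j hj hne
      rw [CT.classInner_smul_left, ho j hj i hi hne, mul_zero]
    · exact fun h => absurd hi h
  have h2 : ∀ i ∈ s, Cfsg.classInner (β - ∑ j ∈ s, c j • Y j) (Y i) = 0 := by
    intro i hi
    rw [CT.classInner_sub_left, h1 i hi, hc i hi, sub_self]
  refine ⟨?_, h2⟩
  obtain ⟨R, hR⟩ : ∃ R, R = β - ∑ j ∈ s, c j • Y j := ⟨_, rfl⟩
  rw [← hR] at h2 ⊢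
  have hR0 : Cfsg.classInner R (∑ i ∈ s, c i • Y i) = 0 := by
    rw [CT.classInner_sum_right]
    exact Finset.sum_eq_zero fun i hi => by rw [CT.classInner_smul_right, h2 i hi, mul_zero]
  have hS : Cfsg.classInner (∑ i ∈ s, c i • Y i) (∑ i ∈ s, c i • Y i) =
      ∑ i ∈ s, c i * conj (c i) * Cfsg.classInner (Y i) (Y i) := by
    rw [CT.classInner_sum_right]
    refine Finset.sum_congr rfl fun i hi => ?_
    rw [CT.classInner_smul_right, h1 i hi]
    ring
  have hβ : β = R + ∑ i ∈ s, c i • Y i := by rw [hR, sub_add_cancel]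
  rw [← hS]
  conv_rhs => rw [hβ]
  rw [CT.classInner_add_left, CT.classInner_add_right, CT.classInner_add_right, hR0,
    isSigned_inner_symm_eq_zero hR0]
  ring

theorem classInner_self_re_nonneg (a : G → ℂ) : 0 ≤ (Cfsg.classInner a a).re := by
  rw [CT.classInner_self, Complex.ofReal_re]
  positivity

theorem eq_zero_of_norm_re {a : G → ℂ} (h : (Cfsg.classInner a a).re = 0) : a = 0 := by
  apply CT.classInner_self_eq_zero
  rw [CT.classInner_self, Complex.ofReal_re] at h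
  rw [CT.classInner_self, h, Complex.ofReal_zero]

end

section Span

variable {X : Type u}

theorem zspan_zero (S : Set (X → ℂ)) : (0 : X → ℂ) ∈ Cfsg.zspan S :=
  Submodule.zero_mem (Submodule.span ℤ S)

theorem zspan_self {S : Set (X → ℂ)} {φ : X → ℂ} (h : φ ∈ S) : φ ∈ Cfsg.zspan S :=
  Submodule.subset_span h

theorem zspan_add {S : Set (X → ℂ)} {a b : X → ℂ} (ha : a ∈ Cfsg.zspan S) (hb : b ∈ Cfsg.zspan S) :
    a + b ∈ Cfsg.zspan S :=
  Submodule.add_mem _ ha hb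

theorem zspan_sub {S : Set (X → ℂ)} {a b : X → ℂ} (ha : a ∈ Cfsg.zspan S) (hb : b ∈ Cfsg.zspan S) :
    a - b ∈ Cfsg.zspan S :=
  Submodule.sub_mem _ ha hb

theorem zspan_smul {S : Set (X → ℂ)} (n : ℤ) {a : X → ℂ} (ha : a ∈ Cfsg.zspan S) :
    n • a ∈ Cfsg.zspan S :=
  Submodule.smul_mem _ n ha

theorem zspan_mono {S T : Set (X → ℂ)} (h : S ⊆ T) : Cfsg.zspan S ⊆ Cfsg.zspan T :=
  fun _ hx => Submodule.span_mono h hx

theorem zspan_induction {S : Set (X → ℂ)} {P : (X → ℂ) → Prop} (hmem : ∀ φ ∈ S, P φ) (h0 : P 0)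
    (hadd : ∀ a ∈ Cfsg.zspan S, ∀ b ∈ Cfsg.zspan S, P a → P b → P (a + b))
    (hsmul : ∀ (n : ℤ), ∀ a ∈ Cfsg.zspan S, P a → P (n • a)) :
    ∀ α ∈ Cfsg.zspan S, P α := by
  intro α hα
  induction hα using Submodule.span_induction with
  | mem φ hφ => exact hmem φ hφ
  | zero => exact h0
  | add a b ha hb iha ihb => exact hadd a ha b hb iha ihb
  | smul n a ha iha => exact hsmul n a ha iha

theorem zspanOn_iff [One X] {S : Set (X → ℂ)} {α : X → ℂ} :
    α ∈ Cfsg.zspanOn S {(1 : X)}ᶜ ↔ α ∈ Cfsg.zspan S ∧ α 1 = 0 :=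
  ⟨fun h => ⟨h.1, h.2 1 (by simp)⟩, fun h => ⟨h.1, fun x hx => by
    simp only [Set.mem_compl_iff, Set.mem_singleton_iff, not_not] at hx
    exact hx ▸ h.2⟩⟩

theorem zspanOn_zero (S : Set (X → ℂ)) (A : Set X) : (0 : X → ℂ) ∈ Cfsg.zspanOn S A :=
  ⟨zspan_zero S, fun _ _ => rfl⟩

theorem zspanOn_sub {S : Set (X → ℂ)} {A : Set X} {a b : X → ℂ} (ha : a ∈ Cfsg.zspanOn S A)
    (hb : b ∈ Cfsg.zspanOn S A) : a - b ∈ Cfsg.zspanOn S A :=
  ⟨zspan_sub ha.1 hb.1, fun x hx => by simp [ha.2 x hx, hb.2 x hx]⟩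

theorem zspanOn_add {S : Set (X → ℂ)} {A : Set X} {a b : X → ℂ} (ha : a ∈ Cfsg.zspanOn S A)
    (hb : b ∈ Cfsg.zspanOn S A) : a + b ∈ Cfsg.zspanOn S A :=
  ⟨zspan_add ha.1 hb.1, fun x hx => by simp [ha.2 x hx, hb.2 x hx]⟩

theorem zspanOn_smul {S : Set (X → ℂ)} {A : Set X} (n : ℤ) {a : X → ℂ} (ha : a ∈ Cfsg.zspanOn S A) :
    n • a ∈ Cfsg.zspanOn S A :=
  ⟨zspan_smul n ha.1, fun x hx => by simp [ha.2 x hx]⟩

theorem zspanOn_mono {S T : Set (X → ℂ)} {A : Set X} (h : S ⊆ T) :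
    Cfsg.zspanOn S A ⊆ Cfsg.zspanOn T A :=
  fun _ ha => ⟨zspan_mono h ha.1, ha.2⟩

end Span

section Iso

variable {L : Type v} [Group L] [Fintype L] [Fintype G] {E : Set (L → ℂ)} {τ : (L → ℂ) → (G → ℂ)}

theorem iso_sub (hτ : Cfsg.IsLinearIsometryOn E τ) {a b : L → ℂ} (ha : a ∈ E) (hb : b ∈ E)
    (hnb : (-1 : ℤ) • b ∈ E) : τ (a - b) = τ a - τ b := by
  rw [show a - b = a + (-1 : ℤ) • b by simp [sub_eq_add_neg], hτ.1 a ha _ hnb, hτ.2.1 b hb]
  simp [sub_eq_add_neg]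

theorem iso_zero (hτ : Cfsg.IsLinearIsometryOn E τ) (h0 : (0 : L → ℂ) ∈ E) : τ 0 = 0 := by
  simpa using hτ.2.1 0 h0 0

theorem iso_zspan_sub {S : Set (L → ℂ)} (hτ : Cfsg.IsLinearIsometryOn (Cfsg.zspan S) τ) {a b : L → ℂ}
    (ha : a ∈ Cfsg.zspan S) (hb : b ∈ Cfsg.zspan S) : τ (a - b) = τ a - τ b :=
  iso_sub hτ ha hb (zspan_smul _ hb)

theorem iso_zspanOn_sub {S : Set (L → ℂ)} {A : Set L}
    (hτ : Cfsg.IsLinearIsometryOn (Cfsg.zspanOn S A) τ) {a b : L → ℂ} (ha : a ∈ Cfsg.zspanOn S A)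
    (hb : b ∈ Cfsg.zspanOn S A) : τ (a - b) = τ a - τ b :=
  iso_sub hτ ha hb (zspanOn_smul _ hb)

/-- The linear extension of chosen images of an orthogonal set. -/
noncomputable def extendMap (T : Finset (L → ℂ)) (X : (L → ℂ) → (G → ℂ)) (α : L → ℂ) : G → ℂ :=
  ∑ φ ∈ T, (Cfsg.classInner α φ / Cfsg.classInner φ φ) • X φ

omit [Fintype G] in
theorem extendMap_add (T : Finset (L → ℂ)) (X : (L → ℂ) → (G → ℂ)) (a b : L → ℂ) :
    extendMap T X (a + b) = extendMap T X a + extendMap T X b := by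
  simp [extendMap, CT.classInner_add_left, add_div, add_smul, Finset.sum_add_distrib]

omit [Fintype G] in
theorem extendMap_zsmul (T : Finset (L → ℂ)) (X : (L → ℂ) → (G → ℂ)) (n : ℤ) (a : L → ℂ) :
    extendMap T X (n • a) = n • extendMap T X a := by
  simp only [extendMap, Finset.smul_sum]
  refine Finset.sum_congr rfl fun φ _ => ?_
  rw [classInner_zsmul_left, ← Int.cast_smul_eq_zsmul ℂ n, smul_smul, mul_div_assoc]

omit [Fintype G] in
theorem extendMap_zero (T : Finset (L → ℂ)) (X : (L → ℂ) → (G → ℂ)) : extendMap T X 0 = 0 := by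
  simp [extendMap]

omit [Fintype G] in
theorem extendMap_self {T : Finset (L → ℂ)} (X : (L → ℂ) → (G → ℂ))
    (ho : ∀ φ ∈ T, ∀ ψ ∈ T, φ ≠ ψ → Cfsg.classInner φ ψ = 0) {φ : L → ℂ} (hφ : φ ∈ T) (h0 : φ ≠ 0) :
    extendMap T X φ = X φ := by
  rw [extendMap, Finset.sum_eq_single φ]
  · rw [div_self (fun h => h0 (CT.classInner_self_eq_zero h)), one_smul]
  · intro b hb hne
    rw [ho φ hφ b hb hne.symm]
    simp
  · exact fun h => absurd hφ h

/-- Chosen images with the right inner products give an isometry on the span. -/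
theorem extendMap_iso {S : Set (L → ℂ)} (T : Finset (L → ℂ)) (hT : S = ↑T) (X : (L → ℂ) → (G → ℂ))
    (ho : ∀ φ ∈ T, ∀ ψ ∈ T, φ ≠ ψ → Cfsg.classInner φ ψ = 0) (h0 : ∀ φ ∈ T, φ ≠ 0)
    (hX : ∀ φ ∈ T, Cfsg.IsGeneralizedCharacter G (X φ))
    (hin : ∀ φ ∈ T, ∀ ψ ∈ T, Cfsg.classInner (X φ) (X ψ) = Cfsg.classInner φ ψ) :
    Cfsg.IsLinearIsometryOn (Cfsg.zspan S) (extendMap T X) := by
  subst hT
  refine ⟨fun a _ b _ => extendMap_add T X a b, fun a _ n => extendMap_zsmul T X n a, ?_, ?_⟩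
  · intro α hα β hβ
    refine zspan_induction (P := fun α => Cfsg.classInner (extendMap T X α) (extendMap T X β) =
      Cfsg.classInner α β) (fun φ hφ => ?_) ?_ (fun a _ b _ ha hb => ?_) (fun n a _ ha => ?_) α hα
    · refine zspan_induction (P := fun β => Cfsg.classInner (extendMap T X φ) (extendMap T X β) =
        Cfsg.classInner φ β) (fun ψ hψ => ?_) ?_ (fun a _ b _ ha hb => ?_) (fun n a _ ha => ?_) β hβ
      · rw [extendMap_self X ho hφ (h0 φ hφ), extendMap_self X ho hψ (h0 ψ hψ)]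
        exact hin φ hφ ψ hψ
      · simp [extendMap_zero]
      · simp [extendMap_add, CT.classInner_add_right, ha, hb]
      · rw [extendMap_zsmul, classInner_zsmul_right, classInner_zsmul_right, ha]
    · simp [extendMap_zero]
    · simp [extendMap_add, CT.classInner_add_left, ha, hb]
    · rw [extendMap_zsmul, classInner_zsmul_left, classInner_zsmul_left, ha]
  · refine zspan_induction (fun φ hφ => ?_) ?_ (fun a _ b _ ha hb => ?_) (fun n a _ ha => ?_)
    · rw [extendMap_self X ho hφ (h0 φ hφ)]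
      exact hX φ hφ
    · rw [extendMap_zero]
      exact CT.isGen_zero
    · rw [extendMap_add]
      exact CT.isGen_add ha hb
    · rw [extendMap_zsmul]
      exact isGen_int_smul n ha

end Iso

end Cfsg.Agent.OddChar
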