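import Cfsg.Agent.Lib.OddChar.Lattice

/-! Properties of coherence systems. -/

namespace Cfsg.Agent.OddChar

open scoped ComplexConjugate

universe u v

variable {L : Type v} [Group L] [Fintype L] {G : Type u} [Group G] [Fintype G]
  {S : Set (L → ℂ)} {τ : (L → ℂ) → (G → ℂ)} {R : (L → ℂ) → Finset (G → ℂ)}

theorem conjFun_one_of_char {χ : L → ℂ} (h : Cfsg.IsCharacter L χ) :
    Cfsg.conjFun χ 1 = χ 1 := by
  obtain ⟨n, hn⟩ := CT.exists_degree h
  simp [Cfsg.conjFun, hn]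

theorem conjFun_conjFun (χ : L → ℂ) : Cfsg.conjFun (Cfsg.conjFun χ) = χ := by
  funext x
  simp [Cfsg.conjFun]

theorem classInner_conjFun_conjFun (a b : L → ℂ) :
    Cfsg.classInner (Cfsg.conjFun a) (Cfsg.conjFun b) = conj (Cfsg.classInner a b) := by
  simp [Cfsg.classInner, Cfsg.conjFun]

theorem cs_ne_zero (hS : Cfsg.IsCoherenceSystem S τ R) {χ : L → ℂ} (h : χ ∈ S) : χ ≠ 0 := by
  rintro rfl
  exact hS.conj_ne 0 h (by funext x; simp [Cfsg.conjFun])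

theorem cs_norm (hS : Cfsg.IsCoherenceSystem S τ R) {χ : L → ℂ} (h : χ ∈ S) :
    ∃ n : ℕ, 0 < n ∧ Cfsg.classInner χ χ = n := by
  obtain ⟨n, hn⟩ := CT.classInner_character_nat (hS.isCharacter χ h) (hS.isCharacter χ h)
  refine ⟨n, Nat.pos_of_ne_zero fun h0 => cs_ne_zero hS h (CT.classInner_self_eq_zero ?_), hn⟩
  rw [hn, h0, Nat.cast_zero]

theorem cs_conj_norm (hS : Cfsg.IsCoherenceSystem S τ R) {χ : L → ℂ} (h : χ ∈ S) :
    Cfsg.classInner (Cfsg.conjFun χ) (Cfsg.conjFun χ) = Cfsg.classInner χ χ := by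
  rw [classInner_conjFun_conjFun, CT.classInner_conj_symm]

theorem cs_diff_mem (hS : Cfsg.IsCoherenceSystem S τ R) {χ φ : L → ℂ} (hχ : χ ∈ S) (hφ : φ ∈ S)
    (h1 : χ 1 = φ 1) : χ - φ ∈ Cfsg.zspanOn S {1}ᶜ :=
  zspanOn_iff.mpr ⟨zspan_sub (zspan_self hχ) (zspan_self hφ), by simp [h1]⟩

theorem cs_conj_diff_mem (hS : Cfsg.IsCoherenceSystem S τ R) {χ : L → ℂ} (hχ : χ ∈ S) :
    χ - Cfsg.conjFun χ ∈ Cfsg.zspanOn S {1}ᶜ :=
  cs_diff_mem hS hχ (hS.conj_mem χ hχ) (conjFun_one_of_char (hS.isCharacter χ hχ)).symm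

theorem cs_R_norm (hS : Cfsg.IsCoherenceSystem S τ R) {χ : L → ℂ} (hχ : χ ∈ S) :
    Cfsg.classInner (χ - Cfsg.conjFun χ) (χ - Cfsg.conjFun χ) = 2 * Cfsg.classInner χ χ := by
  rw [CT.classInner_sub_left, CT.classInner_sub_right, CT.classInner_sub_right,
    hS.orthogonal χ hχ _ (hS.conj_mem χ hχ) (hS.conj_ne χ hχ).symm,
    hS.orthogonal _ (hS.conj_mem χ hχ) χ hχ (hS.conj_ne χ hχ), cs_conj_norm hS hχ]
  ring

theorem cs_sum_R_norm (hS : Cfsg.IsCoherenceSystem S τ R) {χ : L → ℂ} (hχ : χ ∈ S) :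
    Cfsg.classInner (τ (χ - Cfsg.conjFun χ)) (τ (χ - Cfsg.conjFun χ)) = (R χ).card := by
  classical
  rw [hS.sum_eq χ hχ, CT.classInner_sum_left,
    Finset.sum_congr rfl (g := fun _ => (1 : ℂ)) fun a ha => ?_]
  · simp
  rw [CT.classInner_sum_right, Finset.sum_congr rfl fun b hb => hS.orthonormal χ hχ a ha b hb,
    Finset.sum_ite_eq, if_pos ha]

/-- Projection of a virtual character on `R χ`. -/
theorem cs_projection (hS : Cfsg.IsCoherenceSystem S τ R) {χ : L → ℂ} (hχ : χ ∈ S) {T : G → ℂ}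
    (hT : Cfsg.IsGeneralizedCharacter G T) {n : ℤ}
    (hn : Cfsg.classInner T (τ (χ - Cfsg.conjFun χ)) = n) :
    ∃ c : (G → ℂ) → ℤ, (∀ α ∈ R χ, Cfsg.classInner T α = c α) ∧ ∑ α ∈ R χ, c α = n ∧
      n ≤ ∑ α ∈ R χ, c α ^ 2 ∧
      (∑ α ∈ R χ, c α ^ 2 ≤ n → ∀ α ∈ R χ, c α = 0 ∨ c α = 1) := by
  classical
  have hex : ∀ α : G → ℂ, ∃ m : ℤ, α ∈ R χ → Cfsg.classInner T α = m := by
    intro α
    by_cases h : α ∈ R χ
    · obtain ⟨m, hm⟩ := gen_inner_int hT (hS.virtual χ hχ α h)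
      exact ⟨m, fun _ => hm⟩
    · exact ⟨0, fun h' => absurd h' h⟩
  choose c hc using hex
  have hsum : ∑ α ∈ R χ, c α = n := by
    rw [hS.sum_eq χ hχ, CT.classInner_sum_right, Finset.sum_congr rfl hc] at hn
    exact_mod_cast hn
  have hle : ∀ z : ℤ, z ≤ z ^ 2 := by
    intro z
    rcases le_or_gt z 0 with h | h <;> nlinarith
  refine ⟨c, hc, hsum, hsum ▸ Finset.sum_le_sum fun α _ => hle (c α), fun h α hα => ?_⟩
  rw [← hsum] at h
  have heq := (Finset.sum_eq_sum_iff_of_le fun α _ => hle (c α)).mp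
    (le_antisymm (Finset.sum_le_sum fun α _ => hle (c α)) h) α hα
  have : c α * (c α - 1) = 0 := by linarith [show c α ^ 2 = c α * c α by ring]
  rcases mul_eq_zero.mp this with h1 | h1
  · exact Or.inl h1
  · exact Or.inr (by omega)

/-- The projection has norm the sum of squares and an orthogonal remainder. -/
theorem cs_projection_norm (hS : Cfsg.IsCoherenceSystem S τ R) {χ : L → ℂ} (hχ : χ ∈ S)
    {T : G → ℂ} (c : (G → ℂ) → ℤ) (hc : ∀ α ∈ R χ, Cfsg.classInner T α = c α) :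
    Cfsg.classInner (∑ α ∈ R χ, (c α : ℂ) • α) (∑ α ∈ R χ, (c α : ℂ) • α) =
        ((∑ α ∈ R χ, c α ^ 2 : ℤ) : ℂ) ∧
      Cfsg.classInner (T - ∑ α ∈ R χ, (c α : ℂ) • α) (T - ∑ α ∈ R χ, (c α : ℂ) • α) =
        Cfsg.classInner T T - ((∑ α ∈ R χ, c α ^ 2 : ℤ) : ℂ) ∧
      (∀ α ∈ R χ, Cfsg.classInner (T - ∑ α ∈ R χ, (c α : ℂ) • α) α = 0) := by
  classical
  have hb := bessel (R χ) id (fun α => (c α : ℂ)) T
    (fun i hi j hj hne => by
      simp only [id_eq]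
      rw [hS.orthonormal χ hχ i hi j hj, if_neg hne])
    (fun i hi => by
      simp only [id_eq]
      rw [hS.orthonormal χ hχ i hi i hi, if_pos rfl, mul_one, hc i hi])
  simp only [id_eq] at hb
  refine ⟨?_, ?_, hb.2⟩
  · rw [CT.classInner_sum_left]
    push_cast
    refine Finset.sum_congr rfl fun i hi => ?_
    rw [CT.classInner_smul_left, CT.classInner_sum_right, Finset.sum_eq_single i]
    · rw [CT.classInner_smul_right, hS.orthonormal χ hχ i hi i hi, if_pos rfl]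
      simp [pow_two]
    · intro j hj hne
      rw [CT.classInner_smul_right, hS.orthonormal χ hχ i hi j hj, if_neg hne.symm, mul_zero]
    · exact fun h => absurd hi h
  · rw [hb.1]
    push_cast
    congr 1
    refine Finset.sum_congr rfl fun i hi => ?_
    rw [hS.orthonormal χ hχ i hi i hi, if_pos rfl]
    simp [pow_two]

theorem cs_finite (hS : Cfsg.IsCoherenceSystem S τ R) : S.Finite := by
  classical
  have hli : LinearIndependent ℂ (fun φ : S => (φ : L → ℂ)) := by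
    rw [linearIndependent_iff']
    intro s g hsum i hi
    have := congrArg (fun f => Cfsg.classInner f (i : L → ℂ)) hsum
    simp only [CT.classInner_sum_left, CT.classInner_smul_left, CT.classInner_zero_left] at this
    rw [Finset.sum_eq_single i] at this
    · rcases mul_eq_zero.mp this with h | h
      · exact h
      · exact absurd (CT.classInner_self_eq_zero h) (cs_ne_zero hS i.2)
    · intro j _ hne
      rw [hS.orthogonal j j.2 i i.2 (fun e => hne (Subtype.ext e)), mul_zero]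
    · exact fun h => absurd hi h
  have := hli.finite
  exact Set.toFinite S

/-- Coherence criterion from images with the correct inner products. -/
theorem isCoherent_of_images {T : Finset (L → ℂ)} (X : (L → ℂ) → (G → ℂ))
    {S' : Set (L → ℂ)} (hT : S' = ↑T)
    (ho : ∀ φ ∈ T, ∀ ψ ∈ T, φ ≠ ψ → Cfsg.classInner φ ψ = 0) (h0 : ∀ φ ∈ T, φ ≠ 0)
    (hX : ∀ φ ∈ T, Cfsg.IsGeneralizedCharacter G (X φ))
    (hin : ∀ φ ∈ T, ∀ ψ ∈ T, Cfsg.classInner (X φ) (X ψ) = Cfsg.classInner φ ψ)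
    (hne : ∃ α ∈ Cfsg.zspanOn S' {1}ᶜ, α ≠ 0)
    (hag : ∀ α ∈ Cfsg.zspanOn S' {1}ᶜ, extendMap T X α = τ α) :
    Cfsg.IsCoherent S' {1}ᶜ τ :=
  ⟨hne, extendMap T X, extendMap_iso T hT X ho h0 hX hin, hag⟩

/-- The image of a member of a coherent part is a partial sum of its `R`. -/
theorem cs_coherent_image (hS : Cfsg.IsCoherenceSystem S τ R) {S₁ : Set (L → ℂ)} (hsub : S₁ ⊆ S)
    {τ₁ : (L → ℂ) → (G → ℂ)} (hτ₁ : Cfsg.IsLinearIsometryOn (Cfsg.zspan S₁) τ₁)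
    (hag : ∀ α ∈ Cfsg.zspanOn S₁ {1}ᶜ, τ₁ α = τ α) {φ : L → ℂ} (hφ : φ ∈ S₁)
    (hφc : Cfsg.conjFun φ ∈ S₁) {b : G → ℂ}
    (hb : ∀ α ∈ R φ, Cfsg.classInner α b = 0) : Cfsg.classInner (τ₁ φ) b = 0 := by
  classical
  have hφS := hsub hφ
  obtain ⟨n, -, hn⟩ := cs_norm hS hφS
  have hmem : φ - Cfsg.conjFun φ ∈ Cfsg.zspanOn S₁ {1}ᶜ :=
    zspanOn_iff.mpr ⟨zspan_sub (zspan_self hφ) (zspan_self hφc),
      by simp [conjFun_one_of_char (hS.isCharacter φ hφS)]⟩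
  have h1 : Cfsg.classInner (τ₁ φ) (τ (φ - Cfsg.conjFun φ)) = ((n : ℤ) : ℂ) := by
    rw [← hag _ hmem, hτ₁.2.2.1 _ (zspan_self hφ) _ hmem.1, CT.classInner_sub_right,
      hS.orthogonal φ hφS _ (hS.conj_mem φ hφS) (hS.conj_ne φ hφS).symm, hn]
    simp
  obtain ⟨c, hc, -, hle, -⟩ := cs_projection hS hφS (hτ₁.2.2.2 _ (zspan_self hφ)) h1
  obtain ⟨-, hnorm, -⟩ := cs_projection_norm hS hφS c hc
  rw [hτ₁.2.2.1 _ (zspan_self hφ) _ (zspan_self hφ), hn] at hnorm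
  have hz : τ₁ φ - ∑ α ∈ R φ, (c α : ℂ) • α = 0 := by
    apply eq_zero_of_norm_re
    have h2 := classInner_self_re_nonneg (τ₁ φ - ∑ α ∈ R φ, (c α : ℂ) • α)
    rw [hnorm] at h2 ⊢
    have h3 : ((n : ℤ) : ℝ) ≤ ((∑ α ∈ R φ, c α ^ 2 : ℤ) : ℝ) := Int.cast_le.mpr hle
    simp only [Complex.sub_re, Complex.natCast_re, Complex.intCast_re, Int.cast_natCast] at h2 h3 ⊢
    linarith
  rw [sub_eq_zero] at hz
  rw [hz, CT.classInner_sum_left]
  exact Finset.sum_eq_zero fun α hα => by rw [CT.classInner_smul_left, hb α hα, mul_zero]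

/-- Signed irreducible images in an isometry on irreducibles. -/
theorem isometry_signed {τ₁ : (L → ℂ) → (G → ℂ)} {S₁ : Set (L → ℂ)}
    (hτ₁ : Cfsg.IsLinearIsometryOn (Cfsg.zspan S₁) τ₁) {χ : L → ℂ} (hχ : χ ∈ S₁)
    (hirr : Cfsg.IsIrrCharacter L χ) : IsSigned (τ₁ χ) :=
  isSigned_of_norm_one (hτ₁.2.2.2 χ (zspan_self hχ))
    (by rw [hτ₁.2.2.1 χ (zspan_self hχ) χ (zspan_self hχ), CT.irr_inner_self hirr])

/-- A degree-zero combination of two characters. -/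
theorem deg_comb_mem {S₁ : Set (L → ℂ)} {χ ψ : L → ℂ} (hχ : χ ∈ S₁) (hψ : ψ ∈ S₁) {a b : ℕ}
    (ha : χ 1 = a) (hb : ψ 1 = b) :
    (b : ℤ) • χ - (a : ℤ) • ψ ∈ Cfsg.zspanOn S₁ {1}ᶜ :=
  zspanOn_iff.mpr ⟨zspan_sub (zspan_smul _ (zspan_self hχ)) (zspan_smul _ (zspan_self hψ)),
    by simp [ha, hb, mul_comm]⟩

end Cfsg.Agent.OddChar
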