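import Cfsg.Agent.Lib.OddChar.CliffordExtra
import Cfsg.Agent.Lib.OddChar.Coherence
import Cfsg.Agent.Lib.Basics.Frattini
import Cfsg.Agent.Lib.Basics.ThompsonFpf
import Cfsg.Agent.Lib.LocalEvenB.Basic

/-! The family of characters of degree `[M : N]` of a Frobenius group with nilpotent kernel `N`. -/

set_option linter.style.haveILetI false

namespace Cfsg.Agent.OddChar

universe u

variable {M : Type u} [Group M] [Fintype M] (N : Subgroup M)

/-- The properties of the family used in counting arguments. -/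
structure FrobFam (T : Finset (M → ℂ)) : Prop where
  irr : ∀ ξ ∈ T, Cfsg.IsIrrCharacter M ξ
  supp : ∀ ξ ∈ T, ∀ x : M, x ∉ N → ξ x = 0
  deg : ∀ ξ ∈ T, ξ 1 = (N.index : ℂ)
  conj : ∀ ξ ∈ T, Cfsg.conjFun ξ ∈ T ∧ Cfsg.conjFun ξ ≠ ξ
  orth_one : ∀ ξ ∈ T, Cfsg.classInner (Cfsg.indFun N fun _ => (1 : ℂ)) ξ = 0
  card_mul : T.card * N.index + 1 = (commutator N).index
  nonempty : T.Nonempty

theorem comm_of_isCyclic_commutator_quotient {X : Type u} [Group X] [Finite X] [Group.IsNilpotent X]
    (h : (commutator X).index.Prime) : ∀ a b : X, a * b = b * a := by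
  haveI : Fact (Nat.Prime (Nat.card (X ⧸ commutator X))) := ⟨Subgroup.index_eq_card (commutator X) ▸ h⟩
  haveI hc : IsCyclic (X ⧸ commutator X) := isCyclic_of_prime_card rfl
  obtain ⟨g, hg⟩ := hc.exists_generator
  obtain ⟨x, rfl⟩ := QuotientGroup.mk_surjective g
  have htop : Subgroup.zpowers x ⊔ frattini X = ⊤ := by
    rw [eq_top_iff]
    intro y _
    obtain ⟨k, hk⟩ := Subgroup.mem_zpowers_iff.mp (hg (y : X ⧸ commutator X))
    rw [← QuotientGroup.mk_zpow, QuotientGroup.eq] at hk
    rw [show y = x ^ k * ((x ^ k)⁻¹ * y) by group]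
    exact Subgroup.mul_mem_sup (Subgroup.zpow_mem_zpowers x k) (Basics.commutator_le_frattini hk)
  have := frattini_nongenerating htop
  intro a b
  obtain ⟨i, rfl⟩ := Subgroup.mem_zpowers_iff.mp (this ▸ Subgroup.mem_top a : a ∈ Subgroup.zpowers x)
  obtain ⟨j, rfl⟩ := Subgroup.mem_zpowers_iff.mp (this ▸ Subgroup.mem_top b : b ∈ Subgroup.zpowers x)
  rw [← zpow_add, ← zpow_add, add_comm]

variable [hN : N.Normal]

theorem indFun_one_apply (x : M) [Decidable (x ∈ N)] :
    Cfsg.indFun N (fun _ => (1 : ℂ)) x = if x ∈ N then (N.index : ℂ) else 0 := by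
  split_ifs with hx
  · rw [show x = ((⟨x, hx⟩ : N) : M) from rfl, CT.indFun_apply_normal]
    simp only [CT.conjFun, Finset.sum_const, Finset.card_univ, nsmul_eq_mul, mul_one,
      ← Nat.card_eq_fintype_card]
    rw [← N.card_mul_index]
    push_cast
    field_simp [Nat.cast_ne_zero.mpr (Nat.card_pos (α := N)).ne']
  · exact CT.indFun_eq_zero_of_not_mem N _ hx

theorem norm_indFun_one :
    Cfsg.classInner (Cfsg.indFun N fun _ => (1 : ℂ)) (Cfsg.indFun N fun _ => (1 : ℂ)) = (N.index : ℂ) := by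
  have h := CT.card_mul_inner_indFun N (CT.isIrrCharacter_one (G := N))
  have hI : CT.inertia N (fun _ : N => (1 : ℂ)) = ⊤ := eq_top_iff.mpr fun g _ => rfl
  rw [hI, Subgroup.card_top, ← N.card_mul_index, Nat.cast_mul] at h
  exact mul_left_cancel₀ (Nat.cast_ne_zero.mpr Nat.card_pos.ne') h

variable (hC : ∀ n ∈ N, n ≠ 1 → Subgroup.centralizer ({n} : Set M) ≤ N)
include hC

theorem frob_inertia {θ : N → ℂ} (hθ : Cfsg.IsIrrCharacter N θ) (hne : θ ≠ fun _ => 1) :
    CT.inertia N θ = N := by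
  refine le_antisymm (fun g hg => ?_) (CT.le_inertia N (CT.isClassFunction_of_isIrr hθ))
  obtain ⟨k, hk, hk1, h, hh, e⟩ := (exists_fixed_irr_iff N g).mp ⟨θ, hθ, hne, hg⟩
  have h1 : h⁻¹ * g ∈ N := by
    refine hC k hk hk1 (Subgroup.mem_centralizer_singleton_iff.mpr ?_)
    calc h⁻¹ * g * k = h⁻¹ * (g * k * g⁻¹) * g := by group
      _ = k * (h⁻¹ * g) := by rw [e]; group
  simpa using N.mul_mem hh h1

theorem frob_nilpotent (hN1 : N ≠ ⊥) (hNt : N ≠ ⊤) : Group.IsNilpotent N := by
  obtain ⟨p, hp, hpd⟩ := Nat.exists_prime_and_dvd (fun h => hNt (Subgroup.index_eq_one.mp h))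
  haveI := Fact.mk hp
  have hcop : ¬ p ∣ Nat.card N := by
    intro hpN
    let P : Sylow p M := default
    obtain ⟨x, hx⟩ := exists_prime_orderOf_dvd_card' (G := N) p hpN
    have hxM : orderOf (x : M) = p := by rw [Subgroup.orderOf_coe, hx]
    obtain ⟨Q, hQ⟩ := (show IsPGroup p (Subgroup.zpowers (x : M)) from
      IsPGroup.of_card (n := 1) (by rw [Nat.card_zpowers, hxM, pow_one])).exists_le_sylow
    haveI : (N.subgroupOf (Q : Subgroup M)).Normal := inferInstance
    haveI : Nontrivial (N.subgroupOf (Q : Subgroup M)) := by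
      rw [Subgroup.nontrivial_iff_exists_ne_one]
      refine ⟨⟨x, hQ (Subgroup.mem_zpowers _)⟩, by simpa [Subgroup.mem_subgroupOf] using x.2, fun e => ?_⟩
      have : (x : M) = 1 := congrArg Subtype.val e
      rw [this, orderOf_one] at hxM
      exact hp.one_lt.ne hxM
    have hk := Q.2
    haveI : Nontrivial (Q : Subgroup M) := Subtype.coe_injective.nontrivial (α := N.subgroupOf (Q : Subgroup M))
    haveI := hk.isNilpotent
    obtain ⟨z, hzN, hzc, hz1⟩ := LocalEvenB.exists_mem_center_ne_one (N.subgroupOf (Q : Subgroup M))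
      ((Subgroup.nontrivial_iff_ne_bot _).mp inferInstance)
    have hQN : (Q : Subgroup M) ≤ N := fun q hq => hC z hzN (fun e => hz1 (Subtype.ext e))
      (Subgroup.mem_centralizer_singleton_iff.mpr
        (congrArg Subtype.val (Subgroup.mem_center_iff.mp hzc ⟨q, hq⟩)))
    exact Q.not_dvd_index (hpd.trans (Subgroup.index_dvd_of_le hQN))
  obtain ⟨x, hx⟩ := exists_prime_orderOf_dvd_card' (G := M) p (hpd.trans (Subgroup.index_dvd_card N))
  refine Basics.isNilpotent_of_conj_fpf N (x := x) (p := p) hx fun n hn hcomm => ?_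
  by_contra hne
  have hxN : x ∈ N := hC n hn hne (Subgroup.mem_centralizer_singleton_iff.mpr hcomm)
  exact hcop (hx ▸ Subgroup.orderOf_dvd_natCard N hxN)

theorem exists_frobFam (hodd : Odd (Nat.card M)) (hnil : Group.IsNilpotent N) (hN1 : N ≠ ⊥) :
    ∃ T : Finset (M → ℂ), FrobFam N T := by
  classical
  haveI := Fintype.ofFinite N
  haveI := hnil
  haveI : Nontrivial N := (Subgroup.nontrivial_iff_ne_bot N).mpr hN1
  haveI : Finite (Cfsg.IrrCharacter N) := CT.irr_finite N
  haveI := Fintype.ofFinite (Cfsg.IrrCharacter N)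
  let Lin : Finset (Cfsg.IrrCharacter N) :=
    Finset.univ.filter fun θ => (θ : N → ℂ) 1 = 1 ∧ (θ : N → ℂ) ≠ fun _ => 1
  let T : Finset (M → ℂ) := Lin.image fun θ : Cfsg.IrrCharacter N => Cfsg.indFun N (θ : N → ℂ)
  have hmem : ∀ ξ ∈ T, ∃ θ : Cfsg.IrrCharacter N, (θ : N → ℂ) 1 = 1 ∧ (θ : N → ℂ) ≠ (fun _ => 1) ∧
      ξ = Cfsg.indFun N θ := by
    intro ξ hξ
    obtain ⟨θ, hθ, rfl⟩ := Finset.mem_image.mp hξ
    exact ⟨θ, (Finset.mem_filter.mp hθ).2.1, (Finset.mem_filter.mp hθ).2.2, rfl⟩
  have hconjone : ∀ g, CT.conjFun N g (fun _ : N => (1 : ℂ)) = fun _ => 1 := fun g => rfl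
  have hlin : Lin.card + 1 = (commutator N).index := by
    rw [← CT.card_linear_irr, Nat.card_eq_fintype_card, Fintype.card_subtype,
      show Finset.univ.filter (fun χ : Cfsg.IrrCharacter N => (χ : N → ℂ) 1 = 1) = insert (CT.trivIrr N) Lin from ?_,
      Finset.card_insert_of_notMem (by simp [Lin, funext_iff])]
    ext θ
    simp only [Finset.mem_filter, Finset.mem_univ, true_and, Finset.mem_insert, Lin]
    constructor
    · intro h
      by_cases e : (θ : N → ℂ) = fun _ => 1
      · exact Or.inl (Subtype.ext e)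
      · exact Or.inr ⟨h, e⟩
    · rintro (rfl | ⟨h, -⟩)
      · rfl
      · exact h
  have hcard : Lin.card = T.card * N.index := by
    rw [Finset.card_eq_sum_card_image (fun θ : Cfsg.IrrCharacter N => Cfsg.indFun N (θ : N → ℂ)) Lin]
    rw [Finset.sum_congr rfl (g := fun _ => N.index), Finset.sum_const, smul_eq_mul]
    intro ξ hξ
    obtain ⟨θ, h1, hne, rfl⟩ := hmem ξ hξ
    let O : M ⧸ N → Cfsg.IrrCharacter N := fun q =>
      ⟨CT.conjFun N q.out⁻¹ θ, CT.isIrrCharacter_conjFun N _ θ.2⟩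
    have hO : Function.Injective O := by
      intro p q e
      have e' : CT.conjFun N p.out⁻¹ (θ : N → ℂ) = CT.conjFun N q.out⁻¹ θ := congrArg Subtype.val e
      have h2 : p.out⁻¹ * q.out ∈ CT.inertia N (θ : N → ℂ) := by
        rw [CT.mem_inertia, CT.conjFun_mul, e', ← CT.conjFun_mul, inv_mul_cancel, CT.conjFun_one]
      rw [frob_inertia N hC θ.2 hne] at h2
      rw [← p.out_eq', ← q.out_eq']
      exact QuotientGroup.eq.mpr h2
    have himg : Lin.filter (fun φ : Cfsg.IrrCharacter N => Cfsg.indFun N (φ : N → ℂ) = Cfsg.indFun N θ) =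
        Finset.univ.image O := by
      ext φ
      simp only [Finset.mem_filter, Finset.mem_image, Finset.mem_univ, true_and, Lin]
      constructor
      · rintro ⟨⟨hφ1, hφ2⟩, he⟩
        by_contra hno
        push Not at hno
        have horth := indFun_orth N θ.2 φ.2 fun g hg => by
          obtain ⟨n, hn⟩ := QuotientGroup.mk_out_eq_mul N g⁻¹
          refine hno (g⁻¹ : M) (Subtype.ext ?_)
          show CT.conjFun N ((g⁻¹ : M) : M ⧸ N).out⁻¹ θ = φ
          rw [hn, mul_inv_rev, inv_inv, CT.conjFun_mul,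
            CT.conjFun_of_mem N (CT.isClassFunction_of_isIrr θ.2) (N.inv_mem n.2), hg]
        rw [he] at horth
        exact one_ne_zero ((CT.irr_inner_self (CT.isIrr_indFun_of_inertia N θ.2
          (frob_inertia N hC θ.2 hne))).symm.trans horth)
      · rintro ⟨q, rfl⟩
        refine ⟨⟨?_, fun e => hne ?_⟩, indFun_conjFun N θ q.out⁻¹⟩
        · show CT.conjFun N q.out⁻¹ (θ : N → ℂ) 1 = 1
          rw [CT.conjFun]
          convert h1 using 2
          exact Subtype.ext (by simp)
        · have e' : CT.conjFun N q.out⁻¹ (θ : N → ℂ) = fun _ => 1 := e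
          have := congrArg (CT.conjFun N q.out) e'
          rw [← CT.conjFun_mul, inv_mul_cancel, CT.conjFun_one, hconjone] at this
          exact this
    rw [himg, Finset.card_image_of_injective _ hO, Finset.card_univ, ← Nat.card_eq_fintype_card,
      Subgroup.index_eq_card]
  have hne : T.Nonempty := by
    rw [Finset.image_nonempty, ← Finset.card_pos]
    have h2 : (commutator N).index ≠ 1 := by
      rw [Ne, Subgroup.index_eq_one]
      intro h
      have := Basics.commutator_le_frattini (G := N)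
      rw [h, top_le_iff] at this
      have h3 := frattini_nongenerating (G := N) (K := ⊥) (by rw [this, sup_top_eq])
      exact bot_ne_top h3
    have := (commutator N).index_ne_zero_of_finite
    omega
  refine ⟨T, ⟨fun ξ hξ => ?_, fun ξ hξ x hx => ?_, fun ξ hξ => ?_, fun ξ hξ => ?_, fun ξ hξ => ?_,
    by rw [← hcard]; exact hlin, hne⟩⟩
  · obtain ⟨θ, -, hθ, rfl⟩ := hmem ξ hξ
    exact CT.isIrr_indFun_of_inertia N θ.2 (frob_inertia N hC θ.2 hθ)
  · obtain ⟨θ, -, -, rfl⟩ := hmem ξ hξ
    exact CT.indFun_eq_zero_of_not_mem N _ hx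
  · obtain ⟨θ, h1, -, rfl⟩ := hmem ξ hξ
    rw [CT.indFun_one_eval, h1, mul_one]
  · obtain ⟨θ, h1, hθ, rfl⟩ := hmem ξ hξ
    have hirr := CT.isIrr_indFun_of_inertia N θ.2 (frob_inertia N hC θ.2 hθ)
    obtain ⟨lam, hlam⟩ := CT.exists_hom_of_degree_one (CT.isCharacter_of_isIrr θ.2) h1
    have hc : Cfsg.conjFun (Cfsg.indFun N (θ : N → ℂ)) = Cfsg.indFun N (Cfsg.conjFun (θ : N → ℂ)) := by
      funext g
      show (starRingEnd ℂ) (Cfsg.indFun N (θ : N → ℂ) g) = _
      simp only [Cfsg.indFun, map_mul, map_inv₀, map_natCast, map_sum]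
      congr 1
      refine Finset.sum_congr rfl fun x _ => ?_
      by_cases hx : x⁻¹ * g * x ∈ N
      · rw [CT.extendByZero_mem N _ hx, CT.extendByZero_mem N _ hx]; rfl
      · rw [CT.extendByZero_not_mem N _ hx, CT.extendByZero_not_mem N _ hx, map_zero]
    refine ⟨Finset.mem_image.mpr ⟨⟨Cfsg.conjFun (θ : N → ℂ), ?_⟩, ?_, hc.symm⟩, fun e => ?_⟩
    · refine CT.isIrr_of_inner_self (CT.isCharacter_conj (CT.isCharacter_of_isIrr θ.2)) ?_
      rw [classInner_conjFun_conjFun, CT.irr_inner_self θ.2, map_one]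
    · simp only [Finset.mem_filter, Finset.mem_univ, true_and, Lin]
      refine ⟨by simp [Cfsg.conjFun, h1], fun e => hθ (funext fun n => ?_)⟩
      have := congrFun e n
      simp only [Cfsg.conjFun] at this
      rw [← Complex.conj_conj ((θ : N → ℂ) n), this, map_one]
    · have ht := CT.real_irr_eq_one_of_odd hodd (χ := ⟨_, hirr⟩) fun g => by
        have := congrFun e g
        exact Complex.conj_eq_iff_im.mp this
      have ht' : Cfsg.indFun N (θ : N → ℂ) = fun _ => (1 : ℂ) := congrArg Subtype.val ht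
      by_cases htop : N = ⊤
      · haveI : Nontrivial N := inferInstance
        have hr := CT.real_irr_eq_one_of_odd (G := N) (hodd.of_dvd_nat (Subgroup.card_subgroup_dvd_card N))
          (χ := θ) fun n => by
          have hi := congrFun ht' (n : M)
          rw [CT.indFun_apply_normal] at hi
          simp only [CT.conjFun_of_mem N (CT.isClassFunction_of_isIrr θ.2) (htop ▸ Subgroup.mem_top _)] at hi
          rw [Finset.sum_const, Finset.card_univ, ← Nat.card_eq_fintype_card, nsmul_eq_mul,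
            show Nat.card M = Nat.card N by rw [htop, Subgroup.card_top], ← mul_assoc,
            inv_mul_cancel₀ (Nat.cast_ne_zero.mpr Nat.card_pos.ne'), one_mul] at hi
          rw [hi]; simp
        exact hθ (congrArg Subtype.val hr)
      · obtain ⟨g, -, hg⟩ := SetLike.not_le_iff_exists.mp (fun h : (⊤ : Subgroup M) ≤ N => htop (top_le_iff.mp h))
        have := congrFun ht' g
        rw [CT.indFun_eq_zero_of_not_mem N _ hg] at this
        exact zero_ne_one this
  · obtain ⟨θ, -, hθ, rfl⟩ := hmem ξ hξ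
    exact indFun_orth N θ.2 CT.isIrrCharacter_one fun g e => by
      have := congrArg (CT.conjFun N g⁻¹) e
      rw [← CT.conjFun_mul, mul_inv_cancel, CT.conjFun_one, hconjone] at this
      exact hθ this

theorem frobFam_two_le (T : Finset (M → ℂ)) (hT : FrobFam N T) : 2 ≤ T.card ∧ Even T.card := by
  classical
  have hev : Even T.card := by
    have h : (T.card : ZMod 2) = 0 := by
      have : ∑ _ξ ∈ T, (1 : ZMod 2) = 0 :=
        Finset.sum_involution (fun ξ _ => Cfsg.conjFun ξ) (fun _ _ => by decide)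
          (fun ξ hξ _ => (hT.conj ξ hξ).2) (fun ξ hξ => (hT.conj ξ hξ).1)
          (fun ξ _ => conjFun_conjFun ξ)
      simpa using this
    exact ZMod.natCast_eq_zero_iff_even.mp h
  refine ⟨?_, hev⟩
  have := hT.nonempty.card_pos
  rcases hev with ⟨k, hk⟩
  omega

end Cfsg.Agent.OddChar
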