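import Cfsg.Agent.Lib.OddChar.Lattice
import Cfsg.Agent.Lib.OddChar.Coherence
import Cfsg.Agent.Lib.CT.Tables

/-! Counting with several disjoint exceptional blocks in a group of odd order. -/

set_option linter.style.haveILetI false

namespace Cfsg.Agent.OddChar

open scoped ComplexConjugate

universe u v

variable {G : Type u} [Group G] [Fintype G]

theorem conjFun_irr {χ : G → ℂ} (h : Cfsg.IsIrrCharacter G χ) :
    Cfsg.IsIrrCharacter G (Cfsg.conjFun χ) :=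
  CT.isIrr_of_inner_self (CT.isCharacter_conj (CT.isCharacter_of_isIrr h))
    (by rw [classInner_conjFun_conjFun, CT.irr_inner_self h, map_one])

/-- Real virtual characters orthogonal to the principal one have even inner product. -/
theorem even_inner_of_real (hodd : Odd (Nat.card G)) {a b : G → ℂ}
    (ha : Cfsg.IsGeneralizedCharacter G a) (hb : Cfsg.IsGeneralizedCharacter G b)
    (ha1 : Cfsg.classInner a (fun _ => 1) = 0) (har : Cfsg.conjFun a = a) (hbr : Cfsg.conjFun b = b) :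
    ∃ k : ℤ, Cfsg.classInner a b = ((2 * k : ℤ) : ℂ) := by
  classical
  obtain ⟨m, hm, -, -⟩ := gen_exists_coeff ha
  obtain ⟨n, hn, -, -⟩ := gen_exists_coeff hb
  have hsum : Cfsg.classInner a b = ((∑ χ : Cfsg.IrrCharacter G, m χ * n χ : ℤ) : ℂ) := by
    rw [CT.classInner_eq_sum (f := a) (CT.isClassFunction_of_isGen hb)]
    simp [hm, hn]
  let σ : Cfsg.IrrCharacter G → Cfsg.IrrCharacter G := fun χ => ⟨Cfsg.conjFun χ, conjFun_irr χ.2⟩
  have hσ : ∀ {c : G → ℂ} {k : Cfsg.IrrCharacter G → ℤ}, Cfsg.conjFun c = c →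
      (∀ χ : Cfsg.IrrCharacter G, Cfsg.classInner c χ = k χ) → ∀ χ, k (σ χ) = k χ := by
    intro c k hc hk χ
    have h := hk (σ χ)
    rw [show ((σ χ : Cfsg.IrrCharacter G) : G → ℂ) = Cfsg.conjFun χ from rfl, ← hc,
      classInner_conjFun_conjFun, hk χ, map_intCast] at h
    exact_mod_cast h.symm
  have hz : ((∑ χ : Cfsg.IrrCharacter G, m χ * n χ : ℤ) : ZMod 2) = 0 := by
    push_cast
    refine Finset.sum_involution (fun χ _ => σ χ) (fun χ _ => ?_) (fun χ _ hne e => ?_)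
      (fun χ _ => Finset.mem_univ _) (fun χ _ => Subtype.ext (conjFun_conjFun _))
    · rw [hσ har hm, hσ hbr hn]
      exact CharTwo.add_self_eq_zero _
    · have hreal := CT.real_irr_eq_one_of_odd hodd (χ := χ) fun g =>
        Complex.conj_eq_iff_im.mp (congrFun (congrArg Subtype.val e) g)
      subst hreal
      have h0 := hm (CT.trivIrr G)
      rw [show ((CT.trivIrr G : Cfsg.IrrCharacter G) : G → ℂ) = fun _ => (1 : ℂ) from rfl, ha1] at h0
      have : m (CT.trivIrr G) = 0 := by exact_mod_cast h0.symm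
      rw [this] at hne
      simp at hne
  obtain ⟨k, hk⟩ := (ZMod.intCast_zmod_eq_zero_iff_dvd _ 2).mp hz
  exact ⟨k, by rw [hsum, hk]; push_cast; ring⟩

/-- The data attached to one exceptional block. -/
structure Blk (G : Type u) [Group G] [Fintype G] where
  A : Set G
  e : ℕ
  h : ℕ
  t : ℕ
  E : Finset (G → ℂ)
  z : G → ℂ
  β : G → ℂ
  a : ℤ
  card_E : E.card = t
  z_mem : z ∈ E
  e_odd : Odd e
  three_le_e : 3 ≤ e
  t_even : Even t
  two_le_t : 2 ≤ t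
  signed : ∀ η ∈ E, IsSigned η
  orth : ∀ η ∈ E, ∀ η' ∈ E, η ≠ η' → Cfsg.classInner η η' = 0
  orth_one : ∀ η ∈ E, Cfsg.classInner η (fun _ => 1) = 0
  conj_mem : ∀ η ∈ E, Cfsg.conjFun η ∈ E
  one_not_mem : (1 : G) ∉ A
  diff_zero : ∀ η ∈ E, ∀ η' ∈ E, ∀ x, x ∉ A → η x = η' x
  β_supp : ∀ x, x ∉ A → β x = 0
  β_gen : Cfsg.IsGeneralizedCharacter G β
  β_one : Cfsg.classInner β (fun _ => 1) = 1
  β_norm : Cfsg.classInner β β = (e : ℂ) + 1
  β_z : Cfsg.classInner β z = (a : ℂ) - 1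
  β_eta : ∀ η ∈ E, η ≠ z → Cfsg.classInner β η = (a : ℂ)
  β_conj : Cfsg.conjFun β = β + z - Cfsg.conjFun z
  u_dvd : t * e + 1 ∣ h
  h_pos : 0 < h
  h_seven : e = 3 → t = 2 → h = 7

theorem inner_eq_zero_of_disjoint {f g : G → ℂ} (h : ∀ x, f x = 0 ∨ g x = 0) :
    Cfsg.classInner f g = 0 := by
  unfold Cfsg.classInner
  rw [Finset.sum_eq_zero fun x _ => by rcases h x with e | e <;> simp [e], mul_zero]

open Classical in
/-- The weight of a function on a set. -/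
noncomputable def wgt (A : Set G) (χ : G → ℂ) : ℝ :=
  (Nat.card G : ℝ)⁻¹ * ∑ x ∈ Finset.univ.filter (fun x => x ∈ A), ‖χ x‖ ^ 2

/-- A test function bounds the weight from below. -/
theorem wgt_ge {A : Set G} {χ f : G → ℂ} {b N : ℝ} (hf : ∀ x, x ∉ A → f x = 0) (hN : 0 < N)
    (hb : Cfsg.classInner χ f = (b : ℂ)) (hfN : Cfsg.classInner f f = (N : ℂ)) :
    b ^ 2 / N ≤ wgt A χ := by
  classical
  obtain ⟨c, hc⟩ : ∃ c, c = b / N := ⟨_, rfl⟩
  have h0 : 0 ≤ (Nat.card G : ℝ)⁻¹ * ∑ x ∈ Finset.univ.filter (fun x => x ∈ A), ‖χ x - (c : ℂ) * f x‖ ^ 2 := by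
    positivity
  have key : ∀ g : G → ℂ, (∀ x, x ∉ A → g x = 0) →
      ∑ x ∈ Finset.univ.filter (fun x => x ∈ A), g x = ∑ x, g x := fun g hg =>
    Finset.sum_subset (Finset.subset_univ _) fun x _ hx => hg x (by simpa using hx)
  have hexp : ((∑ x ∈ Finset.univ.filter (fun x => x ∈ A), ‖χ x - (c : ℂ) * f x‖ ^ 2 : ℝ) : ℂ) =
      ((∑ x ∈ Finset.univ.filter (fun x => x ∈ A), ‖χ x‖ ^ 2 : ℝ) : ℂ) -
        (c : ℂ) * ∑ x, χ x * conj (f x) - (c : ℂ) * conj (∑ x, χ x * conj (f x)) +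
        (c : ℂ) ^ 2 * ∑ x, f x * conj (f x) := by
    rw [map_sum, ← key (fun x => χ x * conj (f x)) (fun x hx => by simp [hf x hx]),
      ← key (fun x => conj (χ x * conj (f x))) (fun x hx => by simp [hf x hx]),
      ← key (fun x => f x * conj (f x)) (fun x hx => by simp [hf x hx]), Finset.mul_sum, Finset.mul_sum,
      Finset.mul_sum]
    push_cast
    rw [← Finset.sum_sub_distrib, ← Finset.sum_sub_distrib, ← Finset.sum_add_distrib]
    refine Finset.sum_congr rfl fun x _ => ?_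
    rw [← Complex.mul_conj', ← Complex.mul_conj']
    simp only [map_sub, map_mul, Complex.conj_ofReal, Complex.conj_conj]
    ring
  have hG : (Nat.card G : ℂ) ≠ 0 := Nat.cast_ne_zero.mpr Nat.card_pos.ne'
  have hS1 : ∑ x, χ x * conj (f x) = (Nat.card G : ℂ) * (b : ℂ) := by
    rw [← hb, Cfsg.classInner, ← mul_assoc, mul_inv_cancel₀ hG, one_mul]
  have hS2 : ∑ x, f x * conj (f x) = (Nat.card G : ℂ) * (N : ℂ) := by
    rw [← hfN, Cfsg.classInner, ← mul_assoc, mul_inv_cancel₀ hG, one_mul]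
  rw [hS1, hS2, map_mul, Complex.conj_ofReal, map_natCast] at hexp
  have hexp' := congrArg Complex.re hexp
  simp only [Complex.ofReal_re, Complex.sub_re, Complex.add_re, Complex.mul_re, Complex.ofReal_im,
    Complex.natCast_re, Complex.natCast_im, pow_two, mul_zero, sub_zero, zero_mul, Complex.mul_im,
    add_zero] at hexp'
  have hGr : (Nat.card G : ℝ) ≠ 0 := Nat.cast_ne_zero.mpr Nat.card_pos.ne'
  simp only [← pow_two] at hexp'
  rw [hexp'] at h0
  have : (Nat.card G : ℝ)⁻¹ * (∑ x ∈ Finset.univ.filter (fun x => x ∈ A), ‖χ x‖ ^ 2 -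
      c * ((Nat.card G : ℝ) * b) - c * ((Nat.card G : ℝ) * b) + c ^ 2 * ((Nat.card G : ℝ) * N)) =
      wgt A χ - b ^ 2 / N := by
    rw [wgt, hc]
    field_simp
    ring
  linarith [this ▸ h0]

namespace Blk

variable (B : Blk G)

theorem isGen {η : G → ℂ} (h : η ∈ B.E) : Cfsg.IsGeneralizedCharacter G η := isSigned_isGen (B.signed η h)

theorem inner_sum {η : G → ℂ} (h : η ∈ B.E) : Cfsg.classInner (∑ ρ ∈ B.E, ρ) η = 1 := by
  rw [CT.classInner_sum_left, Finset.sum_eq_single η (fun ρ hρ hne => B.orth ρ hρ η h hne)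
    (fun h' => absurd h h'), isSigned_norm (B.signed η h)]

theorem β_sum : Cfsg.classInner B.β (∑ ρ ∈ B.E, ρ) = (B.t : ℂ) * B.a - 1 := by
  classical
  rw [CT.classInner_sum_right, ← Finset.add_sum_erase _ _ B.z_mem, B.β_z,
    Finset.sum_congr rfl (g := fun _ => (B.a : ℂ)) fun η hη =>
      B.β_eta η (Finset.mem_of_mem_erase hη) (Finset.ne_of_mem_erase hη),
    Finset.sum_const, Finset.card_erase_of_mem B.z_mem, B.card_E, nsmul_eq_mul,
    Nat.cast_sub (le_trans one_le_two B.two_le_t)]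
  push_cast
  ring

/-- The remainder of the test character. -/
noncomputable def Γ : G → ℂ := B.β - (fun _ => 1) + B.z - (B.a : ℂ) • ∑ η ∈ B.E, η

theorem Γ_gen : Cfsg.IsGeneralizedCharacter G B.Γ :=
  CT.isGen_sub (CT.isGen_add (CT.isGen_sub B.β_gen (CT.isGen_of_isCharacter CT.isCharacter_one))
    (B.isGen B.z_mem)) (CT.isGen_zsmul _ (CT.isGen_sum _ fun η hη => B.isGen hη))

theorem sum_conj : Cfsg.conjFun (∑ η ∈ B.E, η) = ∑ η ∈ B.E, η := by
  have e : Cfsg.conjFun (∑ η ∈ B.E, η) = ∑ η ∈ B.E, Cfsg.conjFun η := by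
    funext x; simp [Cfsg.conjFun, Finset.sum_apply]
  rw [e]
  exact Finset.sum_bij (fun η _ => Cfsg.conjFun η) (fun η hη => B.conj_mem η hη)
    (fun a _ b _ h => by simpa [conjFun_conjFun] using congrArg Cfsg.conjFun h)
    (fun η hη => ⟨Cfsg.conjFun η, B.conj_mem η hη, conjFun_conjFun η⟩) (fun η _ => rfl)

theorem Γ_real : Cfsg.conjFun B.Γ = B.Γ := by
  funext x
  have h1 := congrFun B.β_conj x
  have h2 := congrFun B.sum_conj x
  simp only [Cfsg.conjFun, Pi.add_apply, Pi.sub_apply] at h1 h2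
  simp only [Γ, Cfsg.conjFun, Pi.add_apply, Pi.sub_apply, Pi.smul_apply, smul_eq_mul, map_add, map_sub,
    map_one, map_mul, map_intCast, h1, h2]
  ring

theorem z_one : Cfsg.classInner B.z (fun _ => (1 : ℂ)) = 0 := B.orth_one _ B.z_mem

theorem one_inner {η : G → ℂ} (h : η ∈ B.E) : Cfsg.classInner (fun _ => (1 : ℂ)) η = 0 :=
  isSigned_inner_symm_eq_zero (B.orth_one η h)

theorem Γ_one : Cfsg.classInner B.Γ (fun _ => (1 : ℂ)) = 0 := by
  simp [Γ, CT.classInner_sub_left, CT.classInner_add_left, CT.classInner_smul_left,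
    CT.classInner_sum_left, B.β_one, B.z_one, Finset.sum_eq_zero B.orth_one,
    CT.irr_inner_self (CT.isIrrCharacter_one (G := G))]

theorem Γ_E {η : G → ℂ} (h : η ∈ B.E) : Cfsg.classInner B.Γ η = 0 := by
  rw [Γ, CT.classInner_sub_left, CT.classInner_add_left, CT.classInner_sub_left,
    CT.classInner_smul_left, B.inner_sum h, B.one_inner h]
  by_cases e : η = B.z
  · subst e
    rw [B.β_z, isSigned_norm (B.signed _ h)]; ring
  · rw [B.β_eta η h e, B.orth _ B.z_mem η h (Ne.symm e)]; ring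

theorem Γ_norm : (Cfsg.classInner B.Γ B.Γ).re ≤ (B.e : ℝ) - 1 := by
  have h1 : Cfsg.classInner B.Γ B.Γ = Cfsg.classInner B.Γ B.β := by
    conv_lhs => rw [show Cfsg.classInner B.Γ B.Γ =
      Cfsg.classInner B.Γ (B.β - (fun _ => 1) + B.z - (B.a : ℂ) • ∑ η ∈ B.E, η) from rfl]
    rw [CT.classInner_sub_right, CT.classInner_add_right, CT.classInner_sub_right,
      CT.classInner_smul_right, CT.classInner_sum_right, Finset.sum_eq_zero fun η hη => B.Γ_E hη,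
      B.Γ_E B.z_mem, B.Γ_one]
    ring
  have h2 : Cfsg.classInner B.Γ B.β =
      (((B.e : ℝ) - (1 - 2 * (B.a : ℝ) + (B.t : ℝ) * (B.a : ℝ) ^ 2) : ℝ) : ℂ) := by
    rw [Γ, CT.classInner_sub_left, CT.classInner_add_left, CT.classInner_sub_left,
      CT.classInner_smul_left, B.β_norm, ← CT.classInner_conj_symm B.β (fun _ => 1), B.β_one,
      ← CT.classInner_conj_symm B.β B.z, B.β_z, ← CT.classInner_conj_symm B.β (∑ η ∈ B.E, η), B.β_sum]
    simp only [map_one, map_sub, map_mul, map_natCast, map_intCast]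
    push_cast
    ring
  rw [h1, h2, Complex.ofReal_re]
  have ht : (2 : ℝ) ≤ B.t := by exact_mod_cast B.two_le_t
  have hq : (0 : ℝ) ≤ (B.a : ℝ) ^ 2 - (B.a : ℝ) := by
    have h : (0 : ℤ) ≤ B.a ^ 2 - B.a := by
      rcases le_or_gt B.a 0 with h | h <;> nlinarith
    exact_mod_cast h
  nlinarith [sq_nonneg (B.a : ℝ)]

/-- The first test function. -/
noncomputable def Φ : G → ℂ := B.β + B.z - (B.t : ℂ)⁻¹ • ∑ η ∈ B.E, η

/-- The second test function. -/
noncomputable def Ψ : G → ℂ := B.z - (B.t : ℂ)⁻¹ • ∑ η ∈ B.E, η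

theorem Ψ_supp {x : G} (hx : x ∉ B.A) : B.Ψ x = 0 := by
  simp only [Ψ, Pi.sub_apply, Pi.smul_apply, smul_eq_mul, Finset.sum_apply]
  rw [Finset.sum_congr rfl fun η hη => B.diff_zero η hη _ B.z_mem x hx, Finset.sum_const, B.card_E,
    nsmul_eq_mul, ← mul_assoc, inv_mul_cancel₀ (Nat.cast_ne_zero.mpr (by have := B.two_le_t; omega)),
    one_mul, sub_self]

theorem Φ_eq : B.Φ = B.β + B.Ψ := by rw [Φ, Ψ, add_sub_assoc]

theorem Φ_supp {x : G} (hx : x ∉ B.A) : B.Φ x = 0 := by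
  rw [B.Φ_eq, Pi.add_apply, B.β_supp x hx, B.Ψ_supp hx, add_zero]

theorem t_ne : (B.t : ℂ) ≠ 0 := Nat.cast_ne_zero.mpr (by have := B.two_le_t; omega)

theorem z_Ψ : Cfsg.classInner B.z B.Ψ = ((1 - (B.t : ℝ)⁻¹ : ℝ) : ℂ) := by
  rw [Ψ, CT.classInner_sub_right, CT.classInner_smul_right, isSigned_norm (B.signed _ B.z_mem),
    ← CT.classInner_conj_symm (∑ η ∈ B.E, η) B.z, B.inner_sum B.z_mem]
  simp

theorem sum_Ψ : Cfsg.classInner (∑ η ∈ B.E, η) B.Ψ = 0 := by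
  rw [Ψ, CT.classInner_sub_right, CT.classInner_smul_right, B.inner_sum B.z_mem,
    CT.classInner_sum_right, Finset.sum_congr rfl (g := fun _ => (1 : ℂ)) fun η hη => B.inner_sum hη,
    Finset.sum_const, B.card_E, nsmul_eq_mul, mul_one, map_inv₀, map_natCast,
    inv_mul_cancel₀ B.t_ne, sub_self]

theorem Ψ_norm : Cfsg.classInner B.Ψ B.Ψ = ((1 - (B.t : ℝ)⁻¹ : ℝ) : ℂ) := by
  conv_lhs => arg 1; rw [Ψ]
  rw [CT.classInner_sub_left, CT.classInner_smul_left, B.sum_Ψ, B.z_Ψ]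
  simp

theorem β_Ψ : Cfsg.classInner B.β B.Ψ = (((B.t : ℝ)⁻¹ - 1 : ℝ) : ℂ) := by
  rw [Ψ, CT.classInner_sub_right, CT.classInner_smul_right, B.β_z, B.β_sum, map_inv₀, map_natCast]
  have := B.t_ne
  push_cast
  field_simp
  ring

theorem Φ_Ψ : Cfsg.classInner B.Φ B.Ψ = 0 := by
  rw [B.Φ_eq, CT.classInner_add_left, B.Ψ_norm, B.β_Ψ]
  push_cast
  ring

theorem Φ_norm : Cfsg.classInner B.Φ B.Φ = (((B.e : ℝ) + (B.t : ℝ)⁻¹ : ℝ) : ℂ) := by
  conv_lhs => arg 2; rw [B.Φ_eq]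
  rw [CT.classInner_add_right, B.Φ_Ψ, B.Φ_eq, CT.classInner_add_left, B.β_norm,
    ← CT.classInner_conj_symm B.β B.Ψ, B.β_Ψ, Complex.conj_ofReal]
  push_cast
  ring

theorem z_Φ : Cfsg.classInner B.z B.Φ = (((B.a : ℝ) - (B.t : ℝ)⁻¹ : ℝ) : ℂ) := by
  rw [B.Φ_eq, CT.classInner_add_right, B.z_Ψ, ← CT.classInner_conj_symm B.β B.z, B.β_z, map_sub,
    map_intCast, map_one]
  push_cast
  ring

theorem wgt_self : 1 - (B.e : ℝ) / ((B.t : ℝ) * B.e + 1) ≤ wgt B.A B.z := by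
  have ht : (2 : ℝ) ≤ B.t := by exact_mod_cast B.two_le_t
  have he : (0 : ℝ) ≤ B.e := Nat.cast_nonneg _
  have hti : 0 < (B.t : ℝ)⁻¹ ∧ (B.t : ℝ)⁻¹ ≤ 1 / 2 := ⟨by positivity, by
    rw [← one_div]; exact one_div_le_one_div_of_le two_pos ht⟩
  obtain ⟨D, hD⟩ : ∃ D, D = ((B.a : ℝ) - (B.t : ℝ)⁻¹) / ((B.e : ℝ) + (B.t : ℝ)⁻¹) := ⟨_, rfl⟩
  have hden : 0 < (B.e : ℝ) + (B.t : ℝ)⁻¹ := by linarith
  obtain ⟨M, hM⟩ : ∃ M, M = 1 - (B.t : ℝ)⁻¹ + D ^ 2 * ((B.e : ℝ) + (B.t : ℝ)⁻¹) := ⟨_, rfl⟩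
  have hMpos : 0 < M := by rw [hM]; nlinarith [sq_nonneg D, mul_nonneg (sq_nonneg D) hden.le]
  have hD' : D * ((B.a : ℝ) - (B.t : ℝ)⁻¹) = D ^ 2 * ((B.e : ℝ) + (B.t : ℝ)⁻¹) := by
    rw [hD]; field_simp
  have h := wgt_ge (A := B.A) (χ := B.z) (f := B.Ψ + (D : ℂ) • B.Φ) (b := M) (N := M)
    (fun x hx => by simp [B.Ψ_supp hx, B.Φ_supp hx]) hMpos (by
      rw [CT.classInner_add_right, CT.classInner_smul_right, B.z_Ψ, B.z_Φ, Complex.conj_ofReal,
        ← Complex.ofReal_mul, ← Complex.ofReal_add, hD', hM]) (by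
      rw [CT.classInner_add_left, CT.classInner_add_right, CT.classInner_add_right,
        CT.classInner_smul_left, CT.classInner_smul_left, CT.classInner_smul_right,
        CT.classInner_smul_right, B.Φ_Ψ, ← CT.classInner_conj_symm B.Φ B.Ψ, B.Φ_Ψ, map_zero, B.Ψ_norm,
        B.Φ_norm, Complex.conj_ofReal, hM]
      push_cast
      ring)
  rw [pow_two, mul_div_assoc, div_self hMpos.ne', mul_one] at h
  refine le_trans ?_ h
  have hq : ((B.t : ℝ)⁻¹) ^ 2 ≤ ((B.a : ℝ) - (B.t : ℝ)⁻¹) ^ 2 := by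
    have h1 : (1 : ℤ) ≤ ((B.t : ℤ) * B.a - 1) ^ 2 := by
      have h2 : (B.t : ℤ) * B.a - 1 ≠ 0 := by
        intro e
        have : (B.t : ℤ) ∣ 1 := ⟨B.a, by linarith⟩
        have := Int.le_of_dvd one_pos this
        have := B.two_le_t
        omega
      have := sq_pos_of_ne_zero h2
      omega
    have h1' : (1 : ℝ) ≤ ((B.t : ℝ) * B.a - 1) ^ 2 := by exact_mod_cast h1
    rw [show (B.a : ℝ) - (B.t : ℝ)⁻¹ = ((B.t : ℝ) * B.a - 1) * (B.t : ℝ)⁻¹ by field_simp, mul_pow]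
    exact le_mul_of_one_le_left (sq_nonneg _) h1'
  calc 1 - (B.e : ℝ) / ((B.t : ℝ) * B.e + 1)
      = 1 - (B.t : ℝ)⁻¹ + ((B.t : ℝ)⁻¹) ^ 2 / ((B.e : ℝ) + (B.t : ℝ)⁻¹) := by field_simp; ring
    _ ≤ 1 - (B.t : ℝ)⁻¹ + ((B.a : ℝ) - (B.t : ℝ)⁻¹) ^ 2 / ((B.e : ℝ) + (B.t : ℝ)⁻¹) := by
        gcongr
    _ = M := by rw [hM, hD]; field_simp

end Blk

variable {B C : Blk G}

theorem blk_cross (h : Disjoint B.A C.A) {η ρ : G → ℂ} (hη : η ∈ B.E) (hρ : ρ ∈ C.E) :
    Cfsg.classInner η ρ = 0 := by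
  classical
  obtain ⟨η', hη', hne⟩ := Finset.exists_mem_ne (B.card_E.symm ▸ B.two_le_t : 1 < B.E.card) η
  obtain ⟨ρ', hρ', hne'⟩ := Finset.exists_mem_ne (C.card_E.symm ▸ C.two_le_t : 1 < C.E.card) ρ
  refine signed_pair_orth (B.signed η hη) (B.signed η' hη') (C.signed ρ hρ) (C.signed ρ' hρ')
    (p := 1) (q := 1) (u := 1) (v := 1) one_ne_zero one_ne_zero one_ne_zero one_ne_zero
    (B.orth η hη η' hη' hne.symm) (C.orth ρ hρ ρ' hρ' hne'.symm) ?_
    (by simpa using B.diff_zero η hη η' hη' 1 B.one_not_mem)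
    (by simpa using C.diff_zero ρ hρ ρ' hρ' 1 C.one_not_mem)
  refine inner_eq_zero_of_disjoint fun x => ?_
  by_cases hx : x ∈ B.A
  · right
    simp [C.diff_zero ρ hρ ρ' hρ' x (Set.disjoint_left.mp h hx)]
  · left
    simp [B.diff_zero η hη η' hη' x hx]

theorem blk_const (h : Disjoint B.A C.A) {η : G → ℂ} (hη : η ∈ C.E) :
    Cfsg.classInner B.β η = Cfsg.classInner B.β C.z := by
  have h0 : Cfsg.classInner B.β (η - C.z) = 0 := inner_eq_zero_of_disjoint fun x => by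
    by_cases hx : x ∈ B.A
    · right
      simp [C.diff_zero η hη _ C.z_mem x (Set.disjoint_left.mp h hx)]
    · exact Or.inl (B.β_supp x hx)
  rwa [CT.classInner_sub_right, sub_eq_zero] at h0

theorem blk_sum (h : Disjoint B.A C.A) {b : ℤ} (hb : Cfsg.classInner B.β C.z = b) :
    Cfsg.classInner B.β (∑ η ∈ C.E, η) = (C.t : ℂ) * b := by
  rw [CT.classInner_sum_right, Finset.sum_congr rfl fun η hη => (blk_const h hη).trans hb,
    Finset.sum_const, C.card_E, nsmul_eq_mul]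

theorem Γ_other (h : Disjoint B.A C.A) {η : G → ℂ} (hη : η ∈ C.E) :
    Cfsg.classInner B.Γ η = Cfsg.classInner B.β C.z := by
  rw [Blk.Γ, CT.classInner_sub_left, CT.classInner_add_left, CT.classInner_sub_left,
    CT.classInner_smul_left, CT.classInner_sum_left,
    Finset.sum_eq_zero fun ρ hρ => blk_cross h hρ hη, blk_cross h B.z_mem hη, C.one_inner hη,
    blk_const h hη]
  ring

theorem blk_parity (hodd : Odd (Nat.card G)) (h : Disjoint B.A C.A) {b c : ℤ}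
    (hb : Cfsg.classInner B.β C.z = b) (hc : Cfsg.classInner C.β B.z = c) : b ≠ 0 ∨ c ≠ 0 := by
  obtain ⟨k, hk⟩ := even_inner_of_real hodd B.Γ_gen C.Γ_gen B.Γ_one B.Γ_real C.Γ_real
  have h0 : Cfsg.classInner B.β C.β = 0 := inner_eq_zero_of_disjoint fun x => by
    by_cases hx : x ∈ B.A
    · exact Or.inr (C.β_supp x (Set.disjoint_left.mp h hx))
    · exact Or.inl (B.β_supp x hx)
  have hCe : C.β = C.Γ + (fun _ => (1 : ℂ)) - C.z + (C.a : ℂ) • ∑ η ∈ C.E, η := by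
    rw [Blk.Γ]; abel
  have hBe : B.β = B.Γ + (fun _ => (1 : ℂ)) - B.z + (B.a : ℂ) • ∑ η ∈ B.E, η := by
    rw [Blk.Γ]; abel
  have hBΓ : Cfsg.classInner B.β C.Γ = (2 * k : ℤ) - c + (B.a : ℂ) * ((B.t : ℂ) * c) := by
    have e1 : ∀ η ∈ B.E, Cfsg.classInner η C.Γ = (c : ℂ) := fun η hη => by
      rw [← CT.classInner_conj_symm C.Γ η, Γ_other h.symm hη, hc, map_intCast]
    rw [hBe, CT.classInner_add_left, CT.classInner_sub_left, CT.classInner_add_left,
      CT.classInner_smul_left, CT.classInner_sum_left, hk, Finset.sum_congr rfl e1, Finset.sum_const,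
      B.card_E, nsmul_eq_mul, ← CT.classInner_conj_symm C.Γ (fun _ => 1), C.Γ_one, map_zero,
      e1 _ B.z_mem]
    ring
  rw [hCe, CT.classInner_add_right, CT.classInner_sub_right, CT.classInner_add_right,
    CT.classInner_smul_right, blk_sum h hb, B.β_one, hb, hBΓ, map_intCast] at h0
  by_contra hh
  push Not at hh
  obtain ⟨rfl, rfl⟩ := hh
  simp only [Int.cast_zero, mul_zero, sub_zero, add_zero] at h0
  have : (2 * k + 1 : ℤ) = 0 := by exact_mod_cast h0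
  omega

theorem wgt_other (h : Disjoint B.A C.A) {b : ℤ} (hb : Cfsg.classInner B.β C.z = b) :
    (b : ℝ) ^ 2 / ((B.e : ℝ) + (B.t : ℝ)⁻¹) ≤ wgt B.A C.z := by
  have ht : (2 : ℝ) ≤ B.t := by exact_mod_cast B.two_le_t
  refine wgt_ge (fun x hx => B.Φ_supp hx) (by positivity) ?_ B.Φ_norm
  have hΨ : Cfsg.classInner C.z B.Ψ = 0 := by
    rw [Blk.Ψ, CT.classInner_sub_right, CT.classInner_smul_right, CT.classInner_sum_right,
      Finset.sum_eq_zero fun η hη => blk_cross h.symm C.z_mem hη, blk_cross h.symm C.z_mem B.z_mem,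
      mul_zero, sub_zero]
  rw [B.Φ_eq, CT.classInner_add_right, hΨ, add_zero, ← CT.classInner_conj_symm B.β C.z, hb,
    map_intCast]
  simp

end Cfsg.Agent.OddChar
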