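import Cfsg.Agent.Lib.OddChar.FrobFamily
import Cfsg.Agent.Lib.OddChar.Blocks7
import Cfsg.Agent.Lib.CT.TI
import Cfsg.Agent.S1514
import Cfsg.Agent.S1517
import Cfsg.Agent.S1527

/-! No group of odd order is covered by disjoint Frobenius kernels. -/

set_option linter.style.haveILetI false

namespace Cfsg.Agent.OddChar

universe u v

variable {G : Type u} [Group G] [Fintype G]

/-- The non-identity elements conjugate into `H`. -/
def conjSet (H : Subgroup G) : Set G := {x | x ≠ 1 ∧ ∃ y, y * x * y⁻¹ ∈ H}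

theorem ind_supp (H L : Subgroup G) [Fintype L] {f : L → ℂ} (hf : ∀ x : L, (x : G) ∉ H → f x = 0)
    (hf1 : f 1 = 0) {g : G} (hg : g ∉ conjSet H) : Cfsg.indFun L f g = 0 := by
  by_cases h1 : g = 1
  · rw [h1, CT.indFun_one_eval, hf1, mul_zero]
  unfold Cfsg.indFun
  rw [Finset.sum_eq_zero, mul_zero]
  intro x _
  by_cases hx : x⁻¹ * g * x ∈ L
  · rw [CT.extendByZero_mem L f hx]
    exact hf _ fun hH => hg ⟨h1, x⁻¹, by simpa using hH⟩
  · exact CT.extendByZero_not_mem L f hx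

theorem exists_blk (hodd : Odd (Nat.card G)) (H L : Subgroup G) (hlt : H < L) (hH1 : H ≠ ⊥)
    (hHn : ∀ x ∈ L, ∀ h ∈ H, x * h * x⁻¹ ∈ H)
    (hfrob : ∀ h ∈ H, h ≠ 1 → L ⊓ Subgroup.centralizer ({h} : Set G) ≤ H)
    (hTI : Cfsg.IsTISubset (H : Set G)) (hnorm : Subgroup.normalizer (H : Set G) = L) :
    ∃ B : Blk G, B.A = conjSet H ∧ B.h = Nat.card H ∧ B.e = H.relIndex L := by
  classical
  haveI := Fintype.ofFinite L
  obtain ⟨N, hN⟩ : ∃ N, N = H.subgroupOf L := ⟨_, rfl⟩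
  haveI : N.Normal := hN ▸ ⟨fun n hn x => hHn x x.2 n hn⟩
  have hC : ∀ n ∈ N, n ≠ 1 → Subgroup.centralizer ({n} : Set L) ≤ N := by
    intro n hn hn1 x hx
    rw [hN] at hn ⊢
    refine hfrob n hn (fun e => hn1 (Subtype.ext e)) (Subgroup.mem_inf.mpr ⟨x.2, ?_⟩)
    exact Subgroup.mem_centralizer_singleton_iff.mpr
      (congrArg Subtype.val (Subgroup.mem_centralizer_singleton_iff.mp hx))
  have hN1 : N ≠ ⊥ := by
    intro h
    obtain ⟨x, hx, hx1⟩ := (Subgroup.ne_bot_iff_exists_ne_one.mp hH1 |> fun ⟨⟨x, hx⟩, h⟩ =>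
      (⟨x, hx, fun e => h (Subtype.ext e)⟩ : ∃ x, x ∈ H ∧ x ≠ 1))
    have : (⟨x, hlt.le hx⟩ : L) ∈ N := hN ▸ hx
    rw [h, Subgroup.mem_bot] at this
    exact hx1 (congrArg Subtype.val this)
  have hNt : N ≠ ⊤ := by
    intro h
    obtain ⟨x, hxL, hxH⟩ := SetLike.exists_of_lt hlt
    have : (⟨x, hxL⟩ : L) ∈ N := h ▸ Subgroup.mem_top _
    rw [hN] at this
    exact hxH this
  have hoddL : Odd (Nat.card L) := hodd.of_dvd_nat (Subgroup.card_subgroup_dvd_card L)
  obtain ⟨T, hT⟩ := exists_frobFam N hC hoddL (frob_nilpotent N hC hN1 hNt) hN1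
  obtain ⟨ht2, hteven⟩ := frobFam_two_le N hC T hT
  have hsuppN : ∀ x : L, x ∉ N ↔ (x : G) ∉ H := fun x => by rw [hN]; rfl
  have hz : ∀ α ∈ Cfsg.zspan (↑T : Set (L → ℂ)),
      (∀ x : L, (x : G) ∉ H → α x = 0) ∧ Cfsg.IsGeneralizedCharacter L α := by
    refine zspan_induction (fun φ hφ => ⟨fun x hx => hT.supp φ hφ x ((hsuppN x).mpr hx),
      CT.isGen_of_isIrr (hT.irr φ hφ)⟩) ⟨fun _ _ => rfl, CT.isGen_zero⟩
      (fun a _ b _ ha hb => ⟨fun x hx => by simp [ha.1 x hx, hb.1 x hx], CT.isGen_add ha.2 hb.2⟩)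
      (fun n a _ ha => ⟨fun x hx => by simp [ha.1 x hx], isGen_int_smul n ha.2⟩)
  have hTI' : CT.IsTI L (H : Set G) := fun g hg => hTI g (hnorm.symm ▸ hg)
  have hiso : ∀ α β : L → ℂ, (∀ x : L, (x : G) ∉ H → α x = 0) → (∀ x : L, (x : G) ∉ H → β x = 0) →
      α 1 = 0 → Cfsg.IsGeneralizedCharacter L β →
      Cfsg.classInner (Cfsg.indFun L α) (Cfsg.indFun L β) = Cfsg.classInner α β :=
    fun α β ha hb ha1 hβ => CT.classInner_indFun_TI hTI' (CT.isClassFunction_of_isGen hβ) ha hb ha1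
  have hτ : Cfsg.IsLinearIsometryOn (Cfsg.zspanOn (↑T : Set (L → ℂ)) {1}ᶜ)
      (fun α => Cfsg.indFun L α) := by
    refine ⟨fun α _ β _ => CT.indFun_add L α β, fun α _ n => ?_, fun α hα β hβ => ?_, fun α hα =>
      CT.isGen_indFun L (hz α hα.1).2⟩
    · show Cfsg.indFun L (n • α) = n • Cfsg.indFun L α
      rw [← Int.cast_smul_eq_zsmul ℂ, CT.indFun_smul, Int.cast_smul_eq_zsmul ℂ]
    · exact hiso α β (hz α hα.1).1 (hz β hβ.1).1 (zspanOn_iff.mp hα).2 (hz β hβ.1).2
  have hτ1 : ∀ α ∈ Cfsg.zspanOn (↑T : Set (L → ℂ)) {1}ᶜ, Cfsg.indFun L α 1 = 0 := fun α hα => by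
    rw [CT.indFun_one_eval, (zspanOn_iff.mp hα).2, mul_zero]
  obtain ⟨R, hR⟩ := Cfsg.Agent.S1514.result (↑T : Set (L → ℂ)) (Finset.coe_nonempty.mpr hT.nonempty)
    (fun χ hχ => hT.irr χ hχ) (fun χ hχ => hT.conj χ hχ) _ hτ hτ1
  obtain ⟨-, τ₁, hτ₁, hag⟩ := Cfsg.Agent.S1517.result _ _ R hR
    fun φ hφ ψ hψ => (hT.deg φ hφ).trans (hT.deg ψ hψ).symm
  have hsig : ∀ ξ ∈ T, IsSigned (τ₁ ξ) := fun ξ hξ => isometry_signed hτ₁ hξ (hT.irr ξ hξ)
  have horth : ∀ ξ ∈ T, ∀ ξ' ∈ T, ξ ≠ ξ' → Cfsg.classInner (τ₁ ξ) (τ₁ ξ') = 0 := fun ξ hξ ξ' hξ' hne => by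
    rw [hτ₁.2.2.1 ξ (zspan_self hξ) ξ' (zspan_self hξ'), CT.irr_inner_of_ne (hT.irr ξ hξ) (hT.irr ξ' hξ') hne]
  have hmemd : ∀ ξ ∈ T, ∀ ξ' ∈ T, ξ - ξ' ∈ Cfsg.zspanOn (↑T : Set (L → ℂ)) {1}ᶜ := fun ξ hξ ξ' hξ' =>
    cs_diff_mem hR hξ hξ' ((hT.deg ξ hξ).trans (hT.deg ξ' hξ').symm)
  have hdiff : ∀ ξ ∈ T, ∀ ξ' ∈ T, τ₁ ξ - τ₁ ξ' = Cfsg.indFun L (ξ - ξ') := fun ξ hξ ξ' hξ' =>
    (iso_zspan_sub hτ₁ (zspan_self hξ) (zspan_self hξ')).symm.trans (hag _ (hmemd ξ hξ ξ' hξ'))
  have hne1 : ∀ ξ ∈ T, ξ ≠ fun _ => (1 : ℂ) := fun ξ hξ e => by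
    have hd := congrFun e 1
    rw [hT.deg ξ hξ] at hd
    exact hNt (Subgroup.index_eq_one.mp (by exact_mod_cast hd))
  have horth1 : ∀ ξ ∈ T, Cfsg.classInner (τ₁ ξ) (fun _ => (1 : ℂ)) = 0 := by
    intro ξ hξ
    obtain ⟨ξ', hξ', hne⟩ : ∃ ξ' ∈ T, ξ' ≠ ξ := Finset.exists_mem_ne ht2 ξ
    have hone : IsSigned (fun _ : G => (1 : ℂ)) := Or.inl CT.isIrrCharacter_one
    have heq : Cfsg.classInner (τ₁ ξ) (fun _ => (1 : ℂ)) = Cfsg.classInner (τ₁ ξ') (fun _ => (1 : ℂ)) := by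
      rw [← sub_eq_zero, ← CT.classInner_sub_left, hdiff ξ hξ ξ' hξ',
        CT.frobenius_reciprocity L _ (CT.isClassFunction_of_isIrr CT.isIrrCharacter_one),
        CT.classInner_sub_left, CT.irr_inner (hT.irr ξ hξ) CT.isIrrCharacter_one,
        CT.irr_inner (hT.irr ξ' hξ') CT.isIrrCharacter_one, if_neg (hne1 ξ hξ), if_neg (hne1 ξ' hξ'), sub_self]
    rcases isSigned_inner (hsig ξ hξ) hone with h | ⟨e, he, hin, hx⟩
    · exact h
    exfalso
    have h0 := horth ξ hξ ξ' hξ' (Ne.symm hne)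
    rw [hx, CT.classInner_smul_left, ← CT.classInner_conj_symm (τ₁ ξ'), ← heq, hin] at h0
    rcases he with rfl | rfl <;> simp at h0
  have hconjInd : ∀ f : L → ℂ, Cfsg.conjFun (Cfsg.indFun L f) = Cfsg.indFun L (Cfsg.conjFun f) := by
    intro f
    funext g
    show (starRingEnd ℂ) (Cfsg.indFun L f g) = _
    simp only [Cfsg.indFun, map_mul, map_inv₀, map_natCast, map_sum]
    congr 1
    refine Finset.sum_congr rfl fun x _ => ?_
    by_cases hx : x⁻¹ * g * x ∈ L
    · rw [CT.extendByZero_mem L _ hx, CT.extendByZero_mem L _ hx]; rfl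
    · rw [CT.extendByZero_not_mem L _ hx, CT.extendByZero_not_mem L _ hx, map_zero]
  have hconjη : ∀ ξ ∈ T, Cfsg.conjFun (τ₁ ξ) = τ₁ (Cfsg.conjFun ξ) := by
    intro ξ hξ
    obtain ⟨hc, hcne⟩ := hT.conj ξ hξ
    obtain ⟨A, hA⟩ : ∃ A, A = τ₁ ξ := ⟨_, rfl⟩
    obtain ⟨B, hB⟩ : ∃ B, B = τ₁ (Cfsg.conjFun ξ) := ⟨_, rfl⟩
    rw [← hA, ← hB]
    have hsA : IsSigned A := hA ▸ hsig ξ hξ
    have hsB : IsSigned B := hB ▸ hsig _ hc
    have hcs : IsSigned (Cfsg.conjFun A) := by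
      rcases hsA with h | h
      · exact Or.inl (conjFun_irr h)
      · exact Or.inr (by simpa [show Cfsg.conjFun (-A) = -Cfsg.conjFun A by funext x; simp [Cfsg.conjFun]] using conjFun_irr h)
    have hAA : Cfsg.classInner A (Cfsg.conjFun A) = 0 := by
      rcases isSigned_inner hsA hcs with h | ⟨e, he, -, hx⟩
      · exact h
      exfalso
      obtain ⟨χ, d, hχ, hd, hAd⟩ := isSigned_exists hsA
      have hd' : Cfsg.conjFun A = d • Cfsg.conjFun χ := by
        funext x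
        simp only [hAd, Cfsg.conjFun, Pi.smul_apply, smul_eq_mul, map_mul]
        rcases hd with rfl | rfl <;> simp
      rw [hd', hAd, smul_smul] at hx
      have h1 := congrFun hx 1
      rw [Pi.smul_apply, Pi.smul_apply, conjFun_one_of_char (CT.isCharacter_of_isIrr hχ)] at h1
      simp only [smul_eq_mul] at h1
      have hχ1 := CT.irr_one_ne_zero hχ
      have he1 : d = e * d := mul_right_cancel₀ hχ1 h1
      have hd0 : d ≠ 0 := by rcases hd with rfl | rfl <;> simp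
      rw [← he1] at hx
      have hreal : Cfsg.conjFun χ = χ := (smul_right_injective _ hd0 hx).symm
      have ht := CT.real_irr_eq_one_of_odd hodd (χ := ⟨χ, hχ⟩) fun g =>
        Complex.conj_eq_iff_im.mp (congrFun hreal g)
      have ht' : χ = fun _ => (1 : ℂ) := congrArg Subtype.val ht
      have h0 := horth1 ξ hξ
      rw [← hA, hAd, ht', CT.classInner_smul_left, CT.irr_inner_self CT.isIrrCharacter_one, mul_one] at h0
      exact hd0 h0
    have hd : Cfsg.conjFun A - Cfsg.conjFun B = B - A := by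
      have h1 := hdiff ξ hξ _ hc
      have h2 := congrArg Cfsg.conjFun h1
      rw [← hA, ← hB] at h1 h2
      rw [show Cfsg.conjFun (A - B) = Cfsg.conjFun A - Cfsg.conjFun B by funext x; simp [Cfsg.conjFun],
        hconjInd, show Cfsg.conjFun (ξ - Cfsg.conjFun ξ) = -(ξ - Cfsg.conjFun ξ) by
          funext x; simp [Cfsg.conjFun], CT.indFun_neg, ← h1, neg_sub] at h2
      exact h2
    have h3 := congrArg (fun f => Cfsg.classInner f (Cfsg.conjFun A)) hd
    simp only [CT.classInner_sub_left, classInner_conjFun_conjFun, isSigned_norm hsA, hAA, sub_zero] at h3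
    rw [show Cfsg.classInner B A = 0 by rw [hA, hB]; exact horth _ hc ξ hξ hcne] at h3
    simp only [map_one, map_zero, sub_zero] at h3
    rcases isSigned_inner hsB hcs with h | ⟨e, -, hin, hx⟩
    · rw [h] at h3; exact absurd h3 one_ne_zero
    · rw [← h3] at hin
      rw [hx, ← hin, one_smul]
  obtain ⟨ζ, hζ⟩ := hT.nonempty
  obtain ⟨β₀, hβ₀⟩ : ∃ b, b = Cfsg.indFun N (fun _ => (1 : ℂ)) - ζ := ⟨_, rfl⟩
  have hind1 : Cfsg.IsGeneralizedCharacter L (Cfsg.indFun N (fun _ => (1 : ℂ))) :=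
    CT.isGen_of_isCharacter (CT.isCharacter_indFun N CT.isCharacter_one)
  have hβgen : Cfsg.IsGeneralizedCharacter L β₀ := hβ₀ ▸ CT.isGen_sub hind1 (CT.isGen_of_isIrr (hT.irr ζ hζ))
  have hβsupp : ∀ x : L, (x : G) ∉ H → β₀ x = 0 := fun x hx => by
    rw [hβ₀, Pi.sub_apply, CT.indFun_eq_zero_of_not_mem N _ ((hsuppN x).mpr hx),
      hT.supp ζ hζ x ((hsuppN x).mpr hx), sub_zero]
  have hβ1 : β₀ 1 = 0 := by rw [hβ₀, Pi.sub_apply, CT.indFun_one_eval, hT.deg ζ hζ, mul_one, sub_self]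
  obtain ⟨a₀, ha₀⟩ := gen_inner_int (CT.isGen_indFun L hβgen) (isSigned_isGen (hsig ζ hζ))
  have hinj : Set.InjOn τ₁ (↑T : Set (L → ℂ)) := fun x hx y hy e => by
    by_contra hne
    have h0 := horth x hx y hy hne
    rw [e, isSigned_norm (hsig y hy)] at h0
    exact one_ne_zero h0
  have hodde : Odd N.index := hoddL.of_dvd_nat N.index_dvd_card
  have hidx : N.index = H.relIndex L := by rw [hN]; rfl
  have h3e : 3 ≤ N.index := by
    have h1 : N.index ≠ 1 := fun h => hNt (Subgroup.index_eq_one.mp h)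
    obtain ⟨k, hk⟩ := hodde
    omega
  have hcardN : Nat.card N = Nat.card H := by rw [hN]; exact Nat.card_congr (Subgroup.subgroupOfEquivOfLe hlt.le).toEquiv
  refine ⟨{ A := conjSet H, e := N.index, h := Nat.card H, t := T.card, E := T.image τ₁, z := τ₁ ζ,
            β := Cfsg.indFun L β₀, a := a₀ + 1, card_E := Finset.card_image_of_injOn hinj,
            z_mem := Finset.mem_image_of_mem _ hζ, e_odd := hodde, three_le_e := h3e, t_even := hteven,
            two_le_t := ht2,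
            signed := ?signed, orth := ?orth, orth_one := ?orth_one, conj_mem := ?conj_mem, one_not_mem := ?one_not_mem, diff_zero := ?diff_zero, β_supp := ?β_supp, β_gen := ?β_gen, β_one := ?β_one, β_norm := ?β_norm, β_z := ?β_z, β_eta := ?β_eta, β_conj := ?β_conj, u_dvd := ?u_dvd, h_pos := ?h_pos, h_seven := ?h_seven }, rfl, rfl, hidx⟩
  case signed => intro η hη; obtain ⟨ξ, hξ, rfl⟩ := Finset.mem_image.mp hη; exact hsig ξ hξ
  case orth =>
    intro η hη η' hη' hne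
    obtain ⟨ξ, hξ, rfl⟩ := Finset.mem_image.mp hη
    obtain ⟨ξ', hξ', rfl⟩ := Finset.mem_image.mp hη'
    exact horth ξ hξ ξ' hξ' fun e => hne (congrArg τ₁ e)
  case orth_one => intro η hη; obtain ⟨ξ, hξ, rfl⟩ := Finset.mem_image.mp hη; exact horth1 ξ hξ
  case conj_mem =>
    intro η hη
    obtain ⟨ξ, hξ, rfl⟩ := Finset.mem_image.mp hη
    exact Finset.mem_image.mpr ⟨_, (hT.conj ξ hξ).1, (hconjη ξ hξ).symm⟩
  case one_not_mem => exact fun h => h.1 rfl
  case diff_zero =>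
    intro η hη η' hη' x hx
    obtain ⟨ξ, hξ, rfl⟩ := Finset.mem_image.mp hη
    obtain ⟨ξ', hξ', rfl⟩ := Finset.mem_image.mp hη'
    rw [← sub_eq_zero, ← Pi.sub_apply, hdiff ξ hξ ξ' hξ']
    exact ind_supp H L (hz _ (hmemd ξ hξ ξ' hξ').1).1 (zspanOn_iff.mp (hmemd ξ hξ ξ' hξ')).2 hx
  case β_supp => exact fun x hx => ind_supp H L hβsupp hβ1 hx
  case β_gen => exact CT.isGen_indFun L hβgen
  case β_one =>
    rw [CT.frobenius_reciprocity L _ (CT.isClassFunction_of_isIrr CT.isIrrCharacter_one), hβ₀,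
      CT.classInner_sub_left, CT.irr_inner (hT.irr ζ hζ) CT.isIrrCharacter_one, if_neg, sub_zero]
    · haveI := Fintype.ofFinite N
      rw [CT.frobenius_reciprocity N _ (CT.isClassFunction_of_isIrr CT.isIrrCharacter_one),
        CT.irr_inner_self CT.isIrrCharacter_one]
    · intro e
      have hd := congrFun e 1
      rw [hT.deg ζ hζ] at hd
      exact hNt (Subgroup.index_eq_one.mp (by exact_mod_cast hd))
  case β_norm =>
    rw [hiso β₀ β₀ hβsupp hβsupp hβ1 hβgen, hβ₀, CT.classInner_sub_left, CT.classInner_sub_right,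
      CT.classInner_sub_right, norm_indFun_one, hT.orth_one ζ hζ,
      isSigned_inner_symm_eq_zero (hT.orth_one ζ hζ), CT.irr_inner_self (hT.irr ζ hζ)]
    ring
  case β_z => rw [ha₀]; push_cast; ring
  case β_eta =>
    intro η hη hne
    obtain ⟨ξ, hξ, rfl⟩ := Finset.mem_image.mp hη
    have hne' : ξ ≠ ζ := fun e => hne (congrArg τ₁ e)
    have h1 : Cfsg.classInner (Cfsg.indFun L β₀) (τ₁ ξ - τ₁ ζ) = 1 := by
      rw [hdiff ξ hξ ζ hζ, hiso β₀ (ξ - ζ) hβsupp (hz _ (hmemd ξ hξ ζ hζ).1).1 hβ1 (hz _ (hmemd ξ hξ ζ hζ).1).2, hβ₀,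
        CT.classInner_sub_left, CT.classInner_sub_right, CT.classInner_sub_right, hT.orth_one ζ hζ,
        hT.orth_one ξ hξ, CT.irr_inner_self (hT.irr ζ hζ),
        CT.irr_inner_of_ne (hT.irr ζ hζ) (hT.irr ξ hξ) hne'.symm]
      ring
    rw [CT.classInner_sub_right, ha₀, sub_eq_iff_eq_add] at h1
    rw [h1]; push_cast; ring
  case β_conj =>
    have h0 : Cfsg.conjFun β₀ = β₀ + (ζ - Cfsg.conjFun ζ) := by
      funext x
      have hreal : (starRingEnd ℂ) (Cfsg.indFun N (fun _ => (1 : ℂ)) x) = Cfsg.indFun N (fun _ => (1 : ℂ)) x := by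
        rw [indFun_one_apply]
        split_ifs <;> simp
      simp only [hβ₀, Cfsg.conjFun, Pi.sub_apply, Pi.add_apply, map_sub, hreal]
      ring
    rw [hconjInd, h0, CT.indFun_add, ← hdiff ζ hζ _ (hT.conj ζ hζ).1, hconjη ζ hζ]
    abel
  case u_dvd =>
    rw [← hcardN, hT.card_mul]
    exact (commutator N).index_dvd_card
  case h_pos => exact Nat.card_pos
  case h_seven =>
    intro he ht
    have h7 : (commutator N).index = 7 := by rw [← hT.card_mul, he, ht]
    haveI := frob_nilpotent N hC hN1 hNt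
    have hcomm := comm_of_isCyclic_commutator_quotient (X := N) (by rw [h7]; norm_num)
    have hbot : commutator N = ⊥ := by
      rw [commutator_def, Subgroup.commutator_eq_bot_iff_le_centralizer]
      exact fun a _ => Subgroup.mem_centralizer_iff.mpr fun b _ => hcomm b a
    rw [hbot, Subgroup.index_bot, hcardN] at h7
    exact h7

theorem arith_big {E g : ℝ} (hE : 3 ≤ E) (hg : (4 * E + 1) * (2 * E + 1) ≤ g) :
    1 / E + (E - 1) / (2 * E) + E / (4 * E + 1) * ((2 * E + 1) / (2 * E)) + 1 / g < 1 := by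
  have h1 : 1 / g ≤ 1 / ((4 * E + 1) * (2 * E + 1)) := one_div_le_one_div_of_le (by positivity) hg
  suffices 1 / E + (E - 1) / (2 * E) + E / (4 * E + 1) * ((2 * E + 1) / (2 * E)) +
      1 / ((4 * E + 1) * (2 * E + 1)) < 1 by linarith
  field_simp
  nlinarith [mul_nonneg (sub_nonneg.mpr hE) (sub_nonneg.mpr hE)]

theorem arith_small {E x g : ℝ} (hE : 3 ≤ E) (hx : x ≤ 1 / E) (hx3 : E < 5 → E = 3 ∧ x ≤ 2 / 7)
    (hg : (2 * E + 1) * (2 * E + 5) ≤ g) :
    x + (E - 1) / (2 * E + 4) + E / (2 * E + 1) * ((2 * E + 5) / (2 * E + 4)) + 1 / g < 1 := by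
  have h1 : 1 / g ≤ 1 / ((2 * E + 1) * (2 * E + 5)) := one_div_le_one_div_of_le (by positivity) hg
  rcases lt_or_ge E 5 with h | h
  · obtain ⟨rfl, hx'⟩ := hx3 h
    norm_num at h1 ⊢
    linarith
  · suffices 1 / E + (E - 1) / (2 * E + 4) + E / (2 * E + 1) * ((2 * E + 5) / (2 * E + 4)) +
        1 / ((2 * E + 1) * (2 * E + 5)) < 1 by linarith
    field_simp
    nlinarith [mul_nonneg (sub_nonneg.mpr h) (sub_nonneg.mpr h),
      mul_nonneg (mul_nonneg (sub_nonneg.mpr h) (sub_nonneg.mpr h)) (sub_nonneg.mpr h)]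

theorem no_blocks {ι : Type v} [Fintype ι] (hodd : Odd (Nat.card G)) (B : ι → Blk G) (hι : 2 ≤ Fintype.card ι)
    (hdis : ∀ i j, i ≠ j → Disjoint (B i).A (B j).A)
    (hcop : ∀ i j, i ≠ j → Nat.Coprime (B i).h (B j).h) (hdvd : ∀ i, (B i).h ∣ Nat.card G)
    (hid : ∑ i, (((B i).h : ℝ) - 1) / (((B i).h : ℝ) * (B i).e) = 1 - 1 / (Nat.card G : ℝ)) : False := by
  classical
  haveI : Nonempty ι := Fintype.card_pos_iff.mp (by omega)
  obtain ⟨i, -, hmin⟩ := Finset.exists_min_image Finset.univ (fun i => (B i).e) Finset.univ_nonempty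
  have hmin' : ∀ j, (B i).e ≤ (B j).e := fun j => hmin j (Finset.mem_univ j)
  have hb : ∀ j k, ∃ m : ℤ, Cfsg.classInner (B j).β (B k).z = m := fun j k =>
    gen_inner_int (B j).β_gen ((B k).isGen (B k).z_mem)
  choose b hb using hb
  have hpar : ∀ j, j ≠ i → b i j ≠ 0 ∨ b j i ≠ 0 := fun j hj =>
    blk_parity hodd (hdis i j hj.symm) (hb i j) (hb j i)
  let In : Finset ι := (Finset.univ.erase i).filter fun j => b i j ≠ 0
  let Out : Finset ι := (Finset.univ.erase i).filter fun j => b i j = 0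
  -- the bound at the column of `i`
  have hin : ∑ j ∈ In, ((B j).t : ℝ) ≤ ((B i).e : ℝ) - 1 := by
    have hIn : ∀ j ∈ In, j ≠ i := fun j hj => Finset.ne_of_mem_erase (Finset.mem_filter.mp hj).1
    obtain ⟨hnorm, -⟩ := bessel (In.sigma fun j => (B j).E) (fun p => p.2) (fun p => (b i p.1 : ℂ)) (B i).Γ
      (fun p hp q hq hne => by
        obtain ⟨j, η⟩ := p
        obtain ⟨k, ρ⟩ := q
        rw [Finset.mem_sigma] at hp hq
        by_cases hjk : j = k
        · subst hjk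
          exact (B j).orth η hp.2 ρ hq.2 fun e => hne (by subst e; rfl)
        · exact blk_cross (hdis j k hjk) hp.2 hq.2)
      (fun p hp => by
        rw [Finset.mem_sigma] at hp
        rw [Γ_other (hdis i p.1 (hIn p.1 hp.1).symm) hp.2, hb, isSigned_norm ((B p.1).signed _ hp.2), mul_one])
    have h0 := congrArg Complex.re hnorm
    have h1 := classInner_self_re_nonneg ((B i).Γ - ∑ p ∈ In.sigma fun j => (B j).E, (b i p.1 : ℂ) • p.2)
    rw [h0, Complex.sub_re, Complex.re_sum] at h1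
    have h2 := (B i).Γ_norm
    have h3 : ∑ j ∈ In, ((B j).t : ℝ) ≤ ∑ p ∈ In.sigma (fun j => (B j).E),
        ((b i p.1 : ℂ) * (starRingEnd ℂ) (b i p.1 : ℂ) * Cfsg.classInner p.2 p.2).re := by
      rw [Finset.sum_sigma]
      refine Finset.sum_le_sum fun j hj => ?_
      calc ((B j).t : ℝ) = ∑ η ∈ (B j).E, (1 : ℝ) := by rw [Finset.sum_const, (B j).card_E, nsmul_eq_mul, mul_one]
        _ ≤ _ := Finset.sum_le_sum fun η hη => by
          rw [isSigned_norm ((B j).signed η hη), mul_one, map_intCast]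
          have hne : (1 : ℤ) ≤ b i j * b i j := by
            have := mul_self_pos.mpr (Finset.mem_filter.mp hj).2
            omega
          have hne' : (1 : ℝ) ≤ (b i j : ℝ) * (b i j : ℝ) := by exact_mod_cast hne
          simpa using hne'
    linarith
  -- the bound at the row of `i`
  have hout : ∑ j ∈ Out, ((B j).t : ℝ) / (((B j).t : ℝ) * (B j).e + 1) ≤
      ((B i).e : ℝ) / (((B i).t : ℝ) * (B i).e + 1) := by
    have h1 := (B i).wgt_self
    have h2 : ∀ j ∈ Out, ((B j).t : ℝ) / (((B j).t : ℝ) * (B j).e + 1) ≤ wgt (B j).A (B i).z := by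
      intro j hj
      have hji : j ≠ i := Finset.ne_of_mem_erase (Finset.mem_filter.mp hj).1
      have hne : b j i ≠ 0 := (hpar j hji).resolve_left (not_not.mpr (Finset.mem_filter.mp hj).2)
      refine le_trans ?_ (wgt_other (hdis j i hji) (hb j i))
      have hne' : (1 : ℝ) ≤ (b j i : ℝ) ^ 2 := by
        have : (1 : ℤ) ≤ b j i ^ 2 := by have := sq_pos_of_ne_zero hne; omega
        exact_mod_cast this
      have ht : (0 : ℝ) < (B j).t := by exact_mod_cast lt_of_lt_of_le two_pos (B j).two_le_t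
      calc ((B j).t : ℝ) / (((B j).t : ℝ) * (B j).e + 1)
          = 1 / (((B j).e : ℝ) + ((B j).t : ℝ)⁻¹) := by field_simp
        _ ≤ _ := by gcongr
    have h3 : wgt (B i).A (B i).z + ∑ j ∈ Out, wgt (B j).A (B i).z ≤ 1 := by
      rw [← Finset.sum_insert (f := fun j => wgt (B j).A (B i).z) (by simp [Out])]
      simp only [wgt, ← Finset.mul_sum]
      have hu := Finset.sum_biUnion (s := insert i Out)
        (t := fun j => Finset.univ.filter fun y => y ∈ (B j).A) (f := fun y => ‖(B i).z y‖ ^ 2)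
        (fun j _ k _ hjk => Finset.disjoint_filter.mpr fun y _ hy hy' =>
          Set.disjoint_left.mp (hdis j k hjk) hy hy')
      rw [← hu]
      have hn : (Cfsg.classInner (B i).z (B i).z).re = 1 := by
        rw [isSigned_norm ((B i).signed _ (B i).z_mem), Complex.one_re]
      rw [CT.classInner_self, Complex.ofReal_re] at hn
      refine le_trans (mul_le_mul_of_nonneg_left ?_ (by positivity)) hn.le
      exact Finset.sum_le_sum_of_subset_of_nonneg (Finset.subset_univ _) fun x _ _ => sq_nonneg _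
    have := Finset.sum_le_sum h2
    linarith
  -- estimates
  obtain ⟨E, hE⟩ : ∃ E : ℝ, E = ((B i).e : ℝ) := ⟨_, rfl⟩
  have hE3 : 3 ≤ E := by rw [hE]; exact_mod_cast (B i).three_le_e
  rw [← hE] at hin hout
  obtain ⟨x, hx⟩ : ∃ x : ι → ℝ, x = fun j => (((B j).h : ℝ) - 1) / (((B j).h : ℝ) * (B j).e) := ⟨_, rfl⟩
  have hhpos : ∀ j, (0 : ℝ) < (B j).h := fun j => by exact_mod_cast (B j).h_pos
  have hepos : ∀ j, (0 : ℝ) < (B j).e := fun j => by exact_mod_cast lt_of_lt_of_le three_pos (B j).three_le_e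
  have hxe : ∀ j, x j ≤ 1 / ((B j).e : ℝ) := fun j => by
    rw [hx, div_le_div_iff₀ (mul_pos (hhpos j) (hepos j)) (hepos j)]
    nlinarith [hepos j]
  have hsum : x i + ∑ j ∈ In, x j + ∑ j ∈ Out, x j = 1 - 1 / (Nat.card G : ℝ) := by
    rw [add_assoc, Finset.sum_filter_not_add_sum_filter (Finset.univ.erase i) (fun j => b i j = 0) x |>
      fun h => show ∑ j ∈ In, x j + ∑ j ∈ Out, x j = ∑ j ∈ Finset.univ.erase i, x j from h,
      Finset.add_sum_erase _ _ (Finset.mem_univ i), hx, hid]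
  have hg : ∀ j, j ≠ i → (((B i).t : ℝ) * (B i).e + 1) * (((B j).t : ℝ) * (B j).e + 1) ≤ (Nat.card G : ℝ) := by
    intro j hj
    have h1 := Nat.le_of_dvd Nat.card_pos ((hcop i j hj.symm).mul_dvd_of_dvd_of_dvd (hdvd i) (hdvd j))
    have h2 : ((B i).t * (B i).e + 1) * ((B j).t * (B j).e + 1) ≤ (B i).h * (B j).h :=
      Nat.mul_le_mul (Nat.le_of_dvd (B i).h_pos (B i).u_dvd) (Nat.le_of_dvd (B j).h_pos (B j).u_dvd)
    exact_mod_cast h2.trans h1
  obtain ⟨j₀, hj₀⟩ := Fintype.exists_ne_of_one_lt_card (by omega : 1 < Fintype.card ι) i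
  have houtK : ∀ D : ℝ, 0 < D → (∀ j ∈ Out, D ≤ ((B j).t : ℝ) * (B j).e) →
      ∑ j ∈ Out, x j ≤ E / (((B i).t : ℝ) * E + 1) * ((D + 1) / D) := by
    intro D hD hDj
    rw [hE] at hout ⊢
    calc ∑ j ∈ Out, x j ≤ ∑ j ∈ Out, ((B j).t : ℝ) / (((B j).t : ℝ) * (B j).e + 1) * ((D + 1) / D) := by
          refine Finset.sum_le_sum fun j hj => (hxe j).trans ?_
          have hDj' := hDj j hj
          have := hepos j
          have ht : (0 : ℝ) < (B j).t := by exact_mod_cast lt_of_lt_of_le two_pos (B j).two_le_t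
          rw [div_mul_div_comm, div_le_div_iff₀ this (by positivity)]
          nlinarith
      _ = (∑ j ∈ Out, ((B j).t : ℝ) / (((B j).t : ℝ) * (B j).e + 1)) * ((D + 1) / D) :=
          (Finset.sum_mul _ _ _).symm
      _ ≤ _ := mul_le_mul_of_nonneg_right hout (by positivity)
  have heE : ∀ j, E ≤ ((B j).e : ℝ) := fun j => by rw [hE]; exact_mod_cast hmin' j
  have ht2 : ∀ j, (2 : ℝ) ≤ (B j).t := fun j => by exact_mod_cast (B j).two_le_t
  rcases Nat.lt_or_ge (B i).t 4 with ht | ht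
  · -- two characters at `i`
    have hti : (B i).t = 2 := by
      obtain ⟨k, hk⟩ := (B i).t_even
      have := (B i).two_le_t
      omega
    have hstep : ∀ j, j ≠ i → (B j).t = 2 → E + 2 ≤ ((B j).e : ℝ) := by
      intro j hj htj
      have hne : (B j).e ≠ (B i).e := fun e => by
        have h1 := (B i).u_dvd
        have h2 := (B j).u_dvd
        rw [htj, e] at h2
        rw [hti] at h1
        have := Nat.eq_one_of_dvd_coprimes (hcop i j hj.symm) h1 h2
        have := (B i).three_le_e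
        omega
      obtain ⟨k, hk⟩ := (B i).e_odd
      obtain ⟨l, hl⟩ := (B j).e_odd
      have h4 : (B i).e + 2 ≤ (B j).e := by have := hmin' j; omega
      rw [hE]; exact_mod_cast h4
    have ht4 : ∀ j, (B j).t = 2 ∨ (4 : ℝ) ≤ (B j).t := fun j => by
      obtain ⟨k, hk⟩ := (B j).t_even
      have := (B j).two_le_t
      by_cases h : (B j).t = 2
      · exact Or.inl h
      · exact Or.inr (by exact_mod_cast (by omega : 4 ≤ (B j).t))
    have hD : ∀ j, j ≠ i → 2 * E + 4 ≤ ((B j).t : ℝ) * (B j).e := fun j hj => by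
      rcases ht4 j with h | h
      · have := hstep j hj h
        rw [h]; push_cast; linarith
      · have := heE j
        nlinarith
    have hO := houtK (2 * E + 4) (by linarith) fun j hj => hD j (Finset.ne_of_mem_erase (Finset.mem_filter.mp hj).1)
    have hI : ∑ j ∈ In, x j ≤ (E - 1) / (2 * E + 4) := by
      calc ∑ j ∈ In, x j ≤ ∑ j ∈ In, ((B j).t : ℝ) / (2 * E + 4) := by
            refine Finset.sum_le_sum fun j hj => (hxe j).trans ?_
            rw [div_le_div_iff₀ (hepos j) (by linarith)]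
            linarith [hD j (Finset.ne_of_mem_erase (Finset.mem_filter.mp hj).1)]
        _ = (∑ j ∈ In, ((B j).t : ℝ)) / (2 * E + 4) := (Finset.sum_div _ _ _).symm
        _ ≤ _ := by gcongr
    have hgE : (2 * E + 1) * (2 * E + 5) ≤ (Nat.card G : ℝ) := by
      refine le_trans ?_ (hg j₀ hj₀)
      rw [hti, ← hE]
      push_cast
      exact mul_le_mul_of_nonneg_left (by linarith [hD j₀ hj₀]) (by linarith)
    have hA := arith_small hE3 (x := x i) ((hxe i).trans (by rw [hE])) (fun h5 => by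
      have he3 : (B i).e = 3 := by
        obtain ⟨k, hk⟩ := (B i).e_odd
        have h5' : (B i).e < 5 := by rw [hE] at h5; exact_mod_cast h5
        have := (B i).three_le_e
        omega
      refine ⟨by rw [hE, he3]; norm_num, ?_⟩
      rw [hx]
      simp only [he3, (B i).h_seven he3 hti]
      norm_num) hgE
    rw [show ((B i).t : ℝ) * E + 1 = 2 * E + 1 by rw [hti]; norm_num,
      show (2 * E + 4 + 1) = 2 * E + 5 by ring] at hO
    linarith
  · -- at least four characters at `i`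
    have hti : (4 : ℝ) ≤ (B i).t := by exact_mod_cast ht
    have hD : ∀ j, 2 * E ≤ ((B j).t : ℝ) * (B j).e := fun j => by
      have := heE j
      have := ht2 j
      nlinarith
    have hO := houtK (2 * E) (by linarith) fun j _ => hD j
    have hI : ∑ j ∈ In, x j ≤ (E - 1) / (2 * E) := by
      calc ∑ j ∈ In, x j ≤ ∑ j ∈ In, ((B j).t : ℝ) / (2 * E) := by
            refine Finset.sum_le_sum fun j hj => (hxe j).trans ?_
            rw [div_le_div_iff₀ (hepos j) (by linarith)]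
            linarith [hD j]
        _ = (∑ j ∈ In, ((B j).t : ℝ)) / (2 * E) := (Finset.sum_div _ _ _).symm
        _ ≤ _ := by gcongr
    have hgE : (4 * E + 1) * (2 * E + 1) ≤ (Nat.card G : ℝ) := by
      refine le_trans ?_ (hg j₀ hj₀)
      rw [← hE]
      exact mul_le_mul (by nlinarith) (by linarith [hD j₀]) (by linarith) (by nlinarith)
    have hA := arith_big hE3 hgE
    have hmono : E / (((B i).t : ℝ) * E + 1) * ((2 * E + 1) / (2 * E)) ≤
        E / (4 * E + 1) * ((2 * E + 1) / (2 * E)) := by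
      refine mul_le_mul_of_nonneg_right ?_ (div_nonneg (by linarith) (by linarith))
      gcongr
    have := hxe i
    rw [← hE] at this
    linarith

end Cfsg.Agent.OddChar
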