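import Mathlib

/-!
The combinatorics of an array of norm-three integral vectors with inner products one along
lines and zero otherwise: every line is a sunflower.
-/

set_option autoImplicit false

namespace Cfsg.Agent.OddChar.CyclicComb

open Finset

variable {ι : Type*} [Fintype ι] [DecidableEq ι]

/-- The support. -/
def sup (v : ι → ℤ) : Finset ι := univ.filter fun q => v q ≠ 0

/-- Three entries equal to `±1`. -/
def Unit3 (v : ι → ℤ) : Prop := (∀ q, v q = 0 ∨ v q = 1 ∨ v q = -1) ∧ (sup v).card = 3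

/-- Exactly one common point, with the same sign. -/
def Meet (v w : ι → ℤ) : Prop := ∃ q, v q ≠ 0 ∧ w q = v q ∧ ∀ r, r ≠ q → v r = 0 ∨ w r = 0

theorem mem_sup {v : ι → ℤ} {q : ι} : q ∈ sup v ↔ v q ≠ 0 := by simp [sup]

theorem Meet.symm {v w : ι → ℤ} (h : Meet v w) : Meet w v := by
  obtain ⟨q, hq, he, hr⟩ := h
  exact ⟨q, he ▸ hq, he.symm, fun r hr' => (hr r hr').symm⟩

theorem Meet.unique {v w : ι → ℤ} (h : Meet v w) {p r : ι} (hp : v p ≠ 0) (hp' : w p ≠ 0)
    (hr : v r ≠ 0) (hr' : w r ≠ 0) : p = r := by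
  obtain ⟨q, -, -, hu⟩ := h
  have key : ∀ s, v s ≠ 0 → w s ≠ 0 → s = q := fun s h1 h2 => by
    by_contra hne
    rcases hu s hne with h | h
    · exact h1 h
    · exact h2 h
  rw [key p hp hp', key r hr hr']

theorem Meet.sign {v w : ι → ℤ} (h : Meet v w) {p : ι} (hp : v p ≠ 0) (hp' : w p ≠ 0) :
    w p = v p := by
  obtain ⟨q, hq, he, hu⟩ := h
  have : p = q := Meet.unique ⟨q, hq, he, hu⟩ hp hp' hq (he ▸ hq)
  rw [this, he]

theorem Meet.sum {v w : ι → ℤ} (h : Meet v w) (hv : Unit3 v) : ∑ q, v q * w q = 1 := by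
  obtain ⟨q, hq, he, hu⟩ := h
  rw [sum_eq_single q (fun r _ hr => by rcases hu r hr with h | h <;> simp [h]) (by simp), he]
  rcases hv.1 q with h | h | h <;> simp_all

theorem Unit3.exists_three {v : ι → ℤ} (hv : Unit3 v) :
    ∃ a b c, a ≠ b ∧ a ≠ c ∧ b ≠ c ∧ sup v = {a, b, c} :=
  card_eq_three.1 hv.2

theorem Unit3.sum_mul {v : ι → ℤ} {a b c : ι} (hab : a ≠ b) (hac : a ≠ c) (hbc : b ≠ c)
    (h : sup v = {a, b, c}) (w : ι → ℤ) :
    ∑ q, v q * w q = v a * w a + v b * w b + v c * w c := by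
  rw [← sum_subset (subset_univ (sup v)) (fun q _ hq => by
    rw [mem_sup, not_not] at hq; simp [hq]), h,
    sum_insert (by simp [hab, hac]), sum_pair hbc, add_assoc]

theorem Unit3.eq_triple {v : ι → ℤ} (hv : Unit3 v) {a b c : ι} (ha : v a ≠ 0) (hb : v b ≠ 0)
    (hc : v c ≠ 0) (hab : a ≠ b) (hac : a ≠ c) (hbc : b ≠ c) : sup v = {a, b, c} := by
  refine (eq_of_subset_of_card_le ?_ ?_).symm
  · intro q hq
    simp only [mem_insert, mem_singleton] at hq
    rcases hq with rfl | rfl | rfl <;> simpa [mem_sup]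
  · rw [hv.2, card_eq_three.2 ⟨a, b, c, hab, hac, hbc, rfl⟩]

/-- The third point. -/
theorem Unit3.third {v : ι → ℤ} (hv : Unit3 v) {a b : ι} (ha : v a ≠ 0) (hb : v b ≠ 0)
    (hab : a ≠ b) : ∃ c, v c ≠ 0 ∧ a ≠ c ∧ b ≠ c ∧ sup v = {a, b, c} := by
  have hlt : ({a, b} : Finset ι).card < (sup v).card := by rw [hv.2, card_pair hab]; norm_num
  obtain ⟨c, hc, hc'⟩ := exists_mem_notMem_of_card_lt_card hlt
  simp only [mem_insert, mem_singleton, not_or] at hc'
  exact ⟨c, mem_sup.1 hc, Ne.symm hc'.1, Ne.symm hc'.2,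
    hv.eq_triple ha hb (mem_sup.1 hc) hab (Ne.symm hc'.1) (Ne.symm hc'.2)⟩

/-! ### The finite checks -/

theorem moment_check : ∀ e₁ e₂ e₃ : Bool, ∀ d₁ d₂ d₃ : Fin 4, ∀ n₁₂ n₁₃ n₂₃ : Bool,
    d₁ ≠ 1 → d₂ ≠ 1 → d₃ ≠ 1 →
    (n₁₂ = true → d₁ ≠ 0 ∧ d₂ ≠ 0) → (n₁₃ = true → d₁ ≠ 0 ∧ d₃ ≠ 0) →
    (n₂₃ = true → d₂ ≠ 0 ∧ d₃ ≠ 0) →
    (if e₁ then (1 : ℤ) else -1) * (d₁ : ℕ) + (if e₂ then (1 : ℤ) else -1) * (d₂ : ℕ) +
        (if e₃ then (1 : ℤ) else -1) * (d₃ : ℕ) = 1 →
    ((d₁ : ℕ) : ℤ) + (d₂ : ℕ) + (d₃ : ℕ) + 2 * ((if n₁₂ then (if e₁ = e₂ then (1 : ℤ) else -1) else 0) +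
      (if n₁₃ then (if e₁ = e₃ then (1 : ℤ) else -1) else 0) +
      (if n₂₃ then (if e₂ = e₃ then (1 : ℤ) else -1) else 0)) ≠ 1 := by
  decide +kernel

/-- All lists of length `n` with entries `-1, 0, 1`. -/
def vecs : ℕ → List (List ℤ)
  | 0 => [[]]
  | n + 1 => [-1, 0, 1].flatMap fun a => (vecs n).map fun l => a :: l

theorem mem_vecs : ∀ (l : List ℤ), (∀ a ∈ l, a = 0 ∨ a = 1 ∨ a = -1) → l ∈ vecs l.length
  | [], _ => by simp [vecs]
  | a :: l, h => by
    simp only [List.length_cons, vecs, List.mem_flatMap, List.mem_map]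
    refine ⟨a, ?_, l, mem_vecs l (fun b hb => h b (by simp [hb])), rfl⟩
    rcases h a (by simp) with rfl | rfl | rfl <;> simp

/-- Sum of products over three positions. -/
def tri (v : List ℤ) (i j k : ℕ) : ℤ := v.getD i 0 + v.getD j 0 + v.getD k 0

/-- Sum of absolute values over three positions. -/
def triAbs (v : List ℤ) (i j k : ℕ) : ℕ :=
  (v.getD i 0).natAbs + (v.getD j 0).natAbs + (v.getD k 0).natAbs

/-- Number of nonzero entries. -/
def wt (v : List ℤ) : ℕ := (v.map Int.natAbs).sum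

/-- Possible restriction to the seven points of the vector in position `l`. -/
def cand (l : ℕ) : List (List ℤ) :=
  (vecs 7).filter fun v =>
    decide (wt v ≤ 3 ∧ tri v 0 1 4 = (if l = 0 then 1 else 0) ∧ tri v 0 2 5 = (if l = 1 then 1 else 0) ∧
      tri v 0 3 6 = (if l = 2 then 1 else 0) ∧ tri v 1 2 3 = (if l = 3 then 1 else 0) ∧
      (if l = 0 then triAbs v 0 1 4 else if l = 1 then triAbs v 0 2 5 else
        if l = 2 then triAbs v 0 3 6 else triAbs v 1 2 3) = 1)

/-- Compatibility of two restrictions. -/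
def okPair (v w : List ℤ) : Bool :=
  decide (((List.zipWith (· * ·) v w).count (-1) = 0) ∧
    ((List.zipWith (· * ·) v w).count 1 = 1 ∨
      ((List.zipWith (· * ·) v w).count 1 = 0 ∧ wt v < 3 ∧ wt w < 3)))

theorem seven_check : ((cand 0).all fun a => (cand 1).all fun b => (cand 2).all fun c =>
    (cand 3).all fun d =>
      !(okPair a b && okPair a c && okPair a d && okPair b c && okPair b d && okPair c d)) = true := by
  decide +kernel

/-! ### Two rows -/

variable {J : Type*} [Fintype J] [DecidableEq J]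

/-- Two lines of an array. -/
structure TwoRows (A B : J → ι → ℤ) : Prop where
  unitA : ∀ j, Unit3 (A j)
  unitB : ∀ j, Unit3 (B j)
  meetA : ∀ j k, j ≠ k → Meet (A j) (A k)
  meetB : ∀ j k, j ≠ k → Meet (B j) (B k)
  meetAB : ∀ j, Meet (A j) (B j)
  orth : ∀ j l, j ≠ l → ∑ q, A j q * B l q = 0
  even : Even (Fintype.card J)
  four : 4 ≤ Fintype.card J

variable {A B : J → ι → ℤ}

theorem TwoRows.symm (h : TwoRows A B) : TwoRows B A where
  unitA := h.unitB
  unitB := h.unitA
  meetA := h.meetB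
  meetB := h.meetA
  meetAB j := (h.meetAB j).symm
  orth j l hne := by
    rw [← h.orth l j hne.symm]
    exact sum_congr rfl fun q _ => mul_comm _ _
  even := h.even
  four := h.four

/-- The sign of a point in the row `A`. -/
theorem TwoRows.exists_sign (h : TwoRows A B) :
    ∃ s : ι → ℤ, (∀ q, s q = 1 ∨ s q = -1) ∧ ∀ j q, A j q ≠ 0 → A j q = s q := by
  classical
  refine ⟨fun q => if hq : ∃ j, A j q ≠ 0 then A hq.choose q else 1, fun q => ?_, fun j q hj => ?_⟩
  · dsimp only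
    split_ifs with hq
    · rcases (h.unitA hq.choose).1 q with e | e | e
      · exact absurd e hq.choose_spec
      · exact Or.inl e
      · exact Or.inr e
    · exact Or.inl rfl
  · have hq : ∃ j, A j q ≠ 0 := ⟨j, hj⟩
    simp only [dif_pos hq]
    rcases eq_or_ne hq.choose j with e | e
    · rw [e]
    · exact (h.meetA hq.choose j e).sign hq.choose_spec hj

theorem TwoRows.exists_others (h : TwoRows A B) (l : J) :
    ∃ a b c : J, a ≠ b ∧ a ≠ c ∧ b ≠ c ∧ a ≠ l ∧ b ≠ l ∧ c ≠ l := by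
  have hc : 2 < (univ.erase l).card := by
    rw [card_erase_of_mem (mem_univ l), card_univ]
    have := h.four
    omega
  obtain ⟨a, b, c, ha, hb, hc', hab, hac, hbc⟩ := two_lt_card_iff.1 hc
  exact ⟨a, b, c, hab, hac, hbc, (mem_erase.1 ha).1, (mem_erase.1 hb).1, (mem_erase.1 hc').1⟩

/-- Counting along a member of the row. -/
theorem TwoRows.sum_deg (h : TwoRows A B) (j : J) :
    ∑ q ∈ sup (A j), ((univ.filter fun k => A k q ≠ 0).card) = 3 + (Fintype.card J - 1) := by
  classical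
  have e1 : ∑ q ∈ sup (A j), ((univ.filter fun k => A k q ≠ 0).card) =
      ∑ k, ((sup (A j)).filter fun q => A k q ≠ 0).card := by
    simp only [card_filter]
    exact sum_comm
  rw [e1, ← add_sum_erase _ _ (mem_univ j)]
  have e2 : ((sup (A j)).filter fun q => A j q ≠ 0) = sup (A j) :=
    filter_true_of_mem fun q hq => mem_sup.1 hq
  have e3 : ∀ k ∈ univ.erase j, ((sup (A j)).filter fun q => A k q ≠ 0).card = 1 := by
    intro k hk
    obtain ⟨q, hq, he, hu⟩ := h.meetA j k (mem_erase.1 hk).1.symm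
    rw [card_eq_one]
    refine ⟨q, ?_⟩
    ext r
    simp only [mem_filter, mem_sup, mem_singleton]
    refine ⟨fun hr => ?_, fun hr => hr ▸ ⟨hq, he ▸ hq⟩⟩
    by_contra hne
    rcases hu r hne with e | e
    · exact hr.1 e
    · exact hr.2 e
  rw [e2, (h.unitA j).2, sum_congr rfl e3, sum_const, smul_eq_mul, mul_one,
    card_erase_of_mem (mem_univ j), card_univ]

/-- Without a common point every point lies in at most three members. -/
theorem TwoRows.deg_le (h : TwoRows A B) (hno : ∀ q, ∃ j, A j q = 0) (q : ι) :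
    (univ.filter fun k => A k q ≠ 0).card ≤ 3 := by
  classical
  obtain ⟨j, hj⟩ := hno q
  rw [← (h.unitA j).2]
  have hne : ∀ k, A k q ≠ 0 → j ≠ k := fun k hk e => hk (e ▸ hj)
  let f : J → ι := fun k => if hk : A k q ≠ 0 then (h.meetA j k (hne k hk)).choose else q
  have hf : ∀ k, A k q ≠ 0 → A j (f k) ≠ 0 ∧ A k (f k) ≠ 0 := by
    intro k hk
    have hs := (h.meetA j k (hne k hk)).choose_spec
    simp only [f, dif_pos hk]
    exact ⟨hs.1, hs.2.1 ▸ hs.1⟩
  refine card_le_card_of_injOn f (fun k hk => ?_) (fun k hk l hl he => ?_)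
  · exact mem_sup.2 (hf k (mem_filter.1 hk).2).1
  · have hk' : A k q ≠ 0 := (mem_filter.1 hk).2
    have hl' : A l q ≠ 0 := (mem_filter.1 hl).2
    by_contra hkl
    have h1 : f k = q := (h.meetA k l hkl).unique (hf k hk').2 (he ▸ (hf l hl').2) hk' hl'
    exact (h1 ▸ (hf k hk').1) hj

/-- The moments of a member of the second row. -/
theorem TwoRows.no_deg_ne_one (h : TwoRows A B) (hd3 : ∀ q, (univ.filter fun k => A k q ≠ 0).card ≤ 3)
    (hd1 : ∀ q, (univ.filter fun k => A k q ≠ 0).card ≠ 1) : False := by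
  classical
  obtain ⟨s, hs, hsA⟩ := h.exists_sign
  obtain ⟨l⟩ : Nonempty J := Fintype.card_pos_iff.1 (by have := h.four; omega)
  obtain ⟨a, b, c, hab, hac, hbc, hsup⟩ := (h.unitB l).exists_three
  let ind : J → ι → ℤ := fun k q => if A k q ≠ 0 then 1 else 0
  let cf : ι → ℤ := fun q => B l q * s q
  let X : J → ℤ := fun k => cf a * ind k a + cf b * ind k b + cf c * ind k c
  have hX : ∀ k, X k = if k = l then 1 else 0 := by
    intro k
    have e : ∑ q, B l q * A k q = X k := by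
      rw [Unit3.sum_mul hab hac hbc hsup]
      have e' : ∀ q, B l q * A k q = cf q * ind k q := by
        intro q
        simp only [cf, ind]
        split_ifs with hq
        · rw [hsA k q hq]; ring
        · rw [not_not] at hq; rw [hq]; ring
      rw [e', e', e']
    rw [← e]
    split_ifs with hk
    · subst hk
      exact (h.meetAB k).symm.sum (h.unitB k)
    · rw [← h.orth k l hk]
      exact sum_congr rfl fun q _ => mul_comm _ _
  have hcf : ∀ q, q ∈ sup (B l) → ∃ e : Bool, cf q = if e then 1 else -1 := by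
    intro q hq
    rw [mem_sup] at hq
    rcases (h.unitB l).1 q with e | e | e
    · exact absurd e hq
    all_goals rcases hs q with e' | e'
    exacts [⟨true, by simp [cf, e, e']⟩, ⟨false, by simp [cf, e, e']⟩, ⟨false, by simp [cf, e, e']⟩,
      ⟨true, by simp [cf, e, e']⟩]
  obtain ⟨ea, hea⟩ := hcf a (by rw [hsup]; simp)
  obtain ⟨eb, heb⟩ := hcf b (by rw [hsup]; simp)
  obtain ⟨ec, hec⟩ := hcf c (by rw [hsup]; simp)
  let d : ι → Fin 4 := fun q => ⟨(univ.filter fun k => A k q ≠ 0).card, by have := hd3 q; omega⟩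
  have hd : ∀ q, ∑ k, ind k q = ((d q : ℕ) : ℤ) := fun q => by
    simp only [ind]
    rw [sum_boole]
  have hd' : ∀ q, d q ≠ 1 := fun q e => hd1 q (by simpa [d] using congrArg Fin.val e)
  have hn : ∀ q r, q ≠ r → ∃ n : Bool, (∑ k, ind k q * ind k r = if n then 1 else 0) ∧
      (n = true → d q ≠ 0 ∧ d r ≠ 0) := by
    intro q r hqr
    by_cases hex : ∃ k, A k q ≠ 0 ∧ A k r ≠ 0
    · obtain ⟨k, hk1, hk2⟩ := hex
      refine ⟨true, ?_, fun _ => ⟨fun e => ?_, fun e => ?_⟩⟩
      · rw [sum_eq_single k]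
        · simp [ind, hk1, hk2]
        · intro k' _ hk'
          simp only [ind]
          split_ifs with h1 h2 <;> try simp
          exact hqr ((h.meetA k' k hk').unique h1 hk1 h2 hk2)
        · simp
      · have := congrArg Fin.val e
        simp only [d, Fin.val_zero, card_eq_zero, filter_eq_empty_iff] at this
        exact this (mem_univ k) hk1
      · have := congrArg Fin.val e
        simp only [d, Fin.val_zero, card_eq_zero, filter_eq_empty_iff] at this
        exact this (mem_univ k) hk2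
    · refine ⟨false, ?_, by simp⟩
      push Not at hex
      refine sum_eq_zero fun k _ => ?_
      simp only [ind]
      split_ifs with h1 h2 <;> try simp
      exact absurd (hex k h1) h2
  obtain ⟨nab, hnab, hnab'⟩ := hn a b hab
  obtain ⟨nac, hnac, hnac'⟩ := hn a c hac
  obtain ⟨nbc, hnbc, hnbc'⟩ := hn b c hbc
  have h1 : ∑ k, X k = 1 := by simp [hX]
  have h2 : ∑ k, X k ^ 2 = 1 := by simp [hX]
  have e1 : ∑ k, X k = cf a * (d a : ℕ) + cf b * (d b : ℕ) + cf c * (d c : ℕ) := by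
    simp only [X, sum_add_distrib, ← mul_sum, hd]
  have e2 : ∑ k, X k ^ 2 = (d a : ℕ) + (d b : ℕ) + (d c : ℕ) + 2 * (cf a * cf b * (if nab then 1 else 0) +
      cf a * cf c * (if nac then 1 else 0) + cf b * cf c * (if nbc then 1 else 0)) := by
    rw [← hd a, ← hd b, ← hd c, ← hnab, ← hnac, ← hnbc]
    simp only [mul_sum, mul_add, ← sum_add_distrib]
    refine sum_congr rfl fun k _ => ?_
    have i2 : ∀ q, ind k q ^ 2 = ind k q := fun q => by simp only [ind]; split_ifs <;> norm_num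
    have c2 : ∀ q e, cf q = (if e = true then (1 : ℤ) else -1) → cf q ^ 2 = 1 := fun q e he => by
      rw [he]; split_ifs <;> norm_num
    simp only [X]
    linear_combination (cf a ^ 2) * i2 a + (cf b ^ 2) * i2 b + (cf c ^ 2) * i2 c +
      ind k a * c2 a ea hea + ind k b * c2 b eb heb + ind k c * c2 c ec hec
  rw [e1, hea, heb, hec] at h1
  rw [e2, hea, heb, hec] at h2
  refine moment_check ea eb ec (d a) (d b) (d c) nab nac nbc (hd' a) (hd' b) (hd' c) hnab' hnac' hnbc' h1 ?_
  refine Eq.trans ?_ h2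
  cases nab <;> cases nac <;> cases nbc <;> cases ea <;> cases eb <;> cases ec <;> simp

/-- The seven-point configuration. -/
theorem TwoRows.no_seven (h : TwoRows A B) (hJ : Fintype.card J = 4) {x : ι} {j : Fin 3 → J}
    (hj : Function.Injective j) (hx : ∀ t, A (j t) x ≠ 0) {k : J} (hk : A k x = 0) : False := by
  classical
  obtain ⟨s, hs, hsA⟩ := h.exists_sign
  have hkj : ∀ t, k ≠ j t := fun t e => hx t (e ▸ hk)
  have hu0 : ∀ t, ∃ u, A k u ≠ 0 ∧ A (j t) u ≠ 0 := fun t => by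
    obtain ⟨q, h1, h2, -⟩ := h.meetA k (j t) (hkj t)
    exact ⟨q, h1, h2 ▸ h1⟩
  choose u huk huj using hu0
  have hux : ∀ t, x ≠ u t := fun t e => huk t (e ▸ hk)
  have huinj : ∀ t t', t ≠ t' → u t ≠ u t' := fun t t' hne e =>
    hux t ((h.meetA (j t) (j t') (hj.ne hne)).unique (hx t) (hx t') (huj t) (e ▸ huj t'))
  have hw0 : ∀ t, ∃ w, A (j t) w ≠ 0 ∧ x ≠ w ∧ u t ≠ w ∧ sup (A (j t)) = {x, u t, w} :=
    fun t => (h.unitA (j t)).third (hx t) (huj t) (hux t)
  choose w hwj hwx hwu hwsup using hw0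
  have hwk : ∀ t, A k (w t) = 0 := fun t => by
    by_contra hne
    exact hwu t ((h.meetA k (j t) (hkj t)).unique (huk t) (huj t) hne (hwj t))
  have hwinj : ∀ t t', t ≠ t' → w t ≠ w t' := fun t t' hne e =>
    hwx t ((h.meetA (j t) (j t') (hj.ne hne)).unique (hx t) (hx t') (hwj t) (e ▸ hwj t'))
  have hwu' : ∀ t t', w t ≠ u t' := fun t t' e => huk t' (e ▸ hwk t)
  have hksup : sup (A k) = {u 0, u 1, u 2} := (h.unitA k).eq_triple (huk 0) (huk 1) (huk 2)
    (huinj 0 1 (by decide)) (huinj 0 2 (by decide)) (huinj 1 2 (by decide))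
  -- the seven points
  let P : List ι := [x, u 0, u 1, u 2, w 0, w 1, w 2]
  have hP : P.Nodup := by
    simp only [P, List.nodup_cons, List.mem_cons, List.not_mem_nil, or_false, not_or,
      List.nodup_nil, and_true, not_false_eq_true]
    exact ⟨⟨hux 0, hux 1, hux 2, hwx 0, hwx 1, hwx 2⟩,
      ⟨huinj 0 1 (by decide), huinj 0 2 (by decide), (hwu' 0 0).symm, (hwu' 1 0).symm, (hwu' 2 0).symm⟩,
      ⟨huinj 1 2 (by decide), (hwu' 0 1).symm, (hwu' 1 1).symm, (hwu' 2 1).symm⟩,
      ⟨(hwu' 0 2).symm, (hwu' 1 2).symm, (hwu' 2 2).symm⟩,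
      ⟨hwinj 0 1 (by decide), hwinj 0 2 (by decide)⟩, hwinj 1 2 (by decide)⟩
  let c : J → ι → ℤ := fun l q => B l q * s q
  have hs0 : ∀ q, s q ≠ 0 := fun q => by rcases hs q with e | e <;> simp [e]
  have hc0 : ∀ l q, c l q = 0 ↔ B l q = 0 := fun l q => by simp [c, hs0 q]
  have hcv : ∀ l q, c l q = 0 ∨ c l q = 1 ∨ c l q = -1 := fun l q => by
    rcases (h.unitB l).1 q with e | e | e <;> rcases hs q with e' | e' <;> simp [c, e, e']
  have habs : ∀ l q, (c l q).natAbs = if B l q ≠ 0 then 1 else 0 := fun l q => by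
    rcases (h.unitB l).1 q with e | e | e <;> rcases hs q with e' | e' <;> simp [c, e, e']
  let v : J → List ℤ := fun l => P.map (c l)
  -- weights
  have hwt : ∀ l, wt (v l) = (P.toFinset.filter fun q => B l q ≠ 0).card := by
    intro l
    simp only [wt, v, List.map_map]
    rw [card_filter, List.sum_toFinset _ hP]
    exact congrArg List.sum (List.map_congr_left fun q _ => habs l q)
  have hwt3 : ∀ l, wt (v l) ≤ 3 := fun l => by
    rw [hwt, ← (h.unitB l).2]
    exact card_le_card fun q hq => mem_sup.2 (mem_filter.1 hq).2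
  -- inner products with the first row
  have hdot : ∀ m l a b e, a ≠ b → a ≠ e → b ≠ e → sup (A m) = {a, b, e} →
      c l a + c l b + c l e = (if m = l then 1 else 0) ∧
      (m = l → (c l a).natAbs + (c l b).natAbs + (c l e).natAbs = 1) := by
    intro m l a b e hab hae hbe hsup
    have hsm : ∀ q ∈ ({a, b, e} : Finset ι), A m q = s q := fun q hq =>
      hsA m q (mem_sup.1 (hsup ▸ hq))
    have e1 : ∑ q, A m q * B l q = c l a + c l b + c l e := by
      rw [Unit3.sum_mul hab hae hbe hsup, hsm a (by simp), hsm b (by simp), hsm e (by simp)]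
      simp only [c]; ring
    refine ⟨?_, fun hml => ?_⟩
    · rw [← e1]
      split_ifs with hml
      · subst hml
        exact (h.meetAB m).sum (h.unitA m)
      · exact h.orth m l hml
    · subst hml
      obtain ⟨q, hq, hqe, hqu⟩ := h.meetAB m
      have hqm : q ∈ ({a, b, e} : Finset ι) := hsup ▸ mem_sup.2 hq
      have hA0 : ∀ r ∈ ({a, b, e} : Finset ι), A m r ≠ 0 := fun r hr => mem_sup.1 (hsup ▸ hr)
      have key : ∀ r ∈ ({a, b, e} : Finset ι), (c m r).natAbs = if r = q then 1 else 0 := by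
        intro r hr
        rw [habs]
        by_cases hrq : r = q
        · subst hrq
          rw [if_pos rfl, if_pos (hqe ▸ hq)]
        · rw [if_neg hrq, if_neg (not_not.2 ((hqu r hrq).resolve_left (hA0 r hr)))]
      rw [key a (by simp), key b (by simp), key e (by simp)]
      simp only [mem_insert, mem_singleton] at hqm
      rcases hqm with rfl | rfl | rfl <;> simp [hab, hae, hbe, Ne.symm hab, Ne.symm hae, Ne.symm hbe]
  -- membership in the candidate lists
  have hmem : ∀ (n : ℕ) (l : J), (n = 0 → l = j 0) → (n = 1 → l = j 1) → (n = 2 → l = j 2) →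
      (n = 3 → l = k) → n ≤ 3 → v l ∈ cand n := by
    intro n l h0 h1 h2 h3 hn
    obtain ⟨d0, a0⟩ := hdot (j 0) l x (u 0) (w 0) (hux 0) (hwx 0) (hwu 0) (hwsup 0)
    obtain ⟨d1, a1⟩ := hdot (j 1) l x (u 1) (w 1) (hux 1) (hwx 1) (hwu 1) (hwsup 1)
    obtain ⟨d2, a2⟩ := hdot (j 2) l x (u 2) (w 2) (hux 2) (hwx 2) (hwu 2) (hwsup 2)
    obtain ⟨d3, a3⟩ := hdot k l (u 0) (u 1) (u 2) (huinj 0 1 (by decide)) (huinj 0 2 (by decide))
      (huinj 1 2 (by decide)) hksup
    have n01 : j 0 ≠ j 1 := hj.ne (by decide)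
    have n02 : j 0 ≠ j 2 := hj.ne (by decide)
    have n12 : j 1 ≠ j 2 := hj.ne (by decide)
    rw [cand, List.mem_filter, decide_eq_true_eq]
    refine ⟨mem_vecs (v l) (fun a ha => ?_), hwt3 l, ?_⟩
    · simp only [v, List.mem_map] at ha
      obtain ⟨q, -, rfl⟩ := ha
      exact hcv l q
    · simp only [tri, triAbs, v, P, List.map_cons, List.map_nil, List.getD_cons_zero,
        List.getD_cons_succ]
      interval_cases n
      · obtain rfl := h0 rfl
        rw [if_pos rfl] at d0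
        rw [if_neg n01.symm] at d1
        rw [if_neg n02.symm] at d2
        rw [if_neg (hkj 0)] at d3
        simp [d0, d1, d2, d3, a0 rfl]
      · obtain rfl := h1 rfl
        rw [if_neg n01] at d0
        rw [if_pos rfl] at d1
        rw [if_neg n12.symm] at d2
        rw [if_neg (hkj 1)] at d3
        simp [d0, d1, d2, d3, a1 rfl]
      · obtain rfl := h2 rfl
        rw [if_neg n02] at d0
        rw [if_neg n12] at d1
        rw [if_pos rfl] at d2
        rw [if_neg (hkj 2)] at d3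
        simp [d0, d1, d2, d3, a2 rfl]
      · obtain rfl := h3 rfl
        rw [if_neg (hkj 0).symm] at d0
        rw [if_neg (hkj 1).symm] at d1
        rw [if_neg (hkj 2).symm] at d2
        rw [if_pos rfl] at d3
        simp [d0, d1, d2, d3, a3 rfl]
  -- compatibility
  have hok : ∀ l m, l ≠ m → okPair (v l) (v m) = true := by
    intro l m hlm
    obtain ⟨q, hq, hqe, hqu⟩ := h.meetB l m hlm
    have hz : List.zipWith (· * ·) (v l) (v m) = P.map fun r => if r = q then 1 else 0 := by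
      simp only [v, List.zipWith_map, List.zipWith_self]
      refine List.map_congr_left fun r _ => ?_
      by_cases hrq : r = q
      · subst hrq
        rw [if_pos rfl]
        simp only [c, hqe]
        rcases (h.unitB l).1 r with e | e | e <;> rcases hs r with e' | e' <;> simp [e, e'] at hq ⊢
      · rw [if_neg hrq]
        rcases hqu r hrq with e | e <;> simp [c, e]
    rw [okPair, decide_eq_true_eq, hz]
    refine ⟨List.count_eq_zero.2 (fun hm => ?_), ?_⟩
    · simp only [List.mem_map] at hm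
      obtain ⟨r, -, hr⟩ := hm
      split_ifs at hr <;> omega
    · have hcnt : (P.map fun r => if r = q then (1 : ℤ) else 0).count 1 = P.count q := by
        induction P with
        | nil => rfl
        | cons a t ih => by_cases ha : a = q <;> simp [List.count_cons, ih, ha]
      by_cases hqP : q ∈ P
      · exact Or.inl (hcnt.trans (List.count_eq_one_of_mem hP hqP))
      · refine Or.inr ⟨hcnt.trans (List.count_eq_zero.2 hqP), ?_, ?_⟩
        all_goals
          rw [hwt]
        · rw [← (h.unitB l).2]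
          exact card_lt_card ⟨fun r hr => mem_sup.2 (mem_filter.1 hr).2,
            fun hsub => hqP (by simpa using (mem_filter.1 (hsub (mem_sup.2 hq))).1)⟩
        · rw [← (h.unitB m).2]
          exact card_lt_card ⟨fun r hr => mem_sup.2 (mem_filter.1 hr).2,
            fun hsub => hqP (by simpa using (mem_filter.1 (hsub (mem_sup.2 (hqe ▸ hq)))).1)⟩
  have hc := seven_check
  simp only [List.all_eq_true] at hc
  have hf := hc _ (hmem 0 (j 0) (fun _ => rfl) (by omega) (by omega) (by omega) (by omega))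
    _ (hmem 1 (j 1) (by omega) (fun _ => rfl) (by omega) (by omega) (by omega))
    _ (hmem 2 (j 2) (by omega) (by omega) (fun _ => rfl) (by omega) (by omega))
    _ (hmem 3 k (by omega) (by omega) (by omega) (fun _ => rfl) (by omega))
  rw [hok _ _ (hj.ne (by decide)), hok _ _ (hj.ne (by decide)), hok _ _ (hkj 0).symm,
    hok _ _ (hj.ne (by decide)), hok _ _ (hkj 1).symm, hok _ _ (hkj 2).symm] at hf
  exact Bool.noConfusion hf

/-- Every line is a sunflower. -/
theorem TwoRows.sunflower (h : TwoRows A B) : ∃ x, ∀ j, A j x ≠ 0 := by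
  classical
  by_contra hcon
  push Not at hcon
  have hle := h.deg_le hcon
  by_cases hone : ∀ q, (univ.filter fun k => A k q ≠ 0).card ≠ 1
  · exact h.no_deg_ne_one hle hone
  push Not at hone
  obtain ⟨q, hq⟩ := hone
  obtain ⟨j, hj⟩ := card_eq_one.1 hq
  have hjq : A j q ≠ 0 := (mem_filter.1 (hj ▸ mem_singleton_self j : j ∈ _)).2
  have hsum := h.sum_deg j
  rw [← add_sum_erase _ _ (mem_sup.2 hjq), hq] at hsum
  have hcard : ((sup (A j)).erase q).card = 2 := by
    rw [card_erase_of_mem (mem_sup.2 hjq), (h.unitA j).2]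
  obtain ⟨a, b, hab, he⟩ := card_eq_two.1 hcard
  rw [he, sum_pair hab] at hsum
  have hJ : Fintype.card J = 4 := by
    have := h.four
    have := hle a
    have := hle b
    obtain ⟨r, hr⟩ := h.even
    omega
  obtain ⟨x, hx⟩ : ∃ x, (univ.filter fun k => A k x ≠ 0).card = 3 := by
    rcases Nat.lt_or_ge ((univ.filter fun k => A k a ≠ 0).card) 3 with h1 | h1
    · exact ⟨b, by have := hle b; omega⟩
    · exact ⟨a, le_antisymm (hle a) h1⟩
  obtain ⟨k, hk⟩ := hcon x
  obtain ⟨a', b', c', hab', hac', hbc', he'⟩ := card_eq_three.1 hx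
  refine h.no_seven hJ (j := ![a', b', c']) (fun s t hst => ?_) (fun t => ?_) hk
  · fin_cases s <;> fin_cases t <;> simp_all [Ne.symm]
  · have : ![a', b', c'] t ∈ univ.filter fun k => A k x ≠ 0 := by
      rw [he']; fin_cases t <;> simp
    exact (mem_filter.1 this).2

/-- Disjointness of two sunflower lines off the common positions. -/
theorem TwoRows.disjoint (h : TwoRows A B) {x : ι} (hx : ∀ j, A j x ≠ 0) :
    (∀ l, B l x = 0) ∧ ∀ j l, j ≠ l → ∀ q, A j q = 0 ∨ B l q = 0 := by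
  classical
  -- two opposite common points
  have two : ∀ j l q, j ≠ l → A j q ≠ 0 → B l q ≠ 0 →
      ∃ r, r ≠ q ∧ A j r ≠ 0 ∧ B l r ≠ 0 ∧ A j r * B l r = -(A j q * B l q) := by
    intro j l q hjl hq hq'
    obtain ⟨a, ha, b, hb, hab, he⟩ : ∃ a, A j a ≠ 0 ∧ ∃ b, A j b ≠ 0 ∧ a ≠ b ∧ sup (A j) = {q, a, b} ∧
        q ≠ a ∧ q ≠ b := by
      have hc : ((sup (A j)).erase q).card = 2 := by
        rw [card_erase_of_mem (mem_sup.2 hq), (h.unitA j).2]
      obtain ⟨a, b, hab, he⟩ := card_eq_two.1 hc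
      have hma : a ∈ (sup (A j)).erase q := by simp [he]
      have hmb : b ∈ (sup (A j)).erase q := by simp [he]
      refine ⟨a, mem_sup.1 (mem_erase.1 hma).2, b, mem_sup.1 (mem_erase.1 hmb).2, hab, ?_,
        (mem_erase.1 hma).1.symm, (mem_erase.1 hmb).1.symm⟩
      rw [← insert_erase (mem_sup.2 hq), he]
    have hsum := h.orth j l hjl
    rw [Unit3.sum_mul he.2.1 he.2.2 hab he.1] at hsum
    rcases (h.unitB l).1 a with ea | ea | ea
    · refine ⟨b, he.2.2.symm, hb, fun e => ?_, by rw [ea] at hsum; linarith⟩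
      rw [ea, e] at hsum
      exact mul_ne_zero hq hq' (by linarith)
    all_goals
      refine ⟨a, he.2.1.symm, ha, by rw [ea]; norm_num, ?_⟩
      rcases (h.unitA j).1 q with e1 | e1 | e1 <;> rcases (h.unitA j).1 a with e2 | e2 | e2 <;>
        rcases (h.unitA j).1 b with e3 | e3 | e3 <;> rcases (h.unitB l).1 q with e4 | e4 | e4 <;>
        rcases (h.unitB l).1 b with e5 | e5 | e5 <;> simp_all
  have hxB : ∀ l, B l x = 0 := by
    intro l
    by_contra hl
    obtain ⟨a, b, c, hab, hac, hbc, ha, hb, hc⟩ := h.exists_others l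
    obtain ⟨pa, hpa, hpa1, hpa2, -⟩ := two a l x ha (hx a) hl
    obtain ⟨pb, hpb, hpb1, hpb2, -⟩ := two b l x hb (hx b) hl
    obtain ⟨pc, hpc, hpc1, hpc2, -⟩ := two c l x hc (hx c) hl
    have key : ∀ {j k : J} {p r : ι}, j ≠ k → p ≠ x → A j p ≠ 0 → A k r ≠ 0 → p ≠ r :=
      fun hjk hp h1 h2 e => hp ((h.meetA _ _ hjk).unique h1 (e ▸ h2) (hx _) (hx _))
    have h4 : ({x, pa, pb, pc} : Finset ι) ⊆ sup (B l) := by
      intro r hr
      simp only [mem_insert, mem_singleton] at hr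
      rcases hr with rfl | rfl | rfl | rfl <;> simpa [mem_sup]
    have := card_le_card h4
    rw [(h.unitB l).2] at this
    simp [hpa.symm, hpb.symm, hpc.symm, key hab hpa hpa1 hpb1, key hac hpa hpa1 hpc1,
      key hbc hpb hpb1 hpc1] at this
  refine ⟨hxB, ?_⟩
  obtain ⟨s, hs, hsA⟩ := h.exists_sign
  intro j l hjl q₀
  by_contra hcon
  rw [not_or] at hcon
  -- normalise to a positive point `p` and a negative point `q`
  obtain ⟨r₀, hr₀, hr₁, hr₂, hr₃⟩ := two j l q₀ hjl hcon.1 hcon.2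
  have pm : ∀ r, A j r ≠ 0 → B l r ≠ 0 → (B l r = A j r ∧ A j r * B l r = 1) ∨
      (B l r = -A j r ∧ A j r * B l r = -1) := by
    intro r h1 h2
    rcases ((h.unitA j).1 r).resolve_left h1 with e1 | e1 <;>
      rcases ((h.unitB l).1 r).resolve_left h2 with e2 | e2 <;> simp [e1, e2]
  have pos : ∃ p q, p ≠ q ∧ A j p ≠ 0 ∧ A j q ≠ 0 ∧ B l p ≠ 0 ∧ B l q ≠ 0 ∧ B l p = A j p ∧
      B l q = -A j q := by
    rcases pm q₀ hcon.1 hcon.2 with ⟨e1, e2⟩ | ⟨e1, e2⟩ <;>
      rcases pm r₀ hr₁ hr₂ with ⟨f1, f2⟩ | ⟨f1, f2⟩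
    · rw [e2, f2] at hr₃; norm_num at hr₃
    · exact ⟨q₀, r₀, hr₀.symm, hcon.1, hr₁, hcon.2, hr₂, e1, f1⟩
    · exact ⟨r₀, q₀, hr₀, hr₁, hcon.1, hr₂, hcon.2, f1, e1⟩
    · rw [e2, f2] at hr₃; norm_num at hr₃
  obtain ⟨p, q, hpq, hAp, hAq, hBp, hBq, hep, heq⟩ := pos
  have hpx : p ≠ x := fun e => hBp (e ▸ hxB l)
  have hqx : q ≠ x := fun e => hBq (e ▸ hxB l)
  have hsup : sup (A j) = {x, p, q} := (h.unitA j).eq_triple (hx j) hAp hAq hpx.symm hqx.symm hpq
  obtain ⟨y, hy, hye, -⟩ := h.meetAB l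
  have hBy : B l y ≠ 0 := hye ▸ hy
  have hyx : y ≠ x := fun e => hBy (e ▸ hxB l)
  have hyj : A j y = 0 := by
    by_contra hne
    exact hyx ((h.meetA j l hjl).unique hne hy (hx j) (hx l))
  have hyp : y ≠ p := fun e => hAp (e ▸ hyj)
  have hyq : y ≠ q := fun e => hAq (e ▸ hyj)
  have hsupB : sup (B l) = {y, p, q} := (h.unitB l).eq_triple hBy hBp hBq hyp hyq hpq
  obtain ⟨y', hy', hyy', hxy', -⟩ := (h.unitA l).third hy (hx l) hyx
  -- the other positions of the second row contain `y` and `y'`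
  have main : ∀ l', l' ≠ l → l' ≠ j → B l' y ≠ 0 ∧ B l' y' ≠ 0 := by
    intro l' h1 h2
    obtain ⟨r, hr, hre, -⟩ := h.meetB l l' h1.symm
    have hr' : B l' r ≠ 0 := hre ▸ hr
    have hrm : r ∈ ({y, p, q} : Finset ι) := hsupB ▸ mem_sup.2 hr
    have hne : ∀ {a b : ι}, a ≠ b → B l a ≠ 0 → B l b ≠ 0 → B l' a ≠ 0 → B l' b ≠ 0 → False :=
      fun hab h3 h4 h5 h6 => hab ((h.meetB l l' h1.symm).unique h3 h5 h4 h6)
    have both : ∀ a b : ι, sup (A j) = {x, a, b} → a ≠ b → A j a ≠ 0 → B l a ≠ 0 → B l b ≠ 0 →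
        B l' a = 0 := by
      intro a b hsab hab ha h3 h4
      by_contra h5
      obtain ⟨r', hr'1, hr'2, hr'3, -⟩ := two j l' a h2.symm ha h5
      have : r' ∈ ({x, a, b} : Finset ι) := hsab ▸ mem_sup.2 hr'2
      simp only [mem_insert, mem_singleton] at this
      rcases this with rfl | rfl | rfl
      · exact hr'3 (hxB l')
      · exact hr'1 rfl
      · exact hne hab h3 h4 h5 hr'3
    have hpl : B l' p = 0 := both p q hsup hpq hAp hBp hBq
    have hql : B l' q = 0 := both q p (by rw [hsup, pair_comm p q]) hpq.symm hAq hBq hBp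
    simp only [mem_insert, mem_singleton] at hrm
    rcases hrm with rfl | rfl | rfl
    · obtain ⟨r', hr'1, hr'2, hr'3, -⟩ := two l l' r h1.symm hy hr'
      refine ⟨hr', ?_⟩
      have hsl : sup (A l) = {r, x, y'} := (h.unitA l).eq_triple hy (hx l) hy' hyx hyy' hxy'
      have : r' ∈ ({r, x, y'} : Finset ι) := hsl ▸ mem_sup.2 hr'2
      simp only [mem_insert, mem_singleton] at this
      rcases this with rfl | rfl | rfl
      · exact absurd rfl hr'1
      · exact absurd (hxB l') hr'3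
      · exact hr'3
    · exact absurd hpl hr'
    · exact absurd hql hr'
  obtain ⟨a, b, c, hab, hac, hbc, ha, hb, hc⟩ := h.exists_others l
  obtain ⟨l₁, l₂, h12, h1l, h2l, h1j, h2j⟩ : ∃ l₁ l₂, l₁ ≠ l₂ ∧ l₁ ≠ l ∧ l₂ ≠ l ∧ l₁ ≠ j ∧ l₂ ≠ j := by
    by_cases haj : a = j
    · subst haj; exact ⟨b, c, hbc, hb, hc, hab.symm, hac.symm⟩
    by_cases hbj : b = j
    · subst hbj; exact ⟨a, c, hac, ha, hc, haj, hbc.symm⟩
    exact ⟨a, b, hab, ha, hb, haj, hbj⟩
  obtain ⟨m1, m1'⟩ := main l₁ h1l h1j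
  obtain ⟨m2, m2'⟩ := main l₂ h2l h2j
  exact hyy' ((h.meetB l₁ l₂ h12).unique m1 m2 m1' m2')

/-! ### The array -/

variable {I : Type*} [Fintype I] [DecidableEq I]

/-- The decomposition of the array. -/
theorem array_decomp (β : I → J → ι → ℤ) (hu : ∀ i j, Unit3 (β i j))
    (hrow : ∀ i j l, j ≠ l → Meet (β i j) (β i l)) (hcol : ∀ i k j, i ≠ k → Meet (β i j) (β k j))
    (horth : ∀ i k j l, i ≠ k → j ≠ l → ∑ q, β i j q * β k l q = 0)
    (hI : Even (Fintype.card I)) (hI2 : 2 ≤ Fintype.card I)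
    (hJ : Even (Fintype.card J)) (hJ4 : 4 ≤ Fintype.card J) :
    ∃ (x : I → ι) (y : J → ι) (z : I → J → ι) (sx : I → ℤ) (sy : J → ℤ) (sz : I → J → ℤ),
      Function.Injective x ∧ Function.Injective y ∧
      (∀ i j k l, z i j = z k l → i = k ∧ j = l) ∧
      (∀ i j, x i ≠ y j) ∧ (∀ i k l, x i ≠ z k l) ∧ (∀ j k l, y j ≠ z k l) ∧
      (∀ i, sx i = 1 ∨ sx i = -1) ∧ (∀ j, sy j = 1 ∨ sy j = -1) ∧ (∀ i j, sz i j = 1 ∨ sz i j = -1) ∧
      ∀ i j q, β i j q = (if q = x i then sx i else 0) + (if q = y j then sy j else 0) +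
        (if q = z i j then sz i j else 0) := by
  classical
  have tr : ∀ i k, i ≠ k → TwoRows (β i) (β k) := fun i k hik =>
    ⟨hu i, hu k, hrow i, hrow k, fun j => hcol i k j hik, fun j l hjl => horth i k j l hik hjl, hJ, hJ4⟩
  have other : ∀ i : I, ∃ k, i ≠ k := fun i => by
    obtain ⟨k, hk⟩ := Fintype.exists_ne_of_one_lt_card (by omega : 1 < Fintype.card I) i
    exact ⟨k, hk.symm⟩
  have hx0 : ∀ i, ∃ x, ∀ j, β i j x ≠ 0 := fun i => by
    obtain ⟨k, hk⟩ := other i
    exact (tr i k hk).sunflower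
  choose x hx using hx0
  have dis : ∀ i k, i ≠ k → (∀ l, β k l (x i) = 0) ∧ ∀ j l, j ≠ l → ∀ q, β i j q = 0 ∨ β k l q = 0 :=
    fun i k hik => (tr i k hik).disjoint (hx i)
  obtain ⟨j₁, j₂, hj12⟩ : ∃ a b : J, a ≠ b := Fintype.exists_pair_of_one_lt_card (by omega)
  have hy0 : ∀ j, ∃ y, ∀ i, β i j y ≠ 0 := by
    intro j
    by_cases hI4 : 4 ≤ Fintype.card I
    · obtain ⟨l, hl⟩ : ∃ l, j ≠ l := by
        obtain ⟨l, hl⟩ := Fintype.exists_ne_of_one_lt_card (by omega : 1 < Fintype.card J) j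
        exact ⟨l, hl.symm⟩
      exact (⟨fun i => hu i j, fun i => hu i l, fun i k hik => hcol i k j hik,
        fun i k hik => hcol i k l hik, fun i => hrow i j l hl, fun i k hik => horth i k j l hik hl,
        hI, hI4⟩ : TwoRows (fun i => β i j) (fun i => β i l)).sunflower
    · have hc2 : Fintype.card I = 2 := by obtain ⟨r, hr⟩ := hI; omega
      obtain ⟨a, b, hab, huniv⟩ := card_eq_two.1 ((card_univ (α := I)).trans hc2)
      obtain ⟨q, hq, hqe, -⟩ := hcol a b j hab
      refine ⟨q, fun i => ?_⟩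
      have : i ∈ ({a, b} : Finset I) := huniv ▸ mem_univ i
      simp only [mem_insert, mem_singleton] at this
      rcases this with rfl | rfl
      · exact hq
      · exact hqe ▸ hq
  choose y hy using hy0
  have hxy : ∀ i j, x i ≠ y j := fun i j e => by
    obtain ⟨k, hk⟩ := other i
    exact hy j k (e ▸ (dis i k hk).1 j)
  have hz0 : ∀ i j, ∃ z, β i j z ≠ 0 ∧ x i ≠ z ∧ y j ≠ z ∧ sup (β i j) = {x i, y j, z} :=
    fun i j => (hu i j).third (hx i j) (hy j i) (hxy i j)
  choose z hz hzx hzy hzs using hz0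
  obtain ⟨i₀⟩ : Nonempty I := Fintype.card_pos_iff.1 (by omega)
  have sgn : ∀ {v : ι → ℤ}, Unit3 v → ∀ {q}, v q ≠ 0 → v q = 1 ∨ v q = -1 := fun hv q hq =>
    (hv.1 q).resolve_left hq
  refine ⟨x, y, z, fun i => β i j₁ (x i), fun j => β i₀ j (y j), fun i j => β i j (z i j), ?_, ?_, ?_, hxy,
    ?_, ?_, fun i => sgn (hu i j₁) (hx i j₁), fun j => sgn (hu i₀ j) (hy j i₀),
    fun i j => sgn (hu i j) (hz i j), ?_⟩
  · intro i k e
    by_contra hne
    exact hx k j₁ (e ▸ (dis i k hne).1 j₁)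
  · intro j l e
    by_contra hne
    obtain ⟨k, hk⟩ := other i₀
    rcases (dis i₀ k hk).2 j l hne (y j) with h | h
    · exact hy j i₀ h
    · exact hy l k (e ▸ h)
  · intro i j k l e
    by_contra hne
    by_cases hik : i = k
    · subst hik
      have hjl : j ≠ l := fun h => hne ⟨rfl, h⟩
      exact hzx i j ((hrow i j l hjl).unique (hx i j) (hx i l) (hz i j) (e ▸ hz i l))
    · by_cases hjl : j = l
      · subst hjl
        exact hzy i j ((hcol i k j hik).unique (hy j i) (hy j k) (hz i j) (e ▸ hz k j))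
      · rcases (dis i k hik).2 j l hjl (z i j) with h | h
        · exact hz i j h
        · exact hz k l (e ▸ h)
  · intro i k l e
    by_cases hik : i = k
    · exact hzx k l (hik ▸ e)
    · exact hz k l (e ▸ (dis i k hik).1 l)
  · intro j k l e
    by_cases hjl : j = l
    · exact hzy k l (hjl ▸ e)
    · obtain ⟨i, hi⟩ := other k
      rcases (dis i k hi.symm).2 j l hjl (y j) with h | h
      · exact hy j i h
      · exact hz k l (e ▸ h)
  · intro i j q
    have hxs : β i j (x i) = β i j₁ (x i) := by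
      rcases eq_or_ne j₁ j with rfl | hne
      · rfl
      · exact (hrow i j₁ j hne).sign (hx i j₁) (hx i j)
    have hys : β i j (y j) = β i₀ j (y j) := by
      rcases eq_or_ne i₀ i with rfl | hne
      · rfl
      · exact (hcol i₀ i j hne).sign (hy j i₀) (hy j i)
    by_cases hq : q ∈ sup (β i j)
    · rw [hzs] at hq
      simp only [mem_insert, mem_singleton] at hq
      rcases hq with rfl | rfl | rfl
      · simp [hxs, hxy i j, hzx i j]
      · simp [hys, (hxy i j).symm, hzy i j]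
      · simp [(hzx i j).symm, (hzy i j).symm]
    · have h0 : β i j q = 0 := by simpa [mem_sup] using hq
      rw [hzs] at hq
      simp only [mem_insert, mem_singleton, not_or] at hq
      simp [h0, hq.1, hq.2.1, hq.2.2]

end Cfsg.Agent.OddChar.CyclicComb
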