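import Cfsg.Agent.Lib.OddChar.CyclicFamily
import Cfsg.Agent.Lib.OddChar.Lattice
import Cfsg.Agent.Lib.OddChar.CyclicComb

/-!
Existence of the signed orthonormal family attached to a self-normalising cyclic subgroup.
-/

namespace Cfsg.Agent.OddChar

open scoped ComplexConjugate

universe u

variable {G : Type u} [Group G] [Fintype G] {W₁ W₂ : Subgroup G}

omit [Fintype G] in
theorem trivOn_one (K : Subgroup G) : TrivOn K (1 : ↥(W₁ ⊔ W₂) →* ℂˣ) := fun _ _ => rfl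

/-- A function on `V` orthogonal to all the basic functions is zero there. -/
theorem zeta_orth_vanish [Fintype ↥(W₁ ⊔ W₂)] (hW : Cfsg.IsSelfNormalizingCyclic W₁ W₂)
    {h : ↥(W₁ ⊔ W₂) → ℂ} (hz : ∀ φ ψ : ↥(W₁ ⊔ W₂) →* ℂˣ, φ ≠ 1 → ψ ≠ 1 → TrivOn W₂ φ → TrivOn W₁ ψ →
      Cfsg.classInner (zetaFun φ ψ) h = 0)
    {w : ↥(W₁ ⊔ W₂)} (hw : (w : G) ∈ vSet W₁ W₂) : h w = 0 := by
  classical
  haveI := scyc_finite_dual (W₁ := W₁) (W₂ := W₂)
  haveI : Fintype (↥(W₁ ⊔ W₂) →* ℂˣ) := Fintype.ofFinite _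
  let c : (↥(W₁ ⊔ W₂) →* ℂˣ) → ℂ := fun ω => Cfsg.classInner h (fun u => (ω u : ℂ))
  have hc : ∀ φ ψ : ↥(W₁ ⊔ W₂) →* ℂˣ, TrivOn W₂ φ → TrivOn W₁ ψ →
      c (φ * ψ) = c φ + c ψ - c 1 := by
    intro φ ψ hφ hψ
    rcases eq_or_ne φ 1 with rfl | hφ1
    · rw [lin_one_mul]; ring
    rcases eq_or_ne ψ 1 with rfl | hψ1
    · rw [lin_mul_one]; ring
    have h2 : Cfsg.classInner h ((fun w => ((1 : ↥(W₁ ⊔ W₂) →* ℂˣ) w : ℂ)) - (fun w => (φ w : ℂ)) -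
        (fun w => (ψ w : ℂ)) + fun w => ((φ * ψ) w : ℂ)) = 0 := by
      rw [← zetaFun_eq, ← CT.classInner_conj_symm, hz φ ψ hφ1 hψ1 hφ hψ, map_zero]
    rw [CT.classInner_add_right, CT.classInner_sub_right, CT.classInner_sub_right] at h2
    show Cfsg.classInner h _ = Cfsg.classInner h _ + Cfsg.classInner h _ - Cfsg.classInner h _
    linear_combination h2
  let P₁ := (Finset.univ : Finset (↥(W₁ ⊔ W₂) →* ℂˣ)).filter (TrivOn W₂)
  let P₂ := (Finset.univ : Finset (↥(W₁ ⊔ W₂) →* ℂˣ)).filter (TrivOn W₁)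
  have hsum : ∑ ω : ↥(W₁ ⊔ W₂) →* ℂˣ, c ω * (ω w : ℂ) =
      ∑ p ∈ P₁ ×ˢ P₂, c (p.1 * p.2) * ((p.1 w : ℂ) * (p.2 w : ℂ)) := by
    refine (Finset.sum_bij (fun p _ => p.1 * p.2) (fun p _ => Finset.mem_univ _) ?_ ?_ ?_).symm
    · intro p hp q hq he
      simp only [P₁, P₂, Finset.mem_product, Finset.mem_filter, Finset.mem_univ, true_and] at hp hq
      obtain ⟨e1, e2⟩ := scyc_prod_inj hW hp.1 hq.1 hp.2 hq.2 he
      exact Prod.ext e1 e2
    · intro ω _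
      obtain ⟨φ, ψ, hφ, hψ, rfl⟩ := scyc_hom_decomp hW ω
      exact ⟨(φ, ψ), by simp [P₁, P₂, hφ, hψ], rfl⟩
    · intro p _
      simp
  obtain ⟨a, b, ha, hb, hab⟩ := scyc_decomp hW w
  have hz1 : ∑ φ ∈ P₁, (φ w : ℂ) = 0 := by
    obtain ⟨ω, hω⟩ := scyc_separate hW (x := a) (fun e => hw.2.2 (by rw [hab, e, one_mul]; exact hb))
    obtain ⟨φ, ψ, hφ, hψ, rfl⟩ := scyc_hom_decomp hW ω
    have hne : φ w ≠ 1 := by
      rw [hab, map_mul, hφ b hb, mul_one]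
      simpa [hψ a ha] using hω
    refine eq_zero_of_mul_eq_self_left (b := (φ w : ℂ)) (fun e => hne (Units.ext e)) ?_
    rw [Finset.mul_sum]
    refine Finset.sum_equiv (Equiv.mulLeft φ) (fun α => ?_) (fun α _ => by simp)
    simp only [P₁, Finset.mem_filter, Finset.mem_univ, true_and, Equiv.coe_mulLeft]
    exact ⟨fun h u hu => by simp [hφ u hu, h u hu], fun h u hu => by simpa [hφ u hu] using h u hu⟩
  have hz2 : ∑ ψ ∈ P₂, (ψ w : ℂ) = 0 := by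
    obtain ⟨ω, hω⟩ := scyc_separate hW (x := b) (fun e => hw.2.1 (by rw [hab, e, mul_one]; exact ha))
    obtain ⟨φ, ψ, hφ, hψ, rfl⟩ := scyc_hom_decomp hW ω
    have hne : ψ w ≠ 1 := by
      rw [hab, map_mul, hψ a ha, one_mul]
      simpa [hφ b hb] using hω
    refine eq_zero_of_mul_eq_self_left (b := (ψ w : ℂ)) (fun e => hne (Units.ext e)) ?_
    rw [Finset.mul_sum]
    refine Finset.sum_equiv (Equiv.mulLeft ψ) (fun α => ?_) (fun α _ => by simp)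
    simp only [P₂, Finset.mem_filter, Finset.mem_univ, true_and, Equiv.coe_mulLeft]
    exact ⟨fun h u hu => by simp [hψ u hu, h u hu], fun h u hu => by simpa [hψ u hu] using h u hu⟩
  have hinv := scyc_inversion hW h w
  rw [show (∑ ω : ↥(W₁ ⊔ W₂) →* ℂˣ, Cfsg.classInner h (fun u => (ω u : ℂ)) * (ω w : ℂ)) =
      ∑ ω : ↥(W₁ ⊔ W₂) →* ℂˣ, c ω * (ω w : ℂ) from rfl, hsum] at hinv
  rw [Finset.sum_congr rfl (g := fun p : (↥(W₁ ⊔ W₂) →* ℂˣ) × (↥(W₁ ⊔ W₂) →* ℂˣ) =>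
    (c p.1 * (p.1 w : ℂ)) * (p.2 w : ℂ) + (p.1 w : ℂ) * (c p.2 * (p.2 w : ℂ)) -
      c 1 * (p.1 w : ℂ) * (p.2 w : ℂ)) (fun p hp => by
    simp only [P₁, P₂, Finset.mem_product, Finset.mem_filter, Finset.mem_univ, true_and] at hp
    rw [hc _ _ hp.1 hp.2]; ring)] at hinv
  rw [Finset.sum_sub_distrib, Finset.sum_add_distrib, Finset.sum_product, Finset.sum_product,
    Finset.sum_product] at hinv
  simp only [← Finset.mul_sum, hz2, mul_zero, ← Finset.sum_mul, hz1, zero_mul, Finset.sum_const_zero,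
    add_zero, sub_zero] at hinv
  exact hinv

open Classical in
/-- An orthonormal signed family with the induction identity takes the linear values on `V`. -/
theorem family_eq_on (hW : Cfsg.IsSelfNormalizingCyclic W₁ W₂)
    {χ : (↥(W₁ ⊔ W₂) →* ℂˣ) → (G → ℂ)} (hs : ∀ ω, IsSigned (χ ω))
    (ho : ∀ ω ω', Cfsg.classInner (χ ω) (χ ω') = if ω = ω' then 1 else 0)
    (hind : ∀ φ ψ : ↥(W₁ ⊔ W₂) →* ℂˣ, φ ≠ 1 → ψ ≠ 1 → TrivOn W₂ φ → TrivOn W₁ ψ →
      Cfsg.indFun (W₁ ⊔ W₂) (zetaFun φ ψ) = χ 1 - χ φ - χ ψ + χ (φ * ψ))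
    (ω : ↥(W₁ ⊔ W₂) →* ℂˣ) {w : ↥(W₁ ⊔ W₂)} (hw : (w : G) ∈ vSet W₁ W₂) :
    χ ω w = (ω w : ℂ) := by
  classical
  haveI : Fintype ↥(W₁ ⊔ W₂) := Fintype.ofFinite _
  refine sub_eq_zero.1 (zeta_orth_vanish hW (h := fun u : ↥(W₁ ⊔ W₂) => χ ω u - (ω u : ℂ)) ?_ hw)
  intro φ ψ hφ1 hψ1 hφ hψ
  have e : (fun u : ↥(W₁ ⊔ W₂) => χ ω u - (ω u : ℂ)) =
      (fun u : ↥(W₁ ⊔ W₂) => χ ω u) - fun u => (ω u : ℂ) := rfl
  rw [e, CT.classInner_sub_right,
    ← classInner_ind_suppV (suppV_zetaFun hφ hψ)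
      (CT.isClassFunction_of_isGen (isSigned_isGen (hs ω))) (fun u _ => rfl),
    hind φ ψ hφ1 hψ1 hφ hψ, zetaFun_eq]
  simp only [CT.classInner_add_left, CT.classInner_sub_left, ho, lin_inner, eq_comm (a := ω)]
  ring

theorem meet_of_sum {ι : Type*} [Fintype ι] [DecidableEq ι] {v w : ι → ℤ} (hv : CyclicComb.Unit3 v)
    (hw : CyclicComb.Unit3 w) (hsum : ∑ q, v q * w q = 1) (deg : ι → ℂ) (hdeg : ∀ q, deg q ≠ 0)
    (heq : ∑ q, (v q : ℂ) * deg q = ∑ q, (w q : ℂ) * deg q) : CyclicComb.Meet v w := by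
  classical
  obtain ⟨a, b, c, hab, hac, hbc, hsup⟩ := hv.exists_three
  have hv0 : ∀ q, q ≠ a → q ≠ b → q ≠ c → v q = 0 := by
    intro q h1 h2 h3
    by_contra h
    have h' := CyclicComb.mem_sup.2 h
    rw [hsup] at h'
    simp [h1, h2, h3] at h'
  have hva : v a ≠ 0 := CyclicComb.mem_sup.1 (by simp [hsup])
  have hvb : v b ≠ 0 := CyclicComb.mem_sup.1 (by simp [hsup])
  have hvc : v c ≠ 0 := CyclicComb.mem_sup.1 (by simp [hsup])
  rw [CyclicComb.Unit3.sum_mul hab hac hbc hsup] at hsum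
  have val : ∀ q, v q ≠ 0 → (w q = 0 ∧ v q * w q = 0) ∨ (w q = v q ∧ v q * w q = 1) ∨
      (w q = -v q ∧ v q * w q = -1) := by
    intro q hq
    rcases (hv.1 q).resolve_left hq with e | e <;> rcases hw.1 q with e' | e' | e' <;> simp [e, e']
  have one : ∀ p q r, v p ≠ 0 → w p = v p → w q = 0 → w r = 0 →
      (∀ s, s ≠ p → s ≠ q → s ≠ r → v s = 0) → CyclicComb.Meet v w := by
    intro p q r h1 h2 h3 h4 h5
    refine ⟨p, h1, h2, fun s hs => ?_⟩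
    by_cases hq : s = q
    · exact Or.inr (hq ▸ h3)
    by_cases hr : s = r
    · exact Or.inr (hr ▸ h4)
    exact Or.inl (h5 s hs hq hr)
  have three : ∀ p q r, p ≠ q → p ≠ r → q ≠ r → v p ≠ 0 → v q ≠ 0 → v r ≠ 0 → w p = -v p → w q = v q →
      w r = v r → False := by
    intro p q r hpq hpr hqr h1 h2 h3 h4 h5 h6
    have hsw : CyclicComb.sup w = {p, q, r} :=
      hw.eq_triple (by rw [h4]; simpa using h1) (by rw [h5]; exact h2) (by rw [h6]; exact h3) hpq hpr hqr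
    have hsv : CyclicComb.sup v = {p, q, r} := hv.eq_triple h1 h2 h3 hpq hpr hqr
    have hz : ∑ s, ((v s : ℂ) - w s) * deg s = 0 := by
      simp only [sub_mul, Finset.sum_sub_distrib, heq, sub_self]
    rw [Finset.sum_eq_single p] at hz
    · rw [h4] at hz
      push_cast at hz
      have : (2 * (v p : ℂ)) * deg p = 0 := by linear_combination hz
      simp [hdeg p, h1] at this
    · intro s _ hs
      by_cases hq : s = q
      · simp [hq, h5]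
      by_cases hr : s = r
      · simp [hr, h6]
      have e1 : v s = 0 := by
        by_contra h
        have h' := CyclicComb.mem_sup.2 h
        rw [hsv] at h'; simp [hs, hq, hr] at h'
      have e2 : w s = 0 := by
        by_contra h
        have h' := CyclicComb.mem_sup.2 h
        rw [hsw] at h'; simp [hs, hq, hr] at h'
      simp [e1, e2]
    · simp
  rcases val a hva with ⟨a1, a2⟩ | ⟨a1, a2⟩ | ⟨a1, a2⟩ <;>
    rcases val b hvb with ⟨b1, b2⟩ | ⟨b1, b2⟩ | ⟨b1, b2⟩ <;>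
    rcases val c hvc with ⟨c1, c2⟩ | ⟨c1, c2⟩ | ⟨c1, c2⟩ <;>
    rw [a2, b2, c2] at hsum <;>
    first
      | (exfalso; omega)
      | exact one a b c hva a1 b1 c1 hv0
      | exact one b a c hvb b1 a1 c1 (fun s h1 h2 h3 => hv0 s h2 h1 h3)
      | exact one c a b hvc c1 a1 b1 (fun s h1 h2 h3 => hv0 s h2 h3 h1)
      | exact (three a b c hab hac hbc hva hvb hvc a1 b1 c1).elim
      | exact (three b a c hab.symm hbc hac hvb hva hvc b1 a1 c1).elim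
      | exact (three c a b hac.symm hbc.symm hab hvc hva hvb c1 a1 b1).elim

theorem unit3_of_sq {ι : Type*} [Fintype ι] [DecidableEq ι] {v : ι → ℤ} (h : ∑ q, v q * v q = 3) :
    CyclicComb.Unit3 v := by
  classical
  have h1 : ∀ q, v q = 0 ∨ v q = 1 ∨ v q = -1 := by
    intro q
    have : v q * v q ≤ 3 :=
      h ▸ Finset.single_le_sum (f := fun r => v r * v r) (fun r _ => mul_self_nonneg _) (Finset.mem_univ q)
    have : v q ≤ 1 := by nlinarith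
    have : -1 ≤ v q := by nlinarith
    omega
  refine ⟨h1, ?_⟩
  have h2 : ∀ q, v q * v q = if v q ≠ 0 then 1 else 0 := fun q => by
    rcases h1 q with e | e | e <;> simp [e]
  simp only [h2, Finset.sum_boole] at h
  exact_mod_cast h

/-- Both factors give at least three linear characters, one of them at least five. -/
theorem scyc_trivOn_card (hW : Cfsg.IsSelfNormalizingCyclic W₁ W₂)
    (hodd : Odd (Nat.card ↥(W₁ ⊔ W₂))) :
    let n₁ := Nat.card {φ : ↥(W₁ ⊔ W₂) →* ℂˣ // TrivOn W₂ φ}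
    let n₂ := Nat.card {ψ : ↥(W₁ ⊔ W₂) →* ℂˣ // TrivOn W₁ ψ}
    Odd n₁ ∧ Odd n₂ ∧ 3 ≤ n₁ ∧ 3 ≤ n₂ ∧ (5 ≤ n₁ ∨ 5 ≤ n₂) := by
  classical
  intro n₁ n₂
  haveI := scyc_finite_dual (W₁ := W₁) (W₂ := W₂)
  have hmul : n₁ * n₂ = Nat.card ↥(W₁ ⊔ W₂) := by
    rw [← Nat.card_prod, ← scyc_card_dual hW]
    refine Nat.card_eq_of_bijective (fun p => p.1.1 * p.2.1) ⟨fun p q h => ?_, fun ω => ?_⟩
    · obtain ⟨e1, e2⟩ := scyc_prod_inj hW p.1.2 q.1.2 p.2.2 q.2.2 h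
      exact Prod.ext (Subtype.ext e1) (Subtype.ext e2)
    · obtain ⟨φ, ψ, hφ, hψ, rfl⟩ := scyc_hom_decomp hW ω
      exact ⟨(⟨φ, hφ⟩, ⟨ψ, hψ⟩), rfl⟩
  rw [← hmul, Nat.odd_mul] at hodd
  have sep : ∀ {K : Subgroup G}, K ≠ ⊥ → K ≤ W₁ ⊔ W₂ →
      ∃ (x : ↥(W₁ ⊔ W₂)) (φ ψ : ↥(W₁ ⊔ W₂) →* ℂˣ), (x : G) ∈ K ∧ TrivOn W₂ φ ∧ TrivOn W₁ ψ ∧
        φ x * ψ x ≠ 1 := by
    intro K hK hle
    obtain ⟨x, hx, hx1⟩ : ∃ x : G, x ∈ K ∧ x ≠ 1 := by
      obtain ⟨x, hx⟩ := Subgroup.ne_bot_iff_exists_ne_one.1 hK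
      exact ⟨(x : G), x.2, fun h => hx (Subtype.ext h)⟩
    obtain ⟨ω, hω⟩ := scyc_separate hW (x := ⟨x, hle hx⟩) (fun h => hx1 (congrArg Subtype.val h))
    obtain ⟨φ, ψ, hφ, hψ, rfl⟩ := scyc_hom_decomp hW ω
    exact ⟨⟨x, hle hx⟩, φ, ψ, hx, hφ, hψ, hω⟩
  have two₁ : 1 < n₁ := by
    obtain ⟨x, φ, ψ, hx, hφ, hψ, hne⟩ := sep hW.1 le_sup_left
    rw [hψ x hx, mul_one] at hne
    exact Finite.one_lt_card_iff_nontrivial.2
      ⟨⟨φ, hφ⟩, ⟨1, trivOn_one _⟩, fun h => hne (DFunLike.congr_fun (congrArg Subtype.val h) x)⟩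
  have two₂ : 1 < n₂ := by
    obtain ⟨x, φ, ψ, hx, hφ, hψ, hne⟩ := sep hW.2.1 le_sup_right
    rw [hφ x hx, one_mul] at hne
    exact Finite.one_lt_card_iff_nontrivial.2
      ⟨⟨ψ, hψ⟩, ⟨1, trivOn_one _⟩, fun h => hne (DFunLike.congr_fun (congrArg Subtype.val h) x)⟩
  obtain ⟨⟨r, hr⟩, ⟨t, ht⟩⟩ := hodd
  refine ⟨⟨r, hr⟩, ⟨t, ht⟩, by omega, by omega, ?_⟩
  by_contra hcon
  have h9 : Nat.card ↥(W₁ ⊔ W₂) = 3 ^ 2 := by
    rw [← hmul, show n₁ = 3 by omega, show n₂ = 3 by omega]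
    norm_num
  haveI : Fact (Nat.Prime 3) := ⟨Nat.prime_three⟩
  haveI := hW.2.2.2.2.1
  have sub : ∀ {K : Subgroup G}, K ≠ ⊥ → K ≤ W₁ ⊔ W₂ →
      ∃ x : ↥(W₁ ⊔ W₂), (x : G) ∈ K ∧ orderOf x = 3 := by
    intro K hK hle
    have hdvd : Nat.card K ∣ 3 ^ 2 := h9 ▸ Subgroup.card_dvd_of_le hle
    obtain ⟨i, -, hi⟩ := (Nat.dvd_prime_pow Nat.prime_three).1 hdvd
    have hi0 : i ≠ 0 := fun e => hK (Subgroup.eq_bot_of_card_eq K (by rw [hi, e, pow_zero]))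
    obtain ⟨x, hx⟩ := exists_prime_orderOf_dvd_card' (G := K) 3 (hi ▸ dvd_pow_self 3 hi0)
    exact ⟨⟨x, hle x.2⟩, x.2, by rw [Subgroup.orderOf_mk, Subgroup.orderOf_coe]; exact hx⟩
  obtain ⟨x, hx, ox⟩ := sub hW.1 le_sup_left
  obtain ⟨y, hy, oy⟩ := sub hW.2.1 le_sup_right
  haveI : Fintype ↥(W₁ ⊔ W₂) := Fintype.ofFinite _
  have hy' : y ∈ Subgroup.zpowers x := by
    have hle := IsCyclic.card_pow_eq_one_le (α := ↥(W₁ ⊔ W₂)) (n := 3) (by norm_num)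
    have hc : ((Finset.univ : Finset ↥(W₁ ⊔ W₂)).filter fun u => u ∈ Subgroup.zpowers x).card = 3 := by
      rw [← Fintype.card_subtype, ← Nat.card_eq_fintype_card]
      exact (Nat.card_zpowers x).trans ox
    have hsub : ((Finset.univ : Finset ↥(W₁ ⊔ W₂)).filter fun u => u ∈ Subgroup.zpowers x) ⊆
        Finset.univ.filter fun u => u ^ 3 = 1 := by
      intro u hu
      simp only [Finset.mem_filter, Finset.mem_univ, true_and] at hu ⊢
      obtain ⟨n, rfl⟩ := Subgroup.mem_zpowers_iff.1 hu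
      rw [← zpow_natCast, ← zpow_mul, mul_comm, zpow_mul, zpow_natCast, ← ox, pow_orderOf_eq_one,
        one_zpow]
    have heq := Finset.eq_of_subset_of_card_le hsub (by rw [hc]; exact hle)
    have hym : y ∈ (Finset.univ : Finset ↥(W₁ ⊔ W₂)).filter fun u => u ^ 3 = 1 := by
      simp [← oy, pow_orderOf_eq_one]
    rw [← heq] at hym
    simpa using hym
  obtain ⟨k, rfl⟩ := Subgroup.mem_zpowers_iff.1 hy'
  have h2 : ((x ^ k : ↥(W₁ ⊔ W₂)) : G) ∈ W₁ ⊓ W₂ :=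
    ⟨by rw [SubgroupClass.coe_zpow]; exact W₁.zpow_mem hx k, hy⟩
  rw [hW.2.2.1, Subgroup.mem_bot] at h2
  rw [orderOf_eq_one_iff.2 (Subtype.ext h2)] at oy
  omega

open CyclicComb in
/-- The transposed form of the decomposition, with no condition on which side is the longer one. -/
theorem array_decomp' {ι I J : Type*} [Fintype ι] [DecidableEq ι] [Fintype I] [DecidableEq I]
    [Fintype J] [DecidableEq J] (β : I → J → ι → ℤ) (hu : ∀ i j, Unit3 (β i j))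
    (hrow : ∀ i j l, j ≠ l → Meet (β i j) (β i l)) (hcol : ∀ i k j, i ≠ k → Meet (β i j) (β k j))
    (horth : ∀ i k j l, i ≠ k → j ≠ l → ∑ q, β i j q * β k l q = 0)
    (hI : Even (Fintype.card I)) (hI2 : 2 ≤ Fintype.card I)
    (hJ : Even (Fintype.card J)) (hJ2 : 2 ≤ Fintype.card J)
    (h4 : 4 ≤ Fintype.card I ∨ 4 ≤ Fintype.card J) :
    ∃ (x : I → ι) (y : J → ι) (z : I → J → ι) (sx : I → ℤ) (sy : J → ℤ) (sz : I → J → ℤ),
      Function.Injective x ∧ Function.Injective y ∧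
      (∀ i j k l, z i j = z k l → i = k ∧ j = l) ∧
      (∀ i j, x i ≠ y j) ∧ (∀ i k l, x i ≠ z k l) ∧ (∀ j k l, y j ≠ z k l) ∧
      (∀ i, sx i = 1 ∨ sx i = -1) ∧ (∀ j, sy j = 1 ∨ sy j = -1) ∧ (∀ i j, sz i j = 1 ∨ sz i j = -1) ∧
      ∀ i j q, β i j q = (if q = x i then sx i else 0) + (if q = y j then sy j else 0) +
        (if q = z i j then sz i j else 0) := by
  rcases h4 with h4 | h4
  · obtain ⟨x, y, z, sx, sy, sz, hx, hy, hz, hxy, hxz, hyz, sx1, sy1, sz1, he⟩ :=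
      array_decomp (fun j i => β i j) (fun j i => hu i j) (fun j i k h => hcol i k j h)
        (fun j l i h => hrow i j l h) (fun j l i k h h' => horth i k j l h' h) hJ hJ2 hI h4
    exact ⟨y, x, fun i j => z j i, sy, sx, fun i j => sz j i, hy, hx,
      fun i j k l h => (hz j i l k h).symm, fun i j => (hxy j i).symm, fun i k l => hyz i l k,
      fun j k l => hxz j l k, sy1, sx1, fun i j => sz1 j i,
      fun i j q => (he j i q).trans (by ring)⟩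
  · exact array_decomp β hu hrow hcol horth hI hI2 hJ h4

open Classical in
/-- Existence of the family. -/
theorem exists_cyclicTIFamily (hW : Cfsg.IsSelfNormalizingCyclic W₁ W₂)
    (hodd : Odd (Nat.card ↥(W₁ ⊔ W₂)))
    (hnorm : ∀ φ φ' ψ ψ' : ↥(W₁ ⊔ W₂) →* ℂˣ, φ ≠ 1 → φ' ≠ 1 → ψ ≠ 1 → ψ' ≠ 1 →
      TrivOn W₂ φ → TrivOn W₂ φ' → TrivOn W₁ ψ → TrivOn W₁ ψ' →
      Cfsg.classInner (Cfsg.indFun (W₁ ⊔ W₂) (zetaFun φ ψ)) (fun _ => 1) = 1 ∧
      Cfsg.classInner (Cfsg.indFun (W₁ ⊔ W₂) (zetaFun φ ψ)) (Cfsg.indFun (W₁ ⊔ W₂) (zetaFun φ' ψ')) =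
        1 + (if φ = φ' then 1 else 0) + (if ψ = ψ' then 1 else 0) +
          (if φ = φ' then 1 else 0) * (if ψ = ψ' then 1 else 0)) :
    ∃ χ : (↥(W₁ ⊔ W₂) →* ℂˣ) → (G → ℂ), Cfsg.IsCyclicTIFamily W₁ W₂ χ := by
  classical
  haveI := scyc_finite_dual (W₁ := W₁) (W₂ := W₂)
  let D₁ := {φ : ↥(W₁ ⊔ W₂) →* ℂˣ // TrivOn W₂ φ}
  let D₂ := {ψ : ↥(W₁ ⊔ W₂) →* ℂˣ // TrivOn W₁ ψ}
  let I := {φ : D₁ // φ.1 ≠ 1}
  let J := {ψ : D₂ // ψ.1 ≠ 1}
  haveI : Fintype D₁ := Fintype.ofFinite _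
  haveI : Fintype D₂ := Fintype.ofFinite _
  obtain ⟨o1, o2, t1, t2, f⟩ : Odd (Nat.card D₁) ∧ Odd (Nat.card D₂) ∧ 3 ≤ Nat.card D₁ ∧
      3 ≤ Nat.card D₂ ∧ (5 ≤ Nat.card D₁ ∨ 5 ≤ Nat.card D₂) := scyc_trivOn_card hW hodd
  have cI : Fintype.card I + 1 = Nat.card D₁ := by
    have : Fintype.card I = Fintype.card D₁ - 1 := by
      rw [show Fintype.card I = Fintype.card {φ : D₁ // ¬ φ = ⟨1, trivOn_one _⟩} from
        Fintype.card_congr (Equiv.subtypeEquivRight fun φ =>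
          ⟨fun h e => h (congrArg Subtype.val e), fun h e => h (Subtype.ext e)⟩),
        Fintype.card_subtype_compl, Fintype.card_subtype_eq]
    rw [this, Nat.card_eq_fintype_card, Nat.sub_add_cancel (Fintype.card_pos_iff.2 ⟨⟨1, trivOn_one _⟩⟩)]
  have cJ : Fintype.card J + 1 = Nat.card D₂ := by
    have : Fintype.card J = Fintype.card D₂ - 1 := by
      rw [show Fintype.card J = Fintype.card {φ : D₂ // ¬ φ = ⟨1, trivOn_one _⟩} from
        Fintype.card_congr (Equiv.subtypeEquivRight fun φ =>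
          ⟨fun h e => h (congrArg Subtype.val e), fun h e => h (Subtype.ext e)⟩),
        Fintype.card_subtype_compl, Fintype.card_subtype_eq]
    rw [this, Nat.card_eq_fintype_card, Nat.sub_add_cancel (Fintype.card_pos_iff.2 ⟨⟨1, trivOn_one _⟩⟩)]
  let α : I → J → (G → ℂ) := fun i j => Cfsg.indFun (W₁ ⊔ W₂) (zetaFun i.1.1 j.1.1)
  have hgen : ∀ i j, Cfsg.IsGeneralizedCharacter G (α i j) := by
    intro i j
    refine CT.isGen_indFun _ ?_
    rw [zetaFun_eq]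
    have g : ∀ γ : ↥(W₁ ⊔ W₂) →* ℂˣ, Cfsg.IsGeneralizedCharacter ↥(W₁ ⊔ W₂) fun w => (γ w : ℂ) :=
      fun γ => CT.isGen_of_isIrr (CT.isIrrCharacter_lin γ)
    exact CT.isGen_add (CT.isGen_sub (CT.isGen_sub (g 1) (g _)) (g _)) (g _)
  have honeIrr : Cfsg.IsIrrCharacter G (fun _ => (1 : ℂ)) := by
    simpa using CT.isIrrCharacter_lin (1 : G →* ℂˣ)
  let u : Cfsg.IrrCharacter G := ⟨fun _ => 1, honeIrr⟩
  let β : I → J → (G → ℂ) := fun i j => α i j - (u : G → ℂ)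
  have hβgen : ∀ i j, Cfsg.IsGeneralizedCharacter G (β i j) := fun i j =>
    CT.isGen_sub (hgen i j) (CT.isGen_of_isIrr u.2)
  choose m hm hexp _hn using fun i j => gen_exists_coeff (hβgen i j)
  have hα1 : ∀ i j, Cfsg.classInner (α i j) (u : G → ℂ) = 1 := fun i j =>
    (hnorm i.1.1 i.1.1 j.1.1 j.1.1 i.2 i.2 j.2 j.2 i.1.2 i.1.2 j.1.2 j.1.2).1
  have hm0 : ∀ i j, m i j u = 0 := by
    intro i j
    have := hm i j u
    rw [CT.classInner_sub_left, hα1, CT.irr_inner_self u.2, sub_self] at this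
    exact_mod_cast this.symm
  have hinner : ∀ i j k l, ((∑ q, m i j q * m k l q : ℤ) : ℂ) =
      (if i = k then 1 else 0) + (if j = l then 1 else 0) +
        (if i = k then 1 else 0) * (if j = l then 1 else 0) := by
    intro i j k l
    have e : Cfsg.classInner (β i j) (β k l) = ((∑ q, m i j q * m k l q : ℤ) : ℂ) := by
      conv_lhs => arg 2; rw [hexp k l]
      rw [CT.classInner_sum_right]
      push_cast
      refine Finset.sum_congr rfl fun q _ => ?_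
      rw [CT.classInner_smul_right, hm i j q]
      simp [mul_comm]
    rw [← e]
    have h1 : Cfsg.classInner (u : G → ℂ) (α k l) = 1 := by
      rw [← CT.classInner_conj_symm, hα1, map_one]
    have h2 := (hnorm i.1.1 k.1.1 j.1.1 l.1.1 i.2 k.2 j.2 l.2 i.1.2 k.1.2 j.1.2 l.1.2).2
    simp only [β, CT.classInner_sub_left, CT.classInner_sub_right, hα1, h1, CT.irr_inner_self u.2]
    have ei : (i.1.1 = k.1.1) ↔ i = k :=
      ⟨fun h => Subtype.ext (Subtype.ext h), fun h => h ▸ rfl⟩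
    have ej : (j.1.1 = l.1.1) ↔ j = l :=
      ⟨fun h => Subtype.ext (Subtype.ext h), fun h => h ▸ rfl⟩
    simp only [α] at h2 ⊢
    rw [h2]
    simp only [ei, ej]
    ring
  have hdeg : ∀ i j, ∑ q, (m i j q : ℂ) * (q : G → ℂ) 1 = -1 := by
    intro i j
    have h1 : β i j 1 = -1 := by
      simp only [β, α, Pi.sub_apply, CT.indFun_one_eval, zetaFun, u]
      simp
    rw [← h1, hexp i j]
    simp [Finset.sum_apply]
  have hu : ∀ i j, CyclicComb.Unit3 (m i j) := fun i j => unit3_of_sq (by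
    have := hinner i j i j
    simp only [if_true] at this
    norm_num at this
    exact_mod_cast this)
  have hmeet : ∀ i j k l, ((i = k ∧ j ≠ l) ∨ (i ≠ k ∧ j = l)) → CyclicComb.Meet (m i j) (m k l) :=
    fun i j k l h => meet_of_sum (hu i j) (hu k l) (by
      have := hinner i j k l
      rcases h with ⟨rfl, h2⟩ | ⟨h1, rfl⟩
      · simp [h2] at this; exact_mod_cast this
      · simp [h1] at this; exact_mod_cast this)
      (fun q => (q : G → ℂ) 1) (fun q => CT.irr_one_ne_zero q.2) ((hdeg i j).trans (hdeg k l).symm)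
  obtain ⟨x, y, z, sx, sy, sz, hx, hy, hz, hxy, hxz, hyz, sx1, sy1, sz1, he⟩ :=
    array_decomp' m hu (fun i j l h => hmeet i j i l (Or.inl ⟨rfl, h⟩))
      (fun i k j h => hmeet i j k j (Or.inr ⟨h, rfl⟩))
      (fun i k j l h1 h2 => by
        have := hinner i j k l
        simp [h1, h2] at this
        exact_mod_cast this)
      (by obtain ⟨r, hr⟩ := o1; exact ⟨r, by omega⟩)
      (by omega)
      (by obtain ⟨r, hr⟩ := o2; exact ⟨r, by omega⟩)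
      (by omega) (by omega)
  -- the principal character is none of the points
  obtain ⟨i₀⟩ : Nonempty I := Fintype.card_pos_iff.1 (by omega)
  obtain ⟨j₀⟩ : Nonempty J := Fintype.card_pos_iff.1 (by omega)
  have hux : ∀ i, u ≠ x i := fun i e => by
    have := he i j₀ (x i)
    rw [← e, hm0, e] at this
    simp [hxy, hxz] at this
    rcases sx1 i with h | h <;> omega
  have huy : ∀ j, u ≠ y j := fun j e => by
    have := he i₀ j (y j)
    rw [← e, hm0, e] at this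
    simp [Ne.symm (hxy _ _), hyz] at this
    rcases sy1 j with h | h <;> omega
  have huz : ∀ i j, u ≠ z i j := fun i j e => by
    have := he i j (z i j)
    rw [← e, hm0, e] at this
    simp [Ne.symm (hxz _ _ _), Ne.symm (hyz _ _ _)] at this
    rcases sz1 i j with h | h <;> omega
  -- the points and signs of the family
  let pt : D₁ × D₂ → Cfsg.IrrCharacter G := fun p =>
    if h₁ : p.1.1 = 1 then (if h₂ : p.2.1 = 1 then u else y ⟨p.2, h₂⟩)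
    else (if h₂ : p.2.1 = 1 then x ⟨p.1, h₁⟩ else z ⟨p.1, h₁⟩ ⟨p.2, h₂⟩)
  let sg : D₁ × D₂ → ℤ := fun p =>
    if h₁ : p.1.1 = 1 then (if h₂ : p.2.1 = 1 then 1 else -sy ⟨p.2, h₂⟩)
    else (if h₂ : p.2.1 = 1 then -sx ⟨p.1, h₁⟩ else sz ⟨p.1, h₁⟩ ⟨p.2, h₂⟩)
  have hpt : Function.Injective pt := by
    rintro ⟨a, b⟩ ⟨a', b'⟩ h
    by_cases a1 : a.1 = 1 <;> by_cases b1 : b.1 = 1 <;> by_cases a2 : a'.1 = 1 <;>
      by_cases b2 : b'.1 = 1 <;> simp only [pt, a1, b1, a2, b2, dite_true, dite_false] at h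
    · exact Prod.ext (Subtype.ext (a1.trans a2.symm)) (Subtype.ext (b1.trans b2.symm))
    · exact absurd h (huy _)
    · exact absurd h (hux _)
    · exact absurd h (huz _ _)
    · exact absurd h.symm (huy _)
    · exact Prod.ext (Subtype.ext (a1.trans a2.symm)) (congrArg Subtype.val (hy h))
    · exact absurd h.symm (hxy _ _)
    · exact absurd h (hyz _ _ _)
    · exact absurd h.symm (hux _)
    · exact absurd h (hxy _ _)
    · exact Prod.ext (congrArg Subtype.val (hx h)) (Subtype.ext (b1.trans b2.symm))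
    · exact absurd h (hxz _ _ _)
    · exact absurd h.symm (huz _ _)
    · exact absurd h.symm (hyz _ _ _)
    · exact absurd h.symm (hxz _ _ _)
    · exact Prod.ext (congrArg Subtype.val (hz _ _ _ _ h).1) (congrArg Subtype.val (hz _ _ _ _ h).2)
  have hsg : ∀ p, sg p = 1 ∨ sg p = -1 := by
    intro p
    simp only [sg]
    split_ifs with h1 h2 h3
    · exact Or.inl rfl
    · rcases sy1 ⟨p.2, h2⟩ with e | e <;> simp [e]
    · rcases sx1 ⟨p.1, h1⟩ with e | e <;> simp [e]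
    · exact sz1 _ _
  choose Φ Ψ hΦ hΨ hdec using scyc_hom_decomp hW
  let pr : (↥(W₁ ⊔ W₂) →* ℂˣ) → D₁ × D₂ := fun ω => (⟨Φ ω, hΦ ω⟩, ⟨Ψ ω, hΨ ω⟩)
  have hpr : ∀ a : D₁, ∀ b : D₂, pr (a.1 * b.1) = (a, b) := fun a b => by
    obtain ⟨e1, e2⟩ := scyc_prod_inj hW (hΦ _) a.2 (hΨ _) b.2 (hdec (a.1 * b.1)).symm
    exact Prod.ext (Subtype.ext e1) (Subtype.ext e2)
  have hprinj : Function.Injective pr := fun ω ω' h => by
    rw [hdec ω, hdec ω', show Φ ω = Φ ω' from congrArg (fun p => p.1.1) h,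
      show Ψ ω = Ψ ω' from congrArg (fun p => p.2.1) h]
  let χ : (↥(W₁ ⊔ W₂) →* ℂˣ) → (G → ℂ) := fun ω => (sg (pr ω) : ℂ) • (pt (pr ω) : G → ℂ)
  have hs : ∀ ω, IsSigned (χ ω) := fun ω => by
    rcases hsg (pr ω) with e | e
    · exact Or.inl (by simpa [χ, e] using (pt (pr ω)).2)
    · exact Or.inr (by simpa [χ, e] using (pt (pr ω)).2)
  have ho : ∀ ω ω', Cfsg.classInner (χ ω) (χ ω') = if ω = ω' then 1 else 0 := by
    intro ω ω'
    simp only [χ, CT.classInner_smul_left, CT.classInner_smul_right, map_intCast,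
      CT.irr_inner_subtype]
    by_cases h : ω = ω'
    · subst h
      rcases hsg (pr ω) with e | e <;> simp [e]
    · simp [h, hprinj.ne_iff.2 h, hpt.ne_iff]
  have hχ1 : χ 1 = fun _ => (1 : ℂ) := by
    have e : pr 1 = (⟨1, trivOn_one _⟩, ⟨1, trivOn_one _⟩) := by
      have h' := hpr ⟨1, trivOn_one _⟩ ⟨1, trivOn_one _⟩
      rwa [show (1 : ↥(W₁ ⊔ W₂) →* ℂˣ) * 1 = 1 from lin_one_mul 1] at h'
    simp only [χ, e, pt, sg]
    simp [u]
  have hind : ∀ φ ψ : ↥(W₁ ⊔ W₂) →* ℂˣ, φ ≠ 1 → ψ ≠ 1 → TrivOn W₂ φ → TrivOn W₁ ψ →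
      Cfsg.indFun (W₁ ⊔ W₂) (zetaFun φ ψ) = χ 1 - χ φ - χ ψ + χ (φ * ψ) := by
    intro φ ψ hφ1 hψ1 hφ hψ
    let i : I := ⟨⟨φ, hφ⟩, hφ1⟩
    let j : J := ⟨⟨ψ, hψ⟩, hψ1⟩
    have e1 : pr φ = (⟨φ, hφ⟩, ⟨1, trivOn_one _⟩) := by
      have h' := hpr ⟨φ, hφ⟩ ⟨1, trivOn_one _⟩
      rwa [show φ * (1 : ↥(W₁ ⊔ W₂) →* ℂˣ) = φ from lin_mul_one φ] at h'
    have e2 : pr ψ = (⟨1, trivOn_one _⟩, ⟨ψ, hψ⟩) := by
      have h' := hpr ⟨1, trivOn_one _⟩ ⟨ψ, hψ⟩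
      rwa [show (1 : ↥(W₁ ⊔ W₂) →* ℂˣ) * ψ = ψ from lin_one_mul ψ] at h'
    have e3 : pr (φ * ψ) = (⟨φ, hφ⟩, ⟨ψ, hψ⟩) := hpr ⟨φ, hφ⟩ ⟨ψ, hψ⟩
    have hb : Cfsg.indFun (W₁ ⊔ W₂) (zetaFun φ ψ) = (u : G → ℂ) + β i j := by
      simp [β, α, i, j]
    rw [hb, hexp i j, hχ1]
    simp only [χ, e1, e2, e3, pt, sg, dif_pos, dif_neg hφ1, dif_neg hψ1, he]
    push_cast
    simp only [add_smul, Finset.sum_add_distrib, ite_smul, zero_smul, Finset.sum_ite_eq',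
      Finset.mem_univ, if_true]
    simp only [neg_smul, sub_neg_eq_add, i, j, u]
    abel
  refine ⟨χ, ⟨hs, fun ω ω' => by convert ho ω ω', hχ1, fun ω w h1 h2 => family_eq_on hW hs ho hind ω ⟨w.2, h1, h2⟩, ?_⟩⟩
  intro φ ψ hφ1 hψ1 hφ hψ
  have h := hind φ ψ hφ1 hψ1 hφ hψ
  unfold zetaFun at h
  rw [h, hχ1]
  rfl

end Cfsg.Agent.OddChar
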