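import Cfsg.Agent.Lib.OddChar.CyclicFamily
import Cfsg.Agent.Lib.OddChar.Lattice
import Cfsg.Agent.Lib.OddChar.Powers
import Cfsg.Agent.Lib.CT.SmallDegree

/-!
The characters of a semidirect product of `K` by a cyclic Hall subgroup attached to the
signed family of a self-normalising cyclic subgroup.
-/

namespace Cfsg.Agent.OddChar

open scoped ComplexConjugate

universe u

variable {L : Type u} [Group L] [Fintype L] {K W₁ W₂ : Subgroup L}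

/-- The standing hypotheses. -/
structure SplitData (K W₁ W₂ : Subgroup L) : Prop where
  normal : K.Normal
  disj : K ⊓ W₁ = ⊥
  top : K ⊔ W₁ = ⊤
  cop : Nat.Coprime (Nat.card W₁) (Nat.card K)
  le : W₂ ≤ K
  cent : ∀ x ∈ W₁, x ≠ 1 → K ⊓ Subgroup.centralizer ({x} : Set L) = W₂
  scyc : Cfsg.IsSelfNormalizingCyclic W₁ W₂
  odd : Odd (Nat.card ↥(W₁ ⊔ W₂))

namespace SplitData

theorem mem_K_iff (D : SplitData K W₁ W₂) {w : ↥(W₁ ⊔ W₂)} : (w : L) ∈ K ↔ (w : L) ∈ W₂ := by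
  refine ⟨fun h => ?_, fun h => D.le h⟩
  obtain ⟨a, b, ha, hb, rfl⟩ := scyc_decomp D.scyc w
  rw [Subgroup.coe_mul] at h ⊢
  have : (a : L) ∈ K ⊓ W₁ := ⟨by simpa using K.mul_mem h (K.inv_mem (D.le hb)), ha⟩
  rw [D.disj, Subgroup.mem_bot] at this
  rwa [this, one_mul]

/-- Fusion of the elements outside `W₂`. -/
theorem conj_mem (D : SplitData K W₁ W₂) {w w' : ↥(W₁ ⊔ W₂)} (hw : (w : L) ∉ W₂) {g : L}
    (h : g * (w : L) * g⁻¹ = w') : g ∈ W₁ ⊔ W₂ ∧ w' = w := by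
  haveI := D.normal
  obtain ⟨a, b, ha, hb, rfl⟩ := scyc_decomp D.scyc w
  obtain ⟨a', b', ha', hb', rfl⟩ := scyc_decomp D.scyc w'
  rw [Subgroup.coe_mul, Subgroup.coe_mul] at h
  have ha1 : (a : L) ≠ 1 := fun e => hw (by rw [Subgroup.coe_mul, e, one_mul]; exact hb)
  obtain ⟨k, hk, t, ht, rfl⟩ : ∃ k ∈ K, ∃ t ∈ W₁, k * t = g :=
    Subgroup.mem_sup_of_normal_left.1 (D.top ▸ Subgroup.mem_top g)
  have hga : (k * t) * (a : L) * (k * t)⁻¹ = a' :=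
    conj_left_eq D.cop (D.scyc.2.2.2.1 _ ha _ hb) (D.scyc.2.2.2.1 _ ha' _ hb')
      (Subgroup.orderOf_dvd_natCard _ ha) (Subgroup.orderOf_dvd_natCard _ ha')
      ((Subgroup.orderOf_dvd_natCard _ hb).trans (Subgroup.card_dvd_of_le D.le))
      ((Subgroup.orderOf_dvd_natCard _ hb').trans (Subgroup.card_dvd_of_le D.le)) h
  have hta : t * (a : L) = (a : L) * t :=
    congrArg Subtype.val (scyc_commute D.scyc ⟨t, Subgroup.mem_sup_left ht⟩ a).eq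
  have hka : k * (a : L) * k⁻¹ = a' := by
    rw [← hga]
    calc k * (a : L) * k⁻¹ = k * ((a : L) * t) * (t⁻¹ * k⁻¹) := by group
      _ = k * (t * (a : L)) * (t⁻¹ * k⁻¹) := by rw [hta]
      _ = _ := by group
  have h1 : (a' : L) * (a : L)⁻¹ ∈ K ⊓ W₁ := by
    refine Subgroup.mem_inf.mpr ⟨?_, W₁.mul_mem ha' (W₁.inv_mem ha)⟩
    rw [← hka]
    have h2 := mul_mem hk (D.normal.conj_mem k⁻¹ (K.inv_mem hk) (a : L))
    convert h2 using 1
    group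
  rw [D.disj, Subgroup.mem_bot, mul_inv_eq_one] at h1
  rw [h1] at hka
  have hkW : k ∈ W₂ := by
    rw [← D.cent _ ha ha1]
    exact ⟨hk, Subgroup.mem_centralizer_singleton_iff.mpr (mul_inv_eq_iff_eq_mul.mp hka)⟩
  have hg : k * t ∈ W₁ ⊔ W₂ :=
    mul_mem (Subgroup.mem_sup_right hkW) (Subgroup.mem_sup_left ht)
  refine ⟨hg, Subtype.ext ?_⟩
  rw [Subgroup.coe_mul, Subgroup.coe_mul, ← h]
  have hc := congrArg Subtype.val (scyc_commute D.scyc ⟨_, hg⟩ (a * b)).eq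
  simp only [Subgroup.coe_mul] at hc
  rw [hc, mul_inv_cancel_right]

/-- Every element outside `K` is conjugate into `W`. -/
theorem exists_conj (D : SplitData K W₁ W₂) {x : L} (hx : x ∉ K) :
    ∃ (g : L) (w : ↥(W₁ ⊔ W₂)), (w : L) ∉ W₂ ∧ g * (w : L) * g⁻¹ = x := by
  classical
  haveI := D.normal
  haveI : Fintype ↥(W₁ ⊔ W₂) := Fintype.ofFinite _
  haveI : Fintype (L ⧸ (W₁ ⊔ W₂)) := Fintype.ofFinite _
  let S := (L ⧸ (W₁ ⊔ W₂)) × {w : ↥(W₁ ⊔ W₂) // (w : L) ∉ W₂}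
  let f : S → {x : L // x ∉ K} := fun p => ⟨p.1.out * (p.2.1 : L) * p.1.out⁻¹, fun h =>
    p.2.2 (D.mem_K_iff.1 (by simpa [mul_assoc] using D.normal.conj_mem _ h p.1.out⁻¹))⟩
  have hf : Function.Injective f := by
    rintro ⟨c, w⟩ ⟨c', w'⟩ e
    have e' : c.out * (w.1 : L) * c.out⁻¹ = c'.out * (w'.1 : L) * c'.out⁻¹ := congrArg Subtype.val e
    obtain ⟨hg, hw⟩ := D.conj_mem w.2 (w' := w'.1) (g := c'.out⁻¹ * c.out) (by
      calc c'.out⁻¹ * c.out * (w.1 : L) * (c'.out⁻¹ * c.out)⁻¹ =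
          c'.out⁻¹ * (c.out * (w.1 : L) * c.out⁻¹) * c'.out := by group
        _ = _ := by rw [e']; group)
    have hcc : c = c' := by
      rw [← c.out_eq', ← c'.out_eq', eq_comm, QuotientGroup.eq]
      exact hg
    exact Prod.ext hcc (Subtype.ext hw.symm)
  have hW : Nat.card ↥(W₁ ⊔ W₂) * (W₁ ⊔ W₂).index = Nat.card L := Subgroup.card_mul_index _
  have hK : Nat.card K * Nat.card W₁ = Nat.card L :=
    (Subgroup.isComplement'_of_disjoint_and_mul_eq_univ (disjoint_iff.mpr D.disj)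
      (by rw [← Subgroup.normal_mul, D.top]; rfl)).card_mul
  have h12 : Nat.card W₁ * Nat.card W₂ = Nat.card ↥(W₁ ⊔ W₂) := by
    rw [← Nat.card_prod]
    refine Nat.card_eq_of_bijective (fun p : W₁ × W₂ => (⟨(p.1 : L) * p.2,
      mul_mem (Subgroup.mem_sup_left p.1.2) (Subgroup.mem_sup_right p.2.2)⟩ : ↥(W₁ ⊔ W₂))) ⟨?_, ?_⟩
    · intro p q hpq
      obtain ⟨e1, e2⟩ := scyc_decomp_unique D.scyc p.1.2 p.2.2 q.1.2 q.2.2 (congrArg Subtype.val hpq)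
      exact Prod.ext (Subtype.ext e1) (Subtype.ext e2)
    · intro w
      obtain ⟨a, b, ha, hb, rfl⟩ := scyc_decomp D.scyc w
      exact ⟨(⟨_, ha⟩, ⟨_, hb⟩), rfl⟩
  have hcard : Nat.card {x : L // x ∉ K} ≤ Nat.card S := by
    have c1 : Nat.card {x : L // x ∉ K} = Nat.card L - Nat.card K := by
      rw [Nat.card_eq_fintype_card, Fintype.card_subtype_compl, ← Nat.card_eq_fintype_card,
        ← Nat.card_eq_fintype_card]
    have c2 : Nat.card {w : ↥(W₁ ⊔ W₂) // (w : L) ∉ W₂} = Nat.card ↥(W₁ ⊔ W₂) - Nat.card W₂ := by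
      rw [Nat.card_eq_fintype_card, Fintype.card_subtype_compl, ← Nat.card_eq_fintype_card,
        ← Nat.card_eq_fintype_card]
      congr 1
      exact Nat.card_eq_of_bijective (fun w => (⟨(w.1 : L), w.2⟩ : W₂))
        ⟨fun v w e => Subtype.ext (Subtype.ext (congrArg (fun t : W₂ => (t : L)) e)),
          fun t => ⟨⟨⟨t, Subgroup.mem_sup_right t.2⟩, t.2⟩, rfl⟩⟩
    have c3 : Nat.card S = (W₁ ⊔ W₂).index * (Nat.card ↥(W₁ ⊔ W₂) - Nat.card W₂) := by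
      rw [Nat.card_prod, c2]
      rfl
    have c4 : (W₁ ⊔ W₂).index * Nat.card W₂ = Nat.card K := by
      refine Nat.eq_of_mul_eq_mul_right (Nat.card_pos (α := W₁)) ?_
      rw [hK, ← hW, ← h12]
      ring
    rw [c1, c3, Nat.mul_sub, c4, mul_comm, hW]
  obtain ⟨⟨c, w⟩, e⟩ := (hf.bijective_of_nat_card_le hcard).2 ⟨x, hx⟩
  exact ⟨c.out, w.1, w.2, congrArg Subtype.val e⟩

/-- Class functions vanishing on `K` are determined by `W`. -/
theorem eq_of_eq_on (D : SplitData K W₁ W₂) {F F' : L → ℂ} (hF : Cfsg.IsClassFunction L F)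
    (hF' : Cfsg.IsClassFunction L F') (hK : ∀ x ∈ K, F x = F' x)
    (hW : ∀ w : ↥(W₁ ⊔ W₂), (w : L) ∉ W₂ → F w = F' w) : F = F' := by
  funext x
  by_cases hx : x ∈ K
  · exact hK x hx
  · obtain ⟨g, w, hw, rfl⟩ := D.exists_conj hx
    rw [hF, hF', hW w hw]

theorem indFun_eq (D : SplitData K W₁ W₂) {f : ↥(W₁ ⊔ W₂) → ℂ}
    (hf : ∀ w : ↥(W₁ ⊔ W₂), (w : L) ∈ W₂ → f w = 0) :
    (∀ x ∈ K, Cfsg.indFun (W₁ ⊔ W₂) f x = 0) ∧
      ∀ w : ↥(W₁ ⊔ W₂), (w : L) ∉ W₂ → Cfsg.indFun (W₁ ⊔ W₂) f w = f w := by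
  classical
  haveI := D.normal
  refine ⟨fun x hx => ?_, fun w hw => ?_⟩
  · have hterm : ∀ y : L, Cfsg.extendByZero (W₁ ⊔ W₂) f (y⁻¹ * x * y) = 0 := by
      intro y
      by_cases hm : y⁻¹ * x * y ∈ W₁ ⊔ W₂
      · rw [CT.extendByZero_mem _ _ hm]
        refine hf _ ((D.mem_K_iff (w := ⟨_, hm⟩)).1 ?_)
        simpa using D.normal.conj_mem x hx y⁻¹
      · exact CT.extendByZero_not_mem _ _ hm
    simp [Cfsg.indFun, hterm]
  · have hterm : ∀ y : L, Cfsg.extendByZero (W₁ ⊔ W₂) f (y⁻¹ * (w : L) * y) =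
        if y ∈ W₁ ⊔ W₂ then f w else 0 := by
      intro y
      by_cases hm : y⁻¹ * (w : L) * y ∈ W₁ ⊔ W₂
      · obtain ⟨hy, he⟩ := D.conj_mem hw (w' := ⟨_, hm⟩) (g := y⁻¹) (by simp)
        rw [CT.extendByZero_mem _ _ hm, he, if_pos (by simpa using inv_mem hy)]
      · rw [CT.extendByZero_not_mem _ _ hm, if_neg]
        exact fun hy => hm (mul_mem (mul_mem (inv_mem hy) w.2) hy)
    simp only [Cfsg.indFun, hterm, Finset.sum_ite, Finset.sum_const_zero, add_zero, Finset.sum_const,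
      nsmul_eq_mul]
    rw [← mul_assoc, ← Fintype.card_subtype, ← Nat.card_eq_fintype_card,
      inv_mul_cancel₀ (Nat.cast_ne_zero.mpr Nat.card_pos.ne'), one_mul]

/-- A linear character of `L` extending one of `W` trivial on `W₂`. -/
theorem exists_ext (D : SplitData K W₁ W₂) {φ : ↥(W₁ ⊔ W₂) →* ℂˣ} (hφ : TrivOn W₂ φ) :
    ∃ l : L →* ℂˣ, (∀ k ∈ K, l k = 1) ∧ ∀ w : ↥(W₁ ⊔ W₂), l w = φ w := by
  haveI := D.normal
  let j : W₁ →* L ⧸ K := (QuotientGroup.mk' K).comp W₁.subtype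
  have hj : Function.Bijective j := by
    constructor
    · rw [← MonoidHom.ker_eq_bot_iff, eq_bot_iff]
      intro a ha
      have h1 : (a : L) ∈ K ⊓ W₁ := ⟨(QuotientGroup.eq_one_iff _).1 ha, a.2⟩
      rw [D.disj, Subgroup.mem_bot] at h1
      exact Subgroup.mem_bot.2 (Subtype.ext h1)
    · intro q
      obtain ⟨g, rfl⟩ := QuotientGroup.mk'_surjective K q
      obtain ⟨k, hk, t, ht, rfl⟩ : ∃ k ∈ K, ∃ t ∈ W₁, k * t = g :=
        Subgroup.mem_sup_of_normal_left.1 (D.top ▸ Subgroup.mem_top g)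
      refine ⟨⟨t, ht⟩, ?_⟩
      simp only [j, MonoidHom.comp_apply, map_mul, Subgroup.coe_subtype]
      rw [(QuotientGroup.eq_one_iff k).2 hk |> fun h => (show QuotientGroup.mk' K k = 1 from h), one_mul]
  let e := MulEquiv.ofBijective j hj
  let inc : W₁ →* ↥(W₁ ⊔ W₂) := Subgroup.inclusion le_sup_left
  refine ⟨((φ.comp inc).comp e.symm.toMonoidHom).comp (QuotientGroup.mk' K), fun k hk => ?_, fun w => ?_⟩
  · simp [(QuotientGroup.eq_one_iff k).2 hk]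
  · obtain ⟨a, b, ha, hb, rfl⟩ := scyc_decomp D.scyc w
    have hbK : QuotientGroup.mk' K (b : L) = 1 := (QuotientGroup.eq_one_iff _).2 (D.le hb)
    have he : e ⟨(a : L), ha⟩ = QuotientGroup.mk' K (a : L) := rfl
    simp only [MonoidHom.comp_apply, Subgroup.coe_mul, map_mul, hbK, mul_one, ← he,
      MulEquiv.coe_toMonoidHom, MulEquiv.symm_apply_apply, hφ b hb, map_one, mul_one]
    exact congrArg φ (Subtype.ext rfl)

theorem exists_sep_right (D : SplitData K W₁ W₂) :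
    ∃ b : ↥(W₁ ⊔ W₂), (b : L) ∈ W₂ ∧ b ≠ 1 := by
  obtain ⟨b, hb⟩ := Subgroup.ne_bot_iff_exists_ne_one.1 D.scyc.2.1
  exact ⟨⟨b, Subgroup.mem_sup_right b.2⟩, b.2,
    fun e => hb (Subtype.ext (congrArg (fun t : ↥(W₁ ⊔ W₂) => (t : L)) e))⟩

theorem exists_sep_left (D : SplitData K W₁ W₂) :
    ∃ a : ↥(W₁ ⊔ W₂), (a : L) ∈ W₁ ∧ a ≠ 1 := by
  obtain ⟨a, ha⟩ := Subgroup.ne_bot_iff_exists_ne_one.1 D.scyc.1
  exact ⟨⟨a, Subgroup.mem_sup_left a.2⟩, a.2,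
    fun e => ha (Subtype.ext (congrArg (fun t : ↥(W₁ ⊔ W₂) => (t : L)) e))⟩

theorem mul_mem_vSet (D : SplitData K W₁ W₂) {a b : ↥(W₁ ⊔ W₂)} (ha : (a : L) ∈ W₁) (ha1 : a ≠ 1)
    (hb : (b : L) ∈ W₂) (hb1 : b ≠ 1) : ((a * b : ↥(W₁ ⊔ W₂)) : L) ∈ vSet W₁ W₂ := by
  refine ⟨(a * b).2, fun h => hb1 (Subtype.ext ?_), fun h => ha1 (Subtype.ext ?_)⟩
  · have h2 : (b : L) ∈ W₁ ⊓ W₂ := ⟨by simpa using W₁.mul_mem (W₁.inv_mem ha) h, hb⟩
    rw [D.scyc.2.2.1, Subgroup.mem_bot] at h2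
    exact h2
  · have h2 : (a : L) ∈ W₁ ⊓ W₂ := ⟨ha, by simpa using W₂.mul_mem h (W₂.inv_mem hb)⟩
    rw [D.scyc.2.2.1, Subgroup.mem_bot] at h2
    exact h2

theorem sq_ne_one (D : SplitData K W₁ W₂) {a : ↥(W₁ ⊔ W₂)} (ha : a ≠ 1) : a * a ≠ 1 := by
  intro e
  have hd : orderOf a ∣ 2 := orderOf_dvd_of_pow_eq_one (by rw [pow_two, e])
  rcases (Nat.dvd_prime Nat.prime_two).1 hd with h | h
  · exact ha (orderOf_eq_one_iff.1 h)
  · exact D.odd.not_two_dvd_nat (h ▸ orderOf_dvd_natCard a)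

/-- Two linear characters equal up to sign on `V` are equal, and the sign is one. -/
theorem lin_eq_of_sign (D : SplitData K W₁ W₂) {ω ω' : ↥(W₁ ⊔ W₂) →* ℂˣ} {e : ℂ}
    (h : ∀ w : ↥(W₁ ⊔ W₂), (w : L) ∈ vSet W₁ W₂ → (ω w : ℂ) = e * (ω' w : ℂ)) :
    ω = ω' ∧ e = 1 := by
  obtain ⟨r, hr⟩ : ∃ r : ↥(W₁ ⊔ W₂) → ℂ, r = fun w => (ω w : ℂ) / (ω' w : ℂ) := ⟨_, rfl⟩
  have hr0 : ∀ w, r w ≠ 0 := fun w => by simp [hr]
  have hmul : ∀ v w, r (v * w) = r v * r w := fun v w => by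
    simp only [hr, map_mul, Units.val_mul]
    ring
  have hV : ∀ a b : ↥(W₁ ⊔ W₂), (a : L) ∈ W₁ → a ≠ 1 → (b : L) ∈ W₂ → b ≠ 1 → r a * r b = e :=
    fun a b ha ha1 hb hb1 => by
      rw [← hmul, hr, div_eq_iff (Units.ne_zero _)]
      exact h _ (D.mul_mem_vSet ha ha1 hb hb1)
  obtain ⟨a₀, ha₀, ha₀1⟩ := D.exists_sep_left
  obtain ⟨b₀, hb₀, hb₀1⟩ := D.exists_sep_right
  have e1 : ∀ a : ↥(W₁ ⊔ W₂), (a : L) ∈ W₁ → a ≠ 1 → r a = 1 := by
    intro a ha ha1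
    have h1 := hV a b₀ ha ha1 hb₀ hb₀1
    have h2 := hV (a * a) b₀ (W₁.mul_mem ha ha) (D.sq_ne_one ha1) hb₀ hb₀1
    rw [hmul, ← h1, mul_assoc] at h2
    exact mul_eq_right₀ (mul_ne_zero (hr0 _) (hr0 _)) |>.1 h2
  have e2 : ∀ b : ↥(W₁ ⊔ W₂), (b : L) ∈ W₂ → b ≠ 1 → r b = 1 := by
    intro b hb hb1
    have h1 := hV a₀ b ha₀ ha₀1 hb hb1
    have h2 := hV a₀ (b * b) ha₀ ha₀1 (W₂.mul_mem hb hb) (D.sq_ne_one hb1)
    rw [hmul, ← h1, e1 a₀ ha₀ ha₀1, one_mul, one_mul] at h2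
    exact mul_eq_left₀ (hr0 b) |>.1 h2
  have he : e = 1 := by
    rw [← hV a₀ b₀ ha₀ ha₀1 hb₀ hb₀1, e1 a₀ ha₀ ha₀1, e2 b₀ hb₀ hb₀1, one_mul]
  refine ⟨scyc_hom_ext D.scyc (fun w hw => ?_) (fun w hw => ?_), he⟩
  · by_cases hw1 : w = 1
    · simp [hw1]
    · have := e1 w hw hw1
      rw [hr, div_eq_one_iff_eq (Units.ne_zero _)] at this
      exact Units.ext this
  · by_cases hw1 : w = 1
    · simp [hw1]
    · have := e2 w hw hw1
      rw [hr, div_eq_one_iff_eq (Units.ne_zero _)] at this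
      exact Units.ext this

/-- A signed irreducible agreeing with a linear character on `V` is the family member. -/
theorem eq_family (D : SplitData K W₁ W₂) {χ : (↥(W₁ ⊔ W₂) →* ℂˣ) → (L → ℂ)}
    (hχ : Cfsg.IsCyclicTIFamily W₁ W₂ χ) {θ : L → ℂ} (hθ : IsSigned θ) {ω : ↥(W₁ ⊔ W₂) →* ℂˣ}
    (hV : ∀ w : ↥(W₁ ⊔ W₂), (w : L) ∈ vSet W₁ W₂ → θ w = (ω w : ℂ)) : θ = χ ω := by
  classical
  have hon : ∀ ω' (w : ↥(W₁ ⊔ W₂)), (w : L) ∈ vSet W₁ W₂ → χ ω' w = (ω' w : ℂ) :=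
    fun ω' w hw => hχ.eq_on ω' w hw.2.1 hw.2.2
  obtain ⟨a₀, ha₀, ha₀1⟩ := D.exists_sep_left
  obtain ⟨b₀, hb₀, hb₀1⟩ := D.exists_sep_right
  have hw₀ := D.mul_mem_vSet ha₀ ha₀1 hb₀ hb₀1
  obtain ⟨ω', hω'⟩ : ∃ ω', Cfsg.classInner θ (χ ω') ≠ 0 := by
    by_contra hcon
    push Not at hcon
    have := family_orth_vanish D.scyc hχ (CT.isClassFunction_of_isGen (isSigned_isGen hθ)) hcon hw₀
    rw [hV _ hw₀] at this
    exact Units.ne_zero _ this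
  obtain h | ⟨e, -, -, rfl⟩ := isSigned_inner hθ (hχ.irr_or_neg ω')
  · exact absurd h hω'
  obtain ⟨rfl, rfl⟩ := D.lin_eq_of_sign (ω := ω) (ω' := ω') (e := e) fun w hw => by
    rw [← hV w hw, Pi.smul_apply, smul_eq_mul, hon ω' w hw]
  rw [one_smul]

theorem main (D : SplitData K W₁ W₂) {χ : (↥(W₁ ⊔ W₂) →* ℂˣ) → (L → ℂ)}
    (hχ : Cfsg.IsCyclicTIFamily W₁ W₂ χ) :
    ∃ (μ : (↥(W₁ ⊔ W₂) →* ℂˣ) → (L → ℂ)) (δ : (↥(W₁ ⊔ W₂) →* ℂˣ) → ℂ), Function.Injective μ ∧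
      (∀ ω, Cfsg.IsIrrCharacter L (μ ω)) ∧ (∀ ω, δ ω = 1 ∨ δ ω = -1) ∧
      (∀ ω ω' : ↥(W₁ ⊔ W₂) →* ℂˣ, (∀ w : ↥(W₁ ⊔ W₂), (w : L) ∈ W₂ → ω w = ω' w) → δ ω = δ ω' ∧
        Cfsg.indFun (W₁ ⊔ W₂) (fun w => (ω w : ℂ) - (ω' w : ℂ)) = δ ω • (μ ω - μ ω')) ∧
      (∀ ω, ∀ w : ↥(W₁ ⊔ W₂), (w : L) ∉ W₂ → μ ω w = δ ω * (ω w : ℂ)) ∧
      (∀ θ : L → ℂ, Cfsg.IsIrrCharacter L θ → (∀ ω, θ ≠ μ ω) →
        ∀ w : ↥(W₁ ⊔ W₂), (w : L) ∉ W₂ → θ w = 0) ∧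
      (∀ ω, ∃ n : ℤ, μ ω 1 - δ ω = n * (Nat.card W₁ : ℂ)) := by
  classical
  haveI : Fintype ↥(W₁ ⊔ W₂) := Fintype.ofFinite _
  haveI : Fintype W₁ := Fintype.ofFinite _
  haveI := scyc_finite_dual (W₁ := W₁) (W₂ := W₂)
  choose Φ Ψ hΦ hΨ hdec using scyc_hom_decomp D.scyc
  choose l hlK hlW using fun ω => D.exists_ext (hΦ ω)
  have hs : ∀ ω, IsSigned (χ ω) := hχ.irr_or_neg
  have hlmul : ∀ ω, χ ω = fun x => (l ω x : ℂ) * χ (Ψ ω) x := by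
    intro ω
    refine (D.eq_family hχ ?_ ?_).symm
    · rcases hs (Ψ ω) with h | h
      · exact Or.inl (CT.SmallDeg.isIrr_lin_mul _ h)
      · refine Or.inr ?_
        have := CT.SmallDeg.isIrr_lin_mul (l ω) h
        convert this using 1
        funext x
        simp
    · intro w hw
      show (l ω w : ℂ) * χ (Ψ ω) w = _
      rw [hlW, hχ.eq_on _ w hw.2.1 hw.2.2]
      conv_rhs => rw [hdec ω]
      rw [MonoidHom.mul_apply, Units.val_mul]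
  have hl1 : ∀ ω, χ ω 1 = χ (Ψ ω) 1 := fun ω => by rw [hlmul ω]; simp
  -- value one on the Hall subgroup
  have hψone : ∀ ψ : ↥(W₁ ⊔ W₂) →* ℂˣ, TrivOn W₁ ψ → ∀ a : ↥(W₁ ⊔ W₂), (a : L) ∈ W₁ → a ≠ 1 →
      χ ψ a = 1 := by
    intro ψ hψ a ha ha1
    by_cases hψ1 : ψ = 1
    · rw [hψ1, hχ.map_one]
    obtain ⟨ω, hω⟩ := scyc_separate D.scyc ha1
    obtain ⟨φ, ψ', hφ, hψ', rfl⟩ := scyc_hom_decomp D.scyc ω
    have hφa : φ a ≠ 1 := by simpa [hψ' a ha] using hω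
    have hφ1 : φ ≠ 1 := fun e => hφa (by rw [e]; rfl)
    have ha2 : (a : L) ∉ W₂ := fun h => ha1 (Subtype.ext (by
      have h2 : (a : L) ∈ W₁ ⊓ W₂ := ⟨ha, h⟩
      rwa [D.scyc.2.2.1, Subgroup.mem_bot] at h2))
    have hz := (D.indFun_eq (f := zetaFun φ ψ) (fun w hw => suppV_zetaFun hφ hψ w (Or.inr hw))).2 a ha2
    unfold zetaFun at hz
    rw [hχ.induced_eq φ ψ hφ1 hψ1 hφ hψ, hlmul φ, hlmul (φ * ψ)] at hz
    have hΨφ : Ψ φ = 1 :=
      (scyc_prod_inj D.scyc (hΦ φ) hφ (hΨ φ) (trivOn_one' _) ((hdec φ).symm.trans (lin_mul_one φ).symm)).2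
    have hp := scyc_prod_inj D.scyc (hΦ (φ * ψ)) hφ (hΨ (φ * ψ)) hψ (hdec (φ * ψ)).symm
    rw [hΨφ, hp.2, hχ.map_one] at hz
    simp only [hlW, hp.1, hψ a ha, Units.val_one, mul_one] at hz
    have hΦφ : Φ φ = φ :=
      (scyc_prod_inj D.scyc (hΦ φ) hφ (hΨ φ) (trivOn_one' _) ((hdec φ).symm.trans (lin_mul_one φ).symm)).1
    rw [hΦφ] at hz
    have hne : (φ a : ℂ) ≠ 1 := fun e => hφa (Units.ext e)
    have hprod : (1 - (φ a : ℂ)) * (1 - χ ψ a) = 0 := by linear_combination hz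
    rcases mul_eq_zero.1 hprod with h | h
    · exact absurd (sub_eq_zero.1 h).symm hne
    · exact (sub_eq_zero.1 h).symm
  have hval : ∀ ω, ∀ w : ↥(W₁ ⊔ W₂), (w : L) ∉ W₂ → χ ω w = (ω w : ℂ) := by
    intro ω w hw
    by_cases hw1 : (w : L) ∈ W₁
    · rw [hlmul ω]
      show (l ω w : ℂ) * χ (Ψ ω) w = _
      rw [hlW, hψone _ (hΨ ω) w hw1 (fun e => hw (e ▸ W₂.one_mem))]
      conv_rhs => rw [hdec ω]
      rw [MonoidHom.mul_apply, hΨ ω w hw1, mul_one, mul_one]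
    · exact hχ.eq_on ω w hw1 hw
  -- signs and the irreducibles
  choose μ δ hμ hδ hχμ using fun ω => isSigned_exists (hs ω)
  have hχμ' : ∀ ω, μ ω = δ ω • χ ω := fun ω => by
    rw [hχμ ω, smul_smul]
    rcases hδ ω with e | e <;> simp [e]
  have hδeq : ∀ ω ω', χ ω 1 = χ ω' 1 → δ ω = δ ω' := by
    intro ω ω' h
    obtain ⟨n, hn⟩ := CT.exists_degree (CT.isCharacter_of_isIrr (hμ ω))
    obtain ⟨m, hm⟩ := CT.exists_degree (CT.isCharacter_of_isIrr (hμ ω'))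
    have hn0 : n ≠ 0 := fun e => CT.irr_one_ne_zero (hμ ω) (by rw [hn, e, Nat.cast_zero])
    rw [hχμ ω, hχμ ω', Pi.smul_apply, Pi.smul_apply, hn, hm, smul_eq_mul, smul_eq_mul] at h
    rcases hδ ω with e | e <;> rcases hδ ω' with e' | e' <;> rw [e, e'] at h ⊢
    all_goals
      exfalso
      have h' : ((n + m : ℕ) : ℂ) = 0 := by
        push_cast
        first | linear_combination h | linear_combination -h
      have := Nat.cast_eq_zero.1 h'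
      omega
  have hμinj : Function.Injective μ := by
    intro ω ω' h
    by_contra hne
    have h0 := hχ.orthonormal ω ω'
    rw [if_neg hne, hχμ ω, hχμ ω', CT.classInner_smul_left, CT.classInner_smul_right, h,
      CT.irr_inner_self (hμ ω')] at h0
    rcases hδ ω with e | e <;> rcases hδ ω' with e' | e' <;> simp [e, e'] at h0
  refine ⟨μ, δ, hμinj, hμ, hδ, ?_, ?_, ?_, ?_⟩
  · intro ω ω' hres
    have hΨeq : Ψ ω = Ψ ω' := scyc_hom_ext D.scyc (fun w hw => by rw [hΨ ω w hw, hΨ ω' w hw])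
      (fun w hw => by
        have := hres w hw
        rwa [hdec ω, hdec ω', MonoidHom.mul_apply, MonoidHom.mul_apply, hΦ ω w hw, hΦ ω' w hw, one_mul,
          one_mul] at this)
    have hd : δ ω = δ ω' := hδeq _ _ (by rw [hl1, hl1 ω', hΨeq])
    refine ⟨hd, ?_⟩
    have hf : ∀ w : ↥(W₁ ⊔ W₂), (w : L) ∈ W₂ → (ω w : ℂ) - (ω' w : ℂ) = 0 := fun w hw => by
      rw [hres w hw, sub_self]
    obtain ⟨i1, i2⟩ := D.indFun_eq hf
    have he : δ ω • (μ ω - μ ω') = χ ω - χ ω' := by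
      rw [smul_sub, hd, ← hχμ ω', ← hd, ← hχμ ω]
    rw [he]
    refine D.eq_of_eq_on (CT.isClassFunction_indFun _ _) ?_ (fun x hx => ?_) (fun w hw => ?_)
    · intro g h
      simp only [Pi.sub_apply]
      rw [CT.isClassFunction_of_isGen (isSigned_isGen (hs ω)) g h,
        CT.isClassFunction_of_isGen (isSigned_isGen (hs ω')) g h]
    · rw [i1 x hx, Pi.sub_apply, hlmul ω, hlmul ω', hΨeq]
      simp [hlK ω x hx, hlK ω' x hx]
    · rw [i2 w hw, Pi.sub_apply, hval ω w hw, hval ω' w hw]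
  · intro ω w hw
    rw [hχμ' ω, Pi.smul_apply, smul_eq_mul, hval ω w hw]
  · intro θ hθ hne w hw
    have horth : ∀ ω, Cfsg.classInner θ (χ ω) = 0 := fun ω => by
      rw [hχμ ω, CT.classInner_smul_right, CT.irr_inner hθ (hμ ω), if_neg (hne ω), mul_zero]
    by_cases hw1 : (w : L) ∈ W₁
    swap
    · exact family_orth_vanish D.scyc hχ (CT.isClassFunction_of_isIrr hθ) horth ⟨w.2, hw1, hw⟩
    -- inversion on the Hall subgroup
    haveI : Fintype (↥(W₁ ⊔ W₂) →* ℂˣ) := Fintype.ofFinite _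
    let h : ↥(W₁ ⊔ W₂) → ℂ := fun u => if (u : L) ∈ W₂ then 0 else θ u
    have hc : ∀ φ ψ : ↥(W₁ ⊔ W₂) →* ℂˣ, TrivOn W₂ φ →
        Cfsg.classInner h (fun u => ((φ * ψ) u : ℂ)) = Cfsg.classInner h (fun u => (ψ u : ℂ)) := by
      intro φ ψ hφ
      have hres : ∀ u : ↥(W₁ ⊔ W₂), (u : L) ∈ W₂ → (φ * ψ) u = ψ u := fun u hu => by
        rw [MonoidHom.mul_apply, hφ u hu, one_mul]
      have hΨeq : Ψ (φ * ψ) = Ψ ψ := scyc_hom_ext D.scyc (fun u hu => by rw [hΨ _ u hu, hΨ _ u hu])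
        (fun u hu => by
          have := hres u hu
          conv_lhs at this => rw [hdec (φ * ψ)]
          conv_rhs at this => rw [hdec ψ]
          rwa [MonoidHom.mul_apply, MonoidHom.mul_apply, hΦ _ u hu, hΦ _ u hu, one_mul, one_mul] at this)
      let f : ↥(W₁ ⊔ W₂) → ℂ := fun u => ((φ * ψ) u : ℂ) - (ψ u : ℂ)
      have hf : ∀ u : ↥(W₁ ⊔ W₂), (u : L) ∈ W₂ → f u = 0 := fun u hu => by
        simp only [f, hres u hu, sub_self]
      obtain ⟨i1, i2⟩ := D.indFun_eq hf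
      have hind : Cfsg.indFun (W₁ ⊔ W₂) f = χ (φ * ψ) - χ ψ := by
        refine D.eq_of_eq_on (CT.isClassFunction_indFun _ _) ?_ (fun x hx => ?_) (fun u hu => ?_)
        · intro g t
          simp only [Pi.sub_apply]
          rw [CT.isClassFunction_of_isGen (isSigned_isGen (hs (φ * ψ))) g t,
            CT.isClassFunction_of_isGen (isSigned_isGen (hs ψ)) g t]
        · rw [i1 x hx, Pi.sub_apply, hlmul (φ * ψ), hlmul ψ, hΨeq]
          simp [hlK (φ * ψ) x hx, hlK ψ x hx]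
        · rw [i2 u hu, Pi.sub_apply, hval _ u hu, hval ψ u hu]
      have h1 := CT.frobenius_reciprocity' (H := W₁ ⊔ W₂) (CT.isClassFunction_of_isIrr hθ) f
      rw [hind, CT.classInner_sub_right, horth, horth, sub_zero] at h1
      have h2 : Cfsg.classInner h f = Cfsg.classInner (fun u : ↥(W₁ ⊔ W₂) => θ u) f := by
        unfold Cfsg.classInner
        congr 1
        refine Finset.sum_congr rfl fun u _ => ?_
        by_cases hu : (u : L) ∈ W₂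
        · simp [hf u hu]
        · simp [h, hu]
      have h3 : Cfsg.classInner h f = 0 := h2.trans h1.symm
      have hfd : f = (fun u => ((φ * ψ) u : ℂ)) - fun u => (ψ u : ℂ) := rfl
      rw [hfd, CT.classInner_sub_right] at h3
      exact sub_eq_zero.1 h3
    have hinv := scyc_inversion D.scyc h w
    obtain ⟨ω₀, hω₀⟩ := scyc_separate D.scyc (x := w) (fun e => hw (e ▸ W₂.one_mem))
    obtain ⟨φ₀, ψ₀, hφ₀, hψ₀, rfl⟩ := scyc_hom_decomp D.scyc ω₀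
    have hφ₀w : (φ₀ w : ℂ) ≠ 1 := fun e => hω₀ (by simp [hψ₀ w hw1, (Units.ext (e.trans Units.val_one.symm) : φ₀ w = 1)])
    have hsum : (φ₀ w : ℂ) * ∑ ω : ↥(W₁ ⊔ W₂) →* ℂˣ, Cfsg.classInner h (fun u => (ω u : ℂ)) * (ω w : ℂ) =
        ∑ ω : ↥(W₁ ⊔ W₂) →* ℂˣ, Cfsg.classInner h (fun u => (ω u : ℂ)) * (ω w : ℂ) := by
      rw [Finset.mul_sum]
      refine Fintype.sum_equiv (Equiv.mulLeft φ₀) _ _ fun ω => ?_
      simp only [Equiv.coe_mulLeft]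
      rw [hc φ₀ ω hφ₀, MonoidHom.mul_apply, Units.val_mul]
      ring
    rw [← hinv] at hsum
    have hh : h w = θ w := if_neg hw
    have h4 : ((φ₀ w : ℂ) - 1) * h w = 0 := by linear_combination hsum
    rw [hh] at h4
    exact (mul_eq_zero.1 h4).resolve_left (sub_ne_zero.2 hφ₀w)
  · intro ω
    have hg : Cfsg.IsGeneralizedCharacter W₁
        ((fun a : W₁ => χ (Ψ ω) a) - fun a : W₁ => ((1 : W₁ →* ℂˣ) a : ℂ)) :=
      CT.isGen_sub (CT.isGen_restrict W₁ (isSigned_isGen (hs _)))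
        (CT.isGen_of_isIrr (CT.isIrrCharacter_lin 1))
    obtain ⟨n, hn⟩ := CT.isGen_inner_int hg (CT.isGen_of_isIrr (CT.isIrrCharacter_lin (1 : W₁ →* ℂˣ)))
    have hsum : Cfsg.classInner ((fun a : W₁ => χ (Ψ ω) a) - fun a : W₁ => ((1 : W₁ →* ℂˣ) a : ℂ))
        (fun a : W₁ => ((1 : W₁ →* ℂˣ) a : ℂ)) = (Nat.card W₁ : ℂ)⁻¹ * (χ (Ψ ω) 1 - 1) := by
      unfold Cfsg.classInner
      rw [Finset.sum_eq_single (1 : W₁)]
      · simp [Nat.card_eq_fintype_card]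
      · intro a _ ha
        have h1 := hψone (Ψ ω) (hΨ ω) ⟨a, Subgroup.mem_sup_left a.2⟩ a.2
          (fun e => ha (Subtype.ext (congrArg (fun t : ↥(W₁ ⊔ W₂) => (t : L)) e)))
        simp only [Pi.sub_apply, MonoidHom.one_apply, Units.val_one]
        rw [show χ (Ψ ω) (a : L) = 1 from h1]
        simp
      · simp
    rw [hsum] at hn
    have hne : (Nat.card W₁ : ℂ) ≠ 0 := Nat.cast_ne_zero.2 Nat.card_pos.ne'
    have h5 : χ (Ψ ω) 1 - 1 = n * (Nat.card W₁ : ℂ) := by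
      rw [← hn]
      field_simp
    rcases hδ ω with e | e
    · exact ⟨n, by rw [hχμ' ω, e, Pi.smul_apply, one_smul, hl1 ω, h5]⟩
    · exact ⟨-n, by
        rw [hχμ' ω, e, Pi.smul_apply, hl1 ω, smul_eq_mul]
        push_cast
        linear_combination -h5⟩
where
  trivOn_one' (S : Subgroup L) : TrivOn S (1 : ↥(W₁ ⊔ W₂) →* ℂˣ) := fun _ _ => rfl

end SplitData

end Cfsg.Agent.OddChar
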