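import Cfsg.Agent.Lib.OddChar.CyclicW

/-! Consequences of the existence of a cyclic TI family. -/

namespace Cfsg.Agent.OddChar

open scoped ComplexConjugate

universe u

variable {G : Type u} [Group G] [Fintype G] {W₁ W₂ : Subgroup G}

omit [Fintype G] in
theorem lin_one_mul (ψ : ↥(W₁ ⊔ W₂) →* ℂˣ) : 1 * ψ = ψ := MonoidHom.ext fun _ => one_mul _

omit [Fintype G] in
theorem lin_mul_one (ψ : ↥(W₁ ⊔ W₂) →* ℂˣ) : ψ * 1 = ψ := MonoidHom.ext fun _ => mul_one _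

/-- A class function vanishing on `V` has additively separated coefficients. -/
theorem family_coeff_add (hW : Cfsg.IsSelfNormalizingCyclic W₁ W₂)
    {χ : (↥(W₁ ⊔ W₂) →* ℂˣ) → (G → ℂ)} (hχ : Cfsg.IsCyclicTIFamily W₁ W₂ χ)
    {θ : G → ℂ} (hθ : Cfsg.IsClassFunction G θ)
    (hV : ∀ w : ↥(W₁ ⊔ W₂), (w : G) ∈ vSet W₁ W₂ → θ w = 0)
    {φ ψ : ↥(W₁ ⊔ W₂) →* ℂˣ} (hφ : TrivOn W₂ φ) (hψ : TrivOn W₁ ψ) :
    Cfsg.classInner θ (χ (φ * ψ)) =
      Cfsg.classInner θ (χ φ) + Cfsg.classInner θ (χ ψ) - Cfsg.classInner θ (χ 1) := by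
  classical
  haveI : Fintype ↥(W₁ ⊔ W₂) := Fintype.ofFinite _
  rcases eq_or_ne φ 1 with rfl | hφ1
  · rw [lin_one_mul]; ring
  rcases eq_or_ne ψ 1 with rfl | hψ1
  · rw [lin_mul_one]; ring
  have h0 := classInner_ind_suppV (suppV_zetaFun hφ hψ) hθ (g := 0) hV
  rw [CT.classInner_zero_right] at h0
  unfold zetaFun at h0
  rw [hχ.induced_eq φ ψ hφ1 hψ1 hφ hψ] at h0
  have h1 : Cfsg.classInner θ (fun g => 1 - χ φ g - χ ψ g + χ (φ * ψ) g) = 0 := by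
    rw [← CT.classInner_conj_symm, h0, map_zero]
  have he : (fun g => 1 - χ φ g - χ ψ g + χ (φ * ψ) g) =
      χ 1 - χ φ - χ ψ + χ (φ * ψ) := by
    funext g
    simp [hχ.map_one]
  rw [he, CT.classInner_add_right, CT.classInner_sub_right, CT.classInner_sub_right] at h1
  linear_combination h1

/-- A class function orthogonal to the whole family vanishes on `V`. -/
theorem family_orth_vanish (hW : Cfsg.IsSelfNormalizingCyclic W₁ W₂)
    {χ : (↥(W₁ ⊔ W₂) →* ℂˣ) → (G → ℂ)} (hχ : Cfsg.IsCyclicTIFamily W₁ W₂ χ)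
    {θ : G → ℂ} (hθ : Cfsg.IsClassFunction G θ) (horth : ∀ ω, Cfsg.classInner θ (χ ω) = 0)
    {w : ↥(W₁ ⊔ W₂)} (hw : (w : G) ∈ vSet W₁ W₂) : θ w = 0 := by
  classical
  haveI : Fintype ↥(W₁ ⊔ W₂) := Fintype.ofFinite _
  haveI := scyc_finite_dual (W₁ := W₁) (W₂ := W₂)
  haveI : Fintype (↥(W₁ ⊔ W₂) →* ℂˣ) := Fintype.ofFinite _
  let h : ↥(W₁ ⊔ W₂) → ℂ := fun u => if (u : G) ∈ vSet W₁ W₂ then θ u else 0
  let c : (↥(W₁ ⊔ W₂) →* ℂˣ) → ℂ := fun ω => Cfsg.classInner h (fun u => (ω u : ℂ))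
  have hc : ∀ φ ψ : ↥(W₁ ⊔ W₂) →* ℂˣ, TrivOn W₂ φ → TrivOn W₁ ψ →
      c (φ * ψ) = c φ + c ψ - c 1 := by
    intro φ ψ hφ hψ
    rcases eq_or_ne φ 1 with rfl | hφ1
    · rw [lin_one_mul]; ring
    rcases eq_or_ne ψ 1 with rfl | hψ1
    · rw [lin_mul_one]; ring
    have h0 := classInner_ind_suppV (suppV_zetaFun hφ hψ) hθ (g := h) (fun u hu => (if_pos hu).symm)
    have h1 : Cfsg.classInner (Cfsg.indFun (W₁ ⊔ W₂) (zetaFun φ ψ)) θ = 0 := by
      unfold zetaFun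
      rw [hχ.induced_eq φ ψ hφ1 hψ1 hφ hψ, ← CT.classInner_conj_symm]
      have he : (fun g => 1 - χ φ g - χ ψ g + χ (φ * ψ) g) = χ 1 - χ φ - χ ψ + χ (φ * ψ) := by
        funext g
        simp [hχ.map_one]
      rw [he, CT.classInner_add_right, CT.classInner_sub_right, CT.classInner_sub_right, horth, horth,
        horth, horth]
      simp
    rw [h1, zetaFun_eq] at h0
    have h2 : Cfsg.classInner h ((fun w => ((1 : ↥(W₁ ⊔ W₂) →* ℂˣ) w : ℂ)) - (fun w => (φ w : ℂ)) -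
        (fun w => (ψ w : ℂ)) + fun w => ((φ * ψ) w : ℂ)) = 0 := by
      rw [← CT.classInner_conj_symm, ← h0, map_zero]
    rw [CT.classInner_add_right, CT.classInner_sub_right, CT.classInner_sub_right] at h2
    show Cfsg.classInner h _ = Cfsg.classInner h _ + Cfsg.classInner h _ - Cfsg.classInner h _
    linear_combination h2
  let P₁ := (Finset.univ : Finset (↥(W₁ ⊔ W₂) →* ℂˣ)).filter (TrivOn W₂)
  let P₂ := (Finset.univ : Finset (↥(W₁ ⊔ W₂) →* ℂˣ)).filter (TrivOn W₁)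
  have hsum : ∑ ω : ↥(W₁ ⊔ W₂) →* ℂˣ, c ω * (ω w : ℂ) =
      ∑ p ∈ P₁ ×ˢ P₂, c (p.1 * p.2) * ((p.1 w : ℂ) * (p.2 w : ℂ)) := by
    refine (Finset.sum_bij (fun p _ => p.1 * p.2) (fun p _ => Finset.mem_univ _) ?_ ?_ ?_).symm
    · intro p hp q hq he
      simp only [P₁, P₂, Finset.mem_product, Finset.mem_filter, Finset.mem_univ, true_and] at hp hq
      obtain ⟨e1, e2⟩ := scyc_prod_inj hW hp.1 hq.1 hp.2 hq.2 he
      exact Prod.ext e1 e2
    · intro ω _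
      obtain ⟨φ, ψ, hφ, hψ, rfl⟩ := scyc_hom_decomp hW ω
      exact ⟨(φ, ψ), by simp [P₁, P₂, hφ, hψ], rfl⟩
    · intro p _
      simp
  obtain ⟨a, b, ha, hb, hab⟩ := scyc_decomp hW w
  have hz1 : ∑ φ ∈ P₁, (φ w : ℂ) = 0 := by
    obtain ⟨ω, hω⟩ := scyc_separate hW (x := a) (fun e => hw.2.2 (by rw [hab, e, one_mul]; exact hb))
    obtain ⟨φ, ψ, hφ, hψ, rfl⟩ := scyc_hom_decomp hW ω
    have hne : φ w ≠ 1 := by
      rw [hab, map_mul, hφ b hb, mul_one]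
      simpa [hψ a ha] using hω
    refine eq_zero_of_mul_eq_self_left (b := (φ w : ℂ)) (fun e => hne (Units.ext e)) ?_
    rw [Finset.mul_sum]
    refine Finset.sum_equiv (Equiv.mulLeft φ) (fun α => ?_) (fun α _ => by simp)
    simp only [P₁, Finset.mem_filter, Finset.mem_univ, true_and, Equiv.coe_mulLeft]
    exact ⟨fun h u hu => by simp [hφ u hu, h u hu], fun h u hu => by simpa [hφ u hu] using h u hu⟩
  have hz2 : ∑ ψ ∈ P₂, (ψ w : ℂ) = 0 := by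
    obtain ⟨ω, hω⟩ := scyc_separate hW (x := b) (fun e => hw.2.1 (by rw [hab, e, mul_one]; exact ha))
    obtain ⟨φ, ψ, hφ, hψ, rfl⟩ := scyc_hom_decomp hW ω
    have hne : ψ w ≠ 1 := by
      rw [hab, map_mul, hψ a ha, one_mul]
      simpa [hφ b hb] using hω
    refine eq_zero_of_mul_eq_self_left (b := (ψ w : ℂ)) (fun e => hne (Units.ext e)) ?_
    rw [Finset.mul_sum]
    refine Finset.sum_equiv (Equiv.mulLeft ψ) (fun α => ?_) (fun α _ => by simp)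
    simp only [P₂, Finset.mem_filter, Finset.mem_univ, true_and, Equiv.coe_mulLeft]
    exact ⟨fun h u hu => by simp [hψ u hu, h u hu], fun h u hu => by simpa [hψ u hu] using h u hu⟩
  have hinv := scyc_inversion hW h w
  rw [show (∑ ω : ↥(W₁ ⊔ W₂) →* ℂˣ, Cfsg.classInner h (fun u => (ω u : ℂ)) * (ω w : ℂ)) =
      ∑ ω : ↥(W₁ ⊔ W₂) →* ℂˣ, c ω * (ω w : ℂ) from rfl, hsum] at hinv
  rw [Finset.sum_congr rfl (g := fun p : (↥(W₁ ⊔ W₂) →* ℂˣ) × (↥(W₁ ⊔ W₂) →* ℂˣ) =>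
    (c p.1 * (p.1 w : ℂ)) * (p.2 w : ℂ) + (p.1 w : ℂ) * (c p.2 * (p.2 w : ℂ)) -
      c 1 * (p.1 w : ℂ) * (p.2 w : ℂ)) (fun p hp => by
    simp only [P₁, P₂, Finset.mem_product, Finset.mem_filter, Finset.mem_univ, true_and] at hp
    rw [hc _ _ hp.1 hp.2]; ring)] at hinv
  rw [Finset.sum_sub_distrib, Finset.sum_add_distrib, Finset.sum_product, Finset.sum_product,
    Finset.sum_product] at hinv
  simp only [← Finset.mul_sum, hz2, mul_zero, ← Finset.sum_mul, hz1, zero_mul, Finset.sum_const_zero,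
    add_zero, sub_zero] at hinv
  rw [← hinv]
  exact (if_pos hw).symm

end Cfsg.Agent.OddChar
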