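import Cfsg.Prelude.Def_OddOrderChar
import Cfsg.Prelude.Def_OddOrderLocal
import Cfsg.Agent.Lib.CT.Induced

/-! Linear characters of a self-normalising cyclic subgroup `W₁ × W₂`. -/

namespace Cfsg.Agent.OddChar

open scoped ComplexConjugate

universe u

variable {G : Type u} [Group G] {W₁ W₂ : Subgroup G}

/-- The function `(1 - φ)(1 - ψ)` in expanded form. -/
noncomputable def zetaFun (φ ψ : ↥(W₁ ⊔ W₂) →* ℂˣ) : ↥(W₁ ⊔ W₂) → ℂ :=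
  fun w => 1 - (φ w : ℂ) - (ψ w : ℂ) + (φ w : ℂ) * (ψ w : ℂ)

/-- A homomorphism trivial on the elements of `W`. -/
def TrivOn (K : Subgroup G) (φ : ↥(W₁ ⊔ W₂) →* ℂˣ) : Prop :=
  ∀ w : ↥(W₁ ⊔ W₂), (w : G) ∈ K → φ w = 1

theorem scyc_commute (hW : Cfsg.IsSelfNormalizingCyclic W₁ W₂) (x y : ↥(W₁ ⊔ W₂)) :
    Commute x y := by
  haveI := hW.2.2.2.2.1
  exact mul_comm' x y

theorem scyc_decomp (hW : Cfsg.IsSelfNormalizingCyclic W₁ W₂) (w : ↥(W₁ ⊔ W₂)) :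
    ∃ a b : ↥(W₁ ⊔ W₂), (a : G) ∈ W₁ ∧ (b : G) ∈ W₂ ∧ w = a * b := by
  obtain ⟨-, -, -, hc, -, -⟩ := hW
  have hn : W₁ ≤ Subgroup.normalizer (W₂ : Set G) := by
    intro a ha
    rw [Subgroup.mem_normalizer_iff]
    intro b
    refine ⟨fun hb => by rwa [hc a ha b hb, mul_inv_cancel_right], fun hb => ?_⟩
    have := hc a ha _ hb
    have hab : a * b * a⁻¹ = b := by
      calc a * b * a⁻¹ = a⁻¹ * (a * (a * b * a⁻¹)) := by group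
        _ = a⁻¹ * ((a * b * a⁻¹) * a) := by rw [this]
        _ = b := by group
    rwa [hab] at hb
  have hw : (w : G) ∈ W₁ ⊔ W₂ := w.2
  rw [← SetLike.mem_coe, Subgroup.coe_mul_of_left_le_normalizer_right _ _ hn] at hw
  obtain ⟨a, ha, b, hb, he⟩ := hw
  exact ⟨⟨a, Subgroup.mem_sup_left ha⟩, ⟨b, Subgroup.mem_sup_right hb⟩, ha, hb, Subtype.ext he.symm⟩

theorem scyc_decomp_unique (hW : Cfsg.IsSelfNormalizingCyclic W₁ W₂) {a b a' b' : G}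
    (ha : a ∈ W₁) (hb : b ∈ W₂) (ha' : a' ∈ W₁) (hb' : b' ∈ W₂) (h : a * b = a' * b') :
    a = a' ∧ b = b' := by
  have h1 : a'⁻¹ * a = b' * b⁻¹ := by
    calc a'⁻¹ * a = a'⁻¹ * (a * b) * b⁻¹ := by group
      _ = _ := by rw [h]; group
  have h2 : a'⁻¹ * a ∈ W₁ ⊓ W₂ :=
    Subgroup.mem_inf.mpr ⟨W₁.mul_mem (W₁.inv_mem ha') ha, h1 ▸ W₂.mul_mem hb' (W₂.inv_mem hb)⟩
  rw [hW.2.2.1, Subgroup.mem_bot] at h2
  exact ⟨(inv_mul_eq_one.mp h2).symm, (mul_inv_eq_one.mp (h1.symm.trans h2)).symm⟩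

/-- The projection onto the first factor, as an endomorphism. -/
theorem scyc_exists_proj (hW : Cfsg.IsSelfNormalizingCyclic W₁ W₂) :
    ∃ π : ↥(W₁ ⊔ W₂) →* ↥(W₁ ⊔ W₂), ∀ a b : ↥(W₁ ⊔ W₂), (a : G) ∈ W₁ → (b : G) ∈ W₂ →
      π (a * b) = a := by
  classical
  choose a b ha hb hab using scyc_decomp hW
  have huniq : ∀ w x y : ↥(W₁ ⊔ W₂), (x : G) ∈ W₁ → (y : G) ∈ W₂ → w = x * y → a w = x := by
    intro w x y hx hy hxy
    refine Subtype.ext (scyc_decomp_unique hW (ha w) (hb w) hx hy ?_).1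
    exact congrArg Subtype.val ((hab w).symm.trans hxy)
  refine ⟨MonoidHom.mk' a fun v w => ?_, fun x y hx hy => huniq _ x y hx hy rfl⟩
  refine huniq _ _ (b v * b w) (W₁.mul_mem (ha v) (ha w)) (W₂.mul_mem (hb v) (hb w)) ?_
  rw [mul_assoc, ← mul_assoc (a w), (scyc_commute hW (a w) (b v)).eq, mul_assoc, ← mul_assoc (a v),
    ← hab v, ← hab w]

theorem scyc_hom_ext (hW : Cfsg.IsSelfNormalizingCyclic W₁ W₂) {α β : ↥(W₁ ⊔ W₂) →* ℂˣ}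
    (h1 : ∀ w : ↥(W₁ ⊔ W₂), (w : G) ∈ W₁ → α w = β w)
    (h2 : ∀ w : ↥(W₁ ⊔ W₂), (w : G) ∈ W₂ → α w = β w) : α = β := by
  ext1 w
  obtain ⟨a, b, ha, hb, rfl⟩ := scyc_decomp hW w
  rw [map_mul, map_mul, h1 a ha, h2 b hb]

/-- Every linear character is uniquely a product of one trivial on `W₂` and one trivial on `W₁`. -/
theorem scyc_hom_decomp (hW : Cfsg.IsSelfNormalizingCyclic W₁ W₂) (ω : ↥(W₁ ⊔ W₂) →* ℂˣ) :
    ∃ φ ψ : ↥(W₁ ⊔ W₂) →* ℂˣ, TrivOn W₂ φ ∧ TrivOn W₁ ψ ∧ ω = φ * ψ := by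
  obtain ⟨π, hπ⟩ := scyc_exists_proj hW
  have h1 : ∀ b : ↥(W₁ ⊔ W₂), (b : G) ∈ W₂ → π b = 1 := fun b hb => by
    simpa using hπ 1 b W₁.one_mem hb
  have h2 : ∀ a : ↥(W₁ ⊔ W₂), (a : G) ∈ W₁ → π a = a := fun a ha => by
    simpa using hπ a 1 ha W₂.one_mem
  refine ⟨ω.comp π, (ω.comp π)⁻¹ * ω, fun w hw => by simp [h1 w hw], fun w hw => ?_, ?_⟩
  · simp [h2 w hw]
  · ext1 w
    simp

theorem scyc_prod_inj (hW : Cfsg.IsSelfNormalizingCyclic W₁ W₂) {φ φ' ψ ψ' : ↥(W₁ ⊔ W₂) →* ℂˣ}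
    (hφ : TrivOn W₂ φ) (hφ' : TrivOn W₂ φ') (hψ : TrivOn W₁ ψ) (hψ' : TrivOn W₁ ψ')
    (h : φ * ψ = φ' * ψ') : φ = φ' ∧ ψ = ψ' := by
  constructor
  · refine scyc_hom_ext hW (fun w hw => ?_) (fun w hw => by rw [hφ w hw, hφ' w hw])
    simpa [hψ w hw, hψ' w hw] using DFunLike.congr_fun h w
  · refine scyc_hom_ext hW (fun w hw => by rw [hψ w hw, hψ' w hw]) (fun w hw => ?_)
    simpa [hφ w hw, hφ' w hw] using DFunLike.congr_fun h w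

theorem scyc_finite_dual [Finite G] : Finite (↥(W₁ ⊔ W₂) →* ℂˣ) := by
  haveI := Fintype.ofFinite ↥(W₁ ⊔ W₂)
  have h := (linearIndependent_monoidHom ↥(W₁ ⊔ W₂) ℂ).finite
  refine Finite.of_injective (fun ω => (Units.coeHom ℂ).comp ω) fun a b hab => ?_
  exact MonoidHom.ext fun w => Units.ext (DFunLike.congr_fun hab w)

theorem scyc_card_dual [Finite G] (hW : Cfsg.IsSelfNormalizingCyclic W₁ W₂) :
    Nat.card (↥(W₁ ⊔ W₂) →* ℂˣ) = Nat.card ↥(W₁ ⊔ W₂) := by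
  haveI := hW.2.2.2.2.1
  let : CommGroup ↥(W₁ ⊔ W₂) := IsCyclic.commGroup
  haveI : NeZero (Monoid.exponent ↥(W₁ ⊔ W₂) : ℂ) :=
    ⟨by exact_mod_cast Monoid.exponent_ne_zero_of_finite⟩
  exact CommGroup.card_monoidHom_of_hasEnoughRootsOfUnity _ ℂ

theorem scyc_separate [Finite G] (hW : Cfsg.IsSelfNormalizingCyclic W₁ W₂) {x : ↥(W₁ ⊔ W₂)}
    (hx : x ≠ 1) : ∃ ω : ↥(W₁ ⊔ W₂) →* ℂˣ, ω x ≠ 1 := by
  haveI := hW.2.2.2.2.1
  let : CommGroup ↥(W₁ ⊔ W₂) := IsCyclic.commGroup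
  haveI : NeZero (Monoid.exponent ↥(W₁ ⊔ W₂) : ℂ) :=
    ⟨by exact_mod_cast Monoid.exponent_ne_zero_of_finite⟩
  exact CommGroup.exists_apply_ne_one_of_hasEnoughRootsOfUnity _ ℂ hx

theorem scyc_sum_dual [Finite G] [Fintype (↥(W₁ ⊔ W₂) →* ℂˣ)]
    (hW : Cfsg.IsSelfNormalizingCyclic W₁ W₂) (x : ↥(W₁ ⊔ W₂)) [Decidable (x = 1)] :
    ∑ ω : ↥(W₁ ⊔ W₂) →* ℂˣ, (ω x : ℂ) = if x = 1 then (Nat.card ↥(W₁ ⊔ W₂) : ℂ) else 0 := by
  split_ifs with h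
  · subst h
    simp [← scyc_card_dual hW, Nat.card_eq_fintype_card]
  · obtain ⟨ω₀, h0⟩ := scyc_separate hW h
    refine eq_zero_of_mul_eq_self_left (b := (ω₀ x : ℂ)) (fun e => h0 (Units.ext e)) ?_
    rw [Finset.mul_sum]
    exact Fintype.sum_equiv (Equiv.mulLeft ω₀) _ _ fun ω => by simp

/-- Inversion formula on `W`. -/
theorem scyc_inversion [Finite G] [Fintype ↥(W₁ ⊔ W₂)] [Fintype (↥(W₁ ⊔ W₂) →* ℂˣ)]
    (hW : Cfsg.IsSelfNormalizingCyclic W₁ W₂) (h : ↥(W₁ ⊔ W₂) → ℂ) (w : ↥(W₁ ⊔ W₂)) :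
    h w = ∑ ω : ↥(W₁ ⊔ W₂) →* ℂˣ, Cfsg.classInner h (fun u => (ω u : ℂ)) * (ω w : ℂ) := by
  classical
  simp only [Cfsg.classInner, mul_assoc, ← Finset.mul_sum, Finset.sum_mul]
  rw [Finset.sum_comm]
  have key : ∀ u, ∑ ω : ↥(W₁ ⊔ W₂) →* ℂˣ, h u * (conj (ω u : ℂ) * (ω w : ℂ)) =
      if u = w then h u * (Nat.card ↥(W₁ ⊔ W₂) : ℂ) else 0 := by
    intro u
    have e : ∀ ω : ↥(W₁ ⊔ W₂) →* ℂˣ, conj (ω u : ℂ) * (ω w : ℂ) = (ω (u⁻¹ * w) : ℂ) := by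
      intro ω
      rw [map_mul, map_inv, Units.val_mul, ← CT.char_inv_eq_conj (CT.isCharacter_lin ω) u]
      simp
    simp only [e, ← Finset.mul_sum, scyc_sum_dual hW, mul_ite, mul_zero]
    by_cases huw : u = w
    · simp [huw]
    · rw [if_neg huw, if_neg fun e => huw (inv_mul_eq_one.mp e)]
  simp only [key, Finset.sum_ite_eq', Finset.mem_univ, if_true]
  field_simp

/-- The elements of `W` outside both factors. -/
def vSet (W₁ W₂ : Subgroup G) : Set G :=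
  {g | g ∈ W₁ ⊔ W₂ ∧ g ∉ W₁ ∧ g ∉ W₂}

theorem scyc_conj_fix (hW : Cfsg.IsSelfNormalizingCyclic W₁ W₂) {g x : G} (hg : g ∈ vSet W₁ W₂) :
    x ∈ W₁ ⊔ W₂ ↔ x * g = g * x := by
  have h := hW.2.2.2.2.2 {g} (fun y hy => by
    rw [Set.mem_singleton_iff] at hy
    subst hy
    exact ⟨hg.1, fun hh => hh.elim hg.2.1 hg.2.2⟩) (Set.singleton_nonempty g)
  constructor
  · intro hx
    exact congrArg Subtype.val (scyc_commute hW ⟨x, hx⟩ ⟨g, hg.1⟩).eq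
  · intro hc
    rw [← h]
    intro y
    simp only [Set.mem_singleton_iff]
    constructor
    · intro hy
      rw [hy]
      exact mul_inv_eq_of_eq_mul hc
    · intro hy
      calc y = x⁻¹ * (x * y * x⁻¹) * x := by group
        _ = x⁻¹ * g * x := by rw [hy]
        _ = g := by rw [mul_assoc, ← hc, inv_mul_cancel_left]

/-- Subgroups of a finite cyclic subgroup are invariant under its normaliser. -/
theorem scyc_normalizer_le [Finite G] {W K : Subgroup G} (hc : IsCyclic W) (hK : K ≤ W) {x : G}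
    (hx : ∀ y, y ∈ W → x * y * x⁻¹ ∈ W) : ∀ y ∈ K, x * y * x⁻¹ ∈ K := by
  classical
  intro y hy
  let σ : W →* W :=
    MonoidHom.mk' (fun z => ⟨x * z * x⁻¹, hx z z.2⟩) (fun z w => Subtype.ext (by simp [mul_assoc]))
  obtain ⟨m, hm⟩ := MonoidHom.map_cyclic σ
  have h := congrArg Subtype.val (hm ⟨y, hK hy⟩)
  simp only [σ, MonoidHom.mk'_apply, SubgroupClass.coe_zpow] at h
  rw [h]
  exact K.zpow_mem hy m

theorem scyc_conj_mem [Finite G] (hW : Cfsg.IsSelfNormalizingCyclic W₁ W₂) {g x : G}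
    (hg : g ∈ vSet W₁ W₂) (hxg : x * g * x⁻¹ ∈ vSet W₁ W₂) : x ∈ W₁ ⊔ W₂ := by
  have hWn : ∀ y, y ∈ W₁ ⊔ W₂ → x * y * x⁻¹ ∈ W₁ ⊔ W₂ := by
    intro y hy
    rw [scyc_conj_fix hW hxg]
    have := (scyc_conj_fix hW hg).mp hy
    calc x * y * x⁻¹ * (x * g * x⁻¹) = x * (y * g) * x⁻¹ := by group
      _ = x * (g * y) * x⁻¹ := by rw [this]
      _ = _ := by group
  have hWn' : ∀ y, y ∈ W₁ ⊔ W₂ → x⁻¹ * y * x⁻¹⁻¹ ∈ W₁ ⊔ W₂ := by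
    intro y hy
    rw [scyc_conj_fix hW hg]
    have := (scyc_conj_fix hW hxg).mp hy
    calc x⁻¹ * y * x⁻¹⁻¹ * g = x⁻¹ * (y * (x * g * x⁻¹)) * x := by group
      _ = x⁻¹ * (x * g * x⁻¹ * y) * x := by rw [this]
      _ = _ := by group
  have hc := hW.2.2.2.2.1
  have h1 : ∀ z : G, (∀ y, y ∈ W₁ ⊔ W₂ → z * y * z⁻¹ ∈ W₁ ⊔ W₂) → ∀ y ∈ vSet W₁ W₂,
      (∀ y, y ∈ W₁ ⊔ W₂ → z⁻¹ * y * z⁻¹⁻¹ ∈ W₁ ⊔ W₂) → z * y * z⁻¹ ∈ vSet W₁ W₂ := by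
    intro z hz y hy hz'
    refine ⟨hz y hy.1, fun h => hy.2.1 ?_, fun h => hy.2.2 ?_⟩
    · simpa [mul_assoc] using scyc_normalizer_le hc le_sup_left hz' _ h
    · simpa [mul_assoc] using scyc_normalizer_le hc le_sup_right hz' _ h
  rw [← hW.2.2.2.2.2 (vSet W₁ W₂) (fun y hy => ⟨hy.1, fun hh => hh.elim hy.2.1 hy.2.2⟩) ⟨g, hg⟩]
  intro y
  refine ⟨fun hy => h1 x hWn y hy hWn', fun hy => ?_⟩
  have := h1 x⁻¹ hWn' _ hy (by simpa using hWn)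
  simpa [mul_assoc] using this

/-- Support in `V`. -/
def SuppV (f : ↥(W₁ ⊔ W₂) → ℂ) : Prop :=
  ∀ w : ↥(W₁ ⊔ W₂), (w : G) ∈ W₁ ∨ (w : G) ∈ W₂ → f w = 0

theorem suppV_zetaFun {φ ψ : ↥(W₁ ⊔ W₂) →* ℂˣ} (hφ : TrivOn W₂ φ) (hψ : TrivOn W₁ ψ) :
    SuppV (zetaFun φ ψ) := by
  rintro w (h | h)
  · simp [zetaFun, hψ w h]
  · simp [zetaFun, hφ w h]

theorem indFun_on_V [Fintype G] (hW : Cfsg.IsSelfNormalizingCyclic W₁ W₂) {f : ↥(W₁ ⊔ W₂) → ℂ}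
    (hf : SuppV f) {w : ↥(W₁ ⊔ W₂)} (hw : (w : G) ∈ vSet W₁ W₂) :
    Cfsg.indFun (W₁ ⊔ W₂) f w = f w := by
  classical
  have hterm : ∀ x : G, Cfsg.extendByZero (W₁ ⊔ W₂) f (x⁻¹ * (w : G) * x) =
      if x ∈ W₁ ⊔ W₂ then f w else 0 := by
    intro x
    split_ifs with hx
    · have hc := (scyc_conj_fix hW hw).mp hx
      have e : x⁻¹ * (w : G) * x = w := by rw [mul_assoc, ← hc, inv_mul_cancel_left]
      rw [e, CT.extendByZero_coe]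
    · by_cases hm : x⁻¹ * (w : G) * x ∈ W₁ ⊔ W₂
      · rw [CT.extendByZero_mem _ _ hm]
        by_contra hne
        have hV : x⁻¹ * (w : G) * x ∈ vSet W₁ W₂ :=
          ⟨hm, fun h => hne (hf _ (Or.inl h)), fun h => hne (hf _ (Or.inr h))⟩
        exact hx (by simpa using
          (W₁ ⊔ W₂).inv_mem (scyc_conj_mem hW hw (x := x⁻¹) (by simpa using hV)))
      · exact CT.extendByZero_not_mem _ _ hm
  simp only [Cfsg.indFun, hterm, Finset.sum_ite, Finset.sum_const_zero, add_zero, Finset.sum_const,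
    nsmul_eq_mul]
  rw [← mul_assoc, ← Fintype.card_subtype, ← Nat.card_eq_fintype_card,
    inv_mul_cancel₀ (Nat.cast_ne_zero.mpr Nat.card_pos.ne'), one_mul]

/-- Pairing an induced function supported on `V` with a class function of `G`. -/
theorem classInner_ind_suppV [Fintype G] [Fintype ↥(W₁ ⊔ W₂)] {f g : ↥(W₁ ⊔ W₂) → ℂ}
    (hf : SuppV f) {θ : G → ℂ} (hθ : Cfsg.IsClassFunction G θ)
    (hg : ∀ w : ↥(W₁ ⊔ W₂), (w : G) ∈ vSet W₁ W₂ → θ w = g w) :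
    Cfsg.classInner (Cfsg.indFun (W₁ ⊔ W₂) f) θ = Cfsg.classInner f g := by
  rw [CT.frobenius_reciprocity _ f hθ, Cfsg.classInner, Cfsg.classInner]
  congr 1
  refine Finset.sum_congr rfl fun w _ => ?_
  by_cases hV : (w : G) ∈ W₁ ∨ (w : G) ∈ W₂
  · rw [hf w hV, zero_mul, zero_mul]
  · rw [hg w ⟨w.2, fun h => hV (Or.inl h), fun h => hV (Or.inr h)⟩]

open Classical in
theorem lin_inner [Fintype G] [Fintype ↥(W₁ ⊔ W₂)] (α β : ↥(W₁ ⊔ W₂) →* ℂˣ) :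
    Cfsg.classInner (fun w => (α w : ℂ)) (fun w => (β w : ℂ)) = if α = β then 1 else 0 := by
  rw [CT.irr_inner (CT.isIrrCharacter_lin α) (CT.isIrrCharacter_lin β)]
  have e : ((fun w => (α w : ℂ)) = fun w => (β w : ℂ)) ↔ α = β :=
    ⟨fun h => MonoidHom.ext fun w => Units.ext (congrFun h w), fun h => h ▸ rfl⟩
  by_cases h : α = β <;> simp [h, e]

theorem zetaFun_eq (φ ψ : ↥(W₁ ⊔ W₂) →* ℂˣ) :
    zetaFun φ ψ = (fun w => ((1 : ↥(W₁ ⊔ W₂) →* ℂˣ) w : ℂ)) - (fun w => (φ w : ℂ)) -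
      (fun w => (ψ w : ℂ)) + fun w => ((φ * ψ) w : ℂ) := by
  funext w
  simp [zetaFun]

end Cfsg.Agent.OddChar
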