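import Cfsg.Prelude.Def_OddOrderChar
import Cfsg.Agent.Lib.OddChar.Powers

/-! Elementary consequences of the Dade set-up. -/

namespace Cfsg.Agent.OddChar

universe u

variable {G : Type u} [Group G] {A : Set G} {L : Subgroup G} {H : G → Subgroup G}

theorem dade_commute (hD : Cfsg.DadeHypothesis A L H) {a u : G} (ha : a ∈ A) (hu : u ∈ H a) :
    Commute a u :=
  (Subgroup.mem_centralizer_singleton_iff.mp (hD.le_centralizer a ha hu)).symm

theorem dade_mem_self (hD : Cfsg.DadeHypothesis A L H) {a : G} (ha : a ∈ A) :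
    a ∈ L ⊓ Subgroup.centralizer ({a} : Set G) :=
  ⟨hD.subset ha, Subgroup.mem_centralizer_singleton_iff.mpr rfl⟩

theorem dade_orderOf_coprime (hD : Cfsg.DadeHypothesis A L H) {a b : G} (ha : a ∈ A) (hb : b ∈ A) :
    Nat.Coprime (orderOf a) (Nat.card (H b)) :=
  ((hD.coprime b hb a ha).symm).coprime_dvd_left
    (Subgroup.orderOf_dvd_natCard _ (dade_mem_self hD ha))

/-- The conjugator of two coset elements conjugates their first parts. -/
theorem dade_conj_eq (hD : Cfsg.DadeHypothesis A L H) {a b u v g : G} (ha : a ∈ A) (hb : b ∈ A)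
    (hu : u ∈ H a) (hv : v ∈ H b) (h : g * (a * u) * g⁻¹ = b * v) : g * a * g⁻¹ = b := by
  refine conj_left_eq (m := orderOf a * orderOf b) (n := Nat.card (H a) * Nat.card (H b))
    ?_ (dade_commute hD ha hu) (dade_commute hD hb hv) (dvd_mul_right _ _) (dvd_mul_left _ _)
    ((Subgroup.orderOf_dvd_natCard _ hu).trans (dvd_mul_right _ _))
    ((Subgroup.orderOf_dvd_natCard _ hv).trans (dvd_mul_left _ _)) h
  refine Nat.Coprime.mul_left ?_ ?_ <;> refine Nat.Coprime.mul_right ?_ ?_ <;>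
    apply dade_orderOf_coprime hD <;> assumption

/-- A conjugate (by an element of `L`) of `H a` lies in `H` of the conjugate of `a`. -/
theorem dade_conj_mem (hD : Cfsg.DadeHypothesis A L H) {a b u x : G} (ha : a ∈ A) (hb : b ∈ A)
    (hxab : x * a * x⁻¹ = b) (hu : u ∈ H a) : x * u * x⁻¹ ∈ H b := by
  subst hxab
  obtain ⟨w, hw⟩ : ∃ w, w = x * u * x⁻¹ := ⟨_, rfl⟩
  have hwc : w ∈ Subgroup.centralizer ({x * a * x⁻¹} : Set G) := by
    rw [Subgroup.mem_centralizer_singleton_iff, hw]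
    have := (dade_commute hD ha hu).eq
    calc x * u * x⁻¹ * (x * a * x⁻¹) = x * (u * a) * x⁻¹ := by group
      _ = x * (a * u) * x⁻¹ := by rw [this]
      _ = x * a * x⁻¹ * (x * u * x⁻¹) := by group
  have hnorm : L ⊓ Subgroup.centralizer ({x * a * x⁻¹} : Set G) ≤
      Subgroup.normalizer ((H (x * a * x⁻¹)) : Set G) := by
    intro c hc
    rw [Subgroup.mem_normalizer_iff]
    refine fun k => ⟨fun hk => hD.conj_mem_H _ hb c hc.2 k hk, fun hk => ?_⟩
    have := hD.conj_mem_H _ hb c⁻¹ (inv_mem hc.2) _ hk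
    simpa [mul_assoc] using this
  rw [← hD.sup_eq _ hb, ← SetLike.mem_coe,
    Subgroup.coe_mul_of_right_le_normalizer_left _ _ hnorm] at hwc
  obtain ⟨v, hv, l, hl, hvl⟩ := hwc
  have hword : orderOf w ∣ Nat.card (H a) := by
    rw [hw, orderOf_conj]
    exact Subgroup.orderOf_dvd_natCard _ hu
  have key : ∀ k : ℕ, ∃ v' ∈ H (x * a * x⁻¹), (v * l) ^ k = v' * l ^ k := by
    intro k
    induction k with
    | zero => exact ⟨1, one_mem _, by simp⟩
    | succ k ih =>
      obtain ⟨v', hv', he⟩ := ih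
      refine ⟨v' * (l ^ k * v * (l ^ k)⁻¹), mul_mem hv' ?_, ?_⟩
      · exact hD.conj_mem_H _ hb _ (pow_mem hl.2 k) v hv
      · rw [pow_succ, he, pow_succ]
        group
  obtain ⟨v', hv', he⟩ := key (Nat.card (H a))
  rw [show v * l = w from hvl, orderOf_dvd_iff_pow_eq_one.mp hword] at he
  have hl1 : l ^ Nat.card (H a) = 1 := by
    have h1 : l ^ Nat.card (H a) ∈ H (x * a * x⁻¹) ⊓
        (L ⊓ Subgroup.centralizer ({x * a * x⁻¹} : Set G)) := by
      refine ⟨?_, pow_mem hl _⟩
      rw [eq_inv_of_mul_eq_one_right he.symm]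
      exact Subgroup.inv_mem (H (x * a * x⁻¹)) hv'
    rwa [hD.inf_eq_bot _ hb, Subgroup.mem_bot] at h1
  have hl' : l = 1 := by
    rw [← orderOf_eq_one_iff]
    exact Nat.eq_one_of_dvd_coprimes (hD.coprime a ha _ hb) (orderOf_dvd_iff_pow_eq_one.mpr hl1)
      (Subgroup.orderOf_dvd_natCard _ hl)
  subst hl'
  have hvw : v = w := by simpa using hvl
  rw [← hw, ← hvw]
  exact hv

theorem dade_H_conj (hD : Cfsg.DadeHypothesis A L H) {a x : G} (ha : a ∈ A) (hx : x ∈ L) :
    H (x * a * x⁻¹) = (H a).map (MulAut.conj x).toMonoidHom := by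
  ext w
  have hb := hD.conj_mem x hx a ha
  refine ⟨fun hw => ⟨x⁻¹ * w * x, ?_, by simp [mul_assoc]⟩, ?_⟩
  · have := dade_conj_mem hD (x := x⁻¹) (b := a) hb ha (by group) hw
    simpa using this
  · rintro ⟨u, hu, rfl⟩
    simpa using dade_conj_mem hD ha hb rfl hu

theorem dade_normalizer_coset (hD : Cfsg.DadeHypothesis A L H) {a : G} (ha : a ∈ A) :
    Subgroup.normalizer ((fun u : G => a * u) '' (H a : Set G)) =
      Subgroup.centralizer ({a} : Set G) := by
  ext g
  constructor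
  · intro hg
    have h1 : a ∈ (fun u : G => a * u) '' (H a : Set G) := ⟨1, one_mem _, mul_one a⟩
    obtain ⟨v, hv, hgv⟩ := (hg a).mp h1
    have := dade_conj_eq hD (g := g) ha ha (one_mem _) hv (by simpa using hgv.symm)
    rw [Subgroup.mem_centralizer_singleton_iff]
    exact mul_inv_eq_iff_eq_mul.mp this
  · intro hg
    have key : ∀ c ∈ Subgroup.centralizer ({a} : Set G), ∀ y ∈ (fun u : G => a * u) '' (H a : Set G),
        c * y * c⁻¹ ∈ (fun u : G => a * u) '' (H a : Set G) := by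
      rintro c hc _ ⟨u, hu, rfl⟩
      refine ⟨c * u * c⁻¹, hD.conj_mem_H a ha c hc u hu, ?_⟩
      have := Subgroup.mem_centralizer_singleton_iff.mp hc
      calc a * (c * u * c⁻¹) = (a * c) * u * c⁻¹ := by group
        _ = (c * a) * u * c⁻¹ := by rw [this]
        _ = c * (a * u) * c⁻¹ := by group
    refine fun y => ⟨key g hg y, fun hy => ?_⟩
    have := key g⁻¹ (inv_mem hg) _ hy
    simpa [mul_assoc] using this

end Cfsg.Agent.OddChar
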