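import Cfsg.Agent.Lib.OddChar.DadeVirtual

/-! The Dade map sends generalized characters to generalized characters. -/

namespace Cfsg.Agent.OddChar

universe u

variable {G : Type u} [Group G] {A : Set G} {L : Subgroup G} {H : G → Subgroup G}

/-- The elements of `L` normalising the finite set `B`. -/
def setNorm (L : Subgroup G) (B : Finset G) : Subgroup G where
  carrier := {l | l ∈ L ∧ ∀ b, b ∈ B ↔ l * b * l⁻¹ ∈ B}
  one_mem' := ⟨one_mem L, fun b => by simp⟩
  mul_mem' := by
    rintro a c ⟨ha, ha'⟩ ⟨hc, hc'⟩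
    refine ⟨mul_mem ha hc, fun b => ?_⟩
    rw [hc' b, ha' (c * b * c⁻¹), show a * (c * b * c⁻¹) * a⁻¹ = a * c * b * (a * c)⁻¹ by group]
  inv_mem' := by
    rintro a ⟨ha, ha'⟩
    refine ⟨inv_mem ha, fun b => ?_⟩
    rw [ha' (a⁻¹ * b * a⁻¹⁻¹), show a * (a⁻¹ * b * a⁻¹⁻¹) * a⁻¹ = b by group]

theorem mem_setNorm {B : Finset G} {l : G} :
    l ∈ setNorm L B ↔ l ∈ L ∧ ∀ b, b ∈ B ↔ l * b * l⁻¹ ∈ B := Iff.rfl

theorem setNorm_le (B : Finset G) : setNorm L B ≤ L := fun _ h => h.1

theorem hInter_inf_L (hD : Cfsg.DadeHypothesis A L H) {B : Finset G} (hB : ↑B ⊆ A)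
    (hne : B.Nonempty) {v : G} (hv : v ∈ hInter H B) (hvL : v ∈ L) : v = 1 := by
  obtain ⟨b, hb⟩ := hne
  have h1 : v ∈ H b := mem_hInter.mp hv b hb
  have h2 : v ∈ H b ⊓ (L ⊓ Subgroup.centralizer ({b} : Set G)) :=
    Subgroup.mem_inf.mpr ⟨h1, Subgroup.mem_inf.mpr ⟨hvL, hD.le_centralizer b (hB hb) h1⟩⟩
  rwa [hD.inf_eq_bot b (hB hb), Subgroup.mem_bot] at h2

theorem setNorm_le_normalizer (hD : Cfsg.DadeHypothesis A L H) {B : Finset G} (hB : ↑B ⊆ A) :
    setNorm L B ≤ Subgroup.normalizer ((hInter H B) : Set G) := by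
  intro n hn
  rw [Subgroup.mem_normalizer_iff]
  refine fun v => ⟨fun hv => hInter_conj_mem hD hB hn.1 hn.2 hv, fun hv => ?_⟩
  have hn' := (setNorm L B).inv_mem hn
  have := hInter_conj_mem hD hB hn'.1 hn'.2 hv
  simpa [mul_assoc] using this

/-- The subgroup from which the summand attached to `B` is induced. -/
def bigM (L : Subgroup G) (H : G → Subgroup G) (B : Finset G) : Subgroup G :=
  hInter H B ⊔ setNorm L B

theorem bigM_decomp (hD : Cfsg.DadeHypothesis A L H) {B : Finset G} (hB : ↑B ⊆ A) {m : G}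
    (hm : m ∈ bigM L H B) : ∃ v ∈ hInter H B, ∃ n ∈ setNorm L B, v * n = m := by
  rw [bigM, ← SetLike.mem_coe,
    Subgroup.coe_mul_of_right_le_normalizer_left _ _ (setNorm_le_normalizer hD hB)] at hm
  obtain ⟨v, hv, n, hn, e⟩ := hm
  exact ⟨v, hv, n, hn, e⟩

theorem bigM_decomp_unique (hD : Cfsg.DadeHypothesis A L H) {B : Finset G} (hB : ↑B ⊆ A)
    (hne : B.Nonempty) {v v' n n' : G} (hv : v ∈ hInter H B) (hv' : v' ∈ hInter H B) (hn : n ∈ L)
    (hn' : n' ∈ L) (h : v * n = v' * n') : n = n' := by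
  have h1 : v'⁻¹ * v = n' * n⁻¹ := by
    rw [eq_mul_inv_iff_mul_eq, mul_assoc, h, inv_mul_cancel_left]
  have h2 := hInter_inf_L hD hB hne (mul_mem (inv_mem hv') hv) (h1 ▸ mul_mem hn' (inv_mem hn))
  rw [h1, mul_inv_eq_one] at h2
  exact h2.symm

theorem exists_proj (hD : Cfsg.DadeHypothesis A L H) {B : Finset G} (hB : ↑B ⊆ A)
    (hne : B.Nonempty) :
    ∃ p : bigM L H B →* L, ∀ m : bigM L H B, ∀ v ∈ hInter H B, ∀ n : L,
      (n : G) ∈ setNorm L B → v * n = (m : G) → p m = n := by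
  choose v hv n hn e using fun m : bigM L H B => bigM_decomp hD hB m.2
  refine ⟨MonoidHom.mk' (fun m => ⟨n m, setNorm_le B (hn m)⟩) fun a b => Subtype.ext ?_, ?_⟩
  · refine bigM_decomp_unique hD hB hne (hv (a * b))
      (mul_mem (hv a) (hInter_conj_mem hD hB (hn a).1 (hn a).2 (hv b))) (setNorm_le B (hn _))
      (mul_mem (setNorm_le B (hn a)) (setNorm_le B (hn b))) ?_
    rw [e, Subgroup.coe_mul]
    conv_lhs => rw [← e a, ← e b]
    simp only [Subgroup.coe_mul]
    group
  · intro m v' hv' n' _ hm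
    exact Subtype.ext (bigM_decomp_unique hD hB hne (hv m) hv' (setNorm_le B (hn m)) n'.2
      ((e m).trans hm.symm))

theorem exists_gen_incTerm [Fintype G] [Fintype L] (hD : Cfsg.DadeHypothesis A L H) {α : L → ℂ}
    (hα : Cfsg.IsGeneralizedCharacter L α) (hαA : ∀ x : L, (x : G) ∉ A → α x = 0)
    {B : Finset G} (hB : B ∈ subsetsOf A) :
    ∃ f : G → ℂ, Cfsg.IsGeneralizedCharacter G f ∧
      ∀ x, incTerm A L H α x B = (Nat.card (setNorm L B) : ℂ) * f x := by
  classical
  obtain ⟨hB, hne⟩ := mem_subsetsOf.mp hB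
  obtain ⟨p, hp⟩ := exists_proj hD hB hne
  let γ : bigM L H B → ℂ := fun m => α (p m)
  refine ⟨fun x => (-1 : ℂ) ^ (B.card + 1) * Cfsg.indFun (bigM L H B) γ x, ?_, fun x => ?_⟩
  · have := CT.isGen_zsmul ((-1 : ℤ) ^ (B.card + 1))
      (CT.isGen_indFun (bigM L H B) (CT.isGen_comp p hα))
    push_cast at this
    exact this
  have hcard : Nat.card (bigM L H B) = Nat.card (hInter H B) * Nat.card (setNorm L B) := by
    rw [← Nat.card_prod]
    refine (Nat.card_congr (Equiv.ofBijective (fun q : hInter H B × setNorm L B =>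
      (⟨(q.1 : G) * q.2, mul_mem (Subgroup.mem_sup_left q.1.2)
        (Subgroup.mem_sup_right q.2.2)⟩ : bigM L H B)) ⟨?_, ?_⟩)).symm
    · intro q q' hqq
      have e := congrArg (Subtype.val : bigM L H B → G) hqq
      have e2 := bigM_decomp_unique hD hB hne q.1.2 q'.1.2 (setNorm_le B q.2.2)
        (setNorm_le B q'.2.2) e
      simp only [e2, mul_left_inj] at e
      exact Prod.ext (Subtype.ext e) (Subtype.ext e2)
    · rintro ⟨m, hm⟩
      obtain ⟨v, hv, n, hn, e⟩ := bigM_decomp hD hB hm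
      exact ⟨(⟨v, hv⟩, ⟨n, hn⟩), Subtype.ext e⟩
  have hext : ∀ y : G, Cfsg.extendByZero (bigM L H B) γ y =
      ∑ l : L, if (l : G) ∈ setNorm L B ∧ y * (l : G)⁻¹ ∈ hInter H B then α l else 0 := by
    intro y
    by_cases hy : y ∈ bigM L H B
    · obtain ⟨v, hv, n, hn, e⟩ := bigM_decomp hD hB hy
      rw [CT.extendByZero_mem _ _ hy, Finset.sum_eq_single ⟨n, setNorm_le B hn⟩,
        if_pos ⟨hn, by simpa [← e] using hv⟩]
      · exact congrArg α (hp ⟨y, hy⟩ v hv ⟨n, setNorm_le B hn⟩ hn e)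
      · intro l _ hl
        rw [if_neg]
        rintro ⟨_, hl2⟩
        exact hl (Subtype.ext (bigM_decomp_unique hD hB hne hl2 hv l.2 (setNorm_le B hn)
          (by simp [e])))
      · simp
    · rw [CT.extendByZero_not_mem _ _ hy, Finset.sum_eq_zero]
      intro l _
      rw [if_neg]
      rintro ⟨hl, hl2⟩
      exact hy (by simpa [bigM] using
        (mul_mem (Subgroup.mem_sup_left hl2) (Subgroup.mem_sup_right hl) :
          y * (l : G)⁻¹ * (l : G) ∈ bigM L H B))
  simp only [incTerm, finsum_mem_eq_toFinset_sum, Set.toFinset_ofPred, Finset.sum_filter]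
  have hterm : ∀ l : L,
      (if (l : G) ∈ A ∧ ∀ b, b ∈ B ↔ (l : G) * b * (l : G)⁻¹ ∈ B
        then α l * cosetCount H B x l else 0) =
      (Nat.card (hInter H B) : ℂ)⁻¹ * ∑ g : G,
        if (l : G) ∈ setNorm L B ∧ g⁻¹ * x * g * (l : G)⁻¹ ∈ hInter H B then α l else 0 := by
    intro l
    by_cases hl : (l : G) ∈ setNorm L B
    · by_cases hA : (l : G) ∈ A
      · rw [if_pos ⟨hA, hl.2⟩, cosetCount, Finset.mul_sum, Finset.mul_sum, Finset.mul_sum]
        refine Finset.sum_congr rfl fun g _ => ?_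
        by_cases hg : g⁻¹ * x * g * (l : G)⁻¹ ∈ hInter H B
        · rw [if_pos hg, if_pos ⟨hl, hg⟩]
          ring
        · rw [if_neg hg, if_neg (fun h => hg h.2)]
          ring
      · rw [if_neg (fun h => hA h.1), hαA l hA]
        simp
    · rw [if_neg (fun h => hl ⟨l.2, h.2⟩), Finset.sum_eq_zero, mul_zero]
      intro g _
      rw [if_neg (fun h => hl h.1)]
  rw [Finset.sum_congr rfl fun l _ => hterm l, Cfsg.indFun, hcard, ← Finset.mul_sum,
    Finset.sum_comm, ← Finset.sum_congr rfl fun g _ => hext (g⁻¹ * x * g)]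
  push_cast
  have h1 : (Nat.card (setNorm L B) : ℂ) ≠ 0 := Nat.cast_ne_zero.mpr Nat.card_pos.ne'
  field_simp

open Classical in
/-- The conjugate of the finite set `B` by `l`. -/
noncomputable def conjFinset (l : G) (B : Finset G) : Finset G := B.image fun b => l * b * l⁻¹

theorem mem_conjSet {l : G} {B : Finset G} {c : G} : c ∈ conjFinset l B ↔ l⁻¹ * c * l ∈ B := by
  classical
  simp only [conjFinset, Finset.mem_image]
  constructor
  · rintro ⟨b, hb, rfl⟩
    simpa [mul_assoc] using hb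
  · exact fun h => ⟨_, h, by group⟩

theorem conjSet_mul (l m : G) (B : Finset G) : conjFinset (l * m) B = conjFinset l (conjFinset m B) := by
  ext c
  simp [mem_conjSet, mul_assoc]

theorem conjSet_one (B : Finset G) : conjFinset 1 B = B := by
  ext c
  simp [mem_conjSet]

theorem conjSet_mem_subsetsOf [Fintype G] (hD : Cfsg.DadeHypothesis A L H) {B : Finset G} {l : G}
    (hl : l ∈ L) (hB : B ∈ subsetsOf A) : conjFinset l B ∈ subsetsOf A := by
  classical
  obtain ⟨hB, hne⟩ := mem_subsetsOf.mp hB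
  refine mem_subsetsOf.mpr ⟨?_, Finset.image_nonempty.mpr hne⟩
  intro c hc
  obtain ⟨b, hb, rfl⟩ := Finset.mem_image.mp hc
  exact hD.conj_mem l hl b (hB hb)

theorem conjSet_eq_self {l : G} {B : Finset G} :
    conjFinset l B = B ↔ ∀ b, b ∈ B ↔ l * b * l⁻¹ ∈ B := by
  constructor
  · intro h b
    conv_rhs => rw [← h]
    rw [mem_conjSet, show l⁻¹ * (l * b * l⁻¹) * l = b by group]
  · intro h
    ext c
    rw [mem_conjSet, h (l⁻¹ * c * l), show l * (l⁻¹ * c * l) * l⁻¹ = c by group]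

theorem hInter_conjSet (hD : Cfsg.DadeHypothesis A L H) {B : Finset G} (hB : ↑B ⊆ A) {l : G}
    (hl : l ∈ L) {v : G} : l * v * l⁻¹ ∈ hInter H (conjFinset l B) ↔ v ∈ hInter H B := by
  simp only [mem_hInter, mem_conjSet]
  constructor
  · intro h b hb
    have hlb := hD.conj_mem l hl b (hB hb)
    have := dade_conj_mem hD hlb (hB hb) (x := l⁻¹) (by group)
      (h (l * b * l⁻¹) (by simpa [mul_assoc] using hb))
    simpa [mul_assoc] using this
  · intro h c hc
    have hcA : c ∈ A := by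
      have := hD.conj_mem l hl _ (hB hc)
      simpa [mul_assoc] using this
    exact dade_conj_mem hD (hB hc) hcA (by group) (h _ hc)

theorem incTerm_conj [Fintype G] [Fintype L] (hD : Cfsg.DadeHypothesis A L H) {α : L → ℂ}
    (hα : Cfsg.IsClassFunction L α) {B : Finset G} (hB : ↑B ⊆ A) (l : L) (x : G) :
    incTerm A L H α x (conjFinset (l : G) B) = incTerm A L H α x B := by
  classical
  have hcard : (conjFinset (l : G) B).card = B.card := by
    refine Finset.card_image_of_injective _ fun a b h => ?_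
    simpa using h
  simp only [incTerm, finsum_mem_eq_toFinset_sum, Set.toFinset_ofPred, Finset.sum_filter, hcard]
  congr 1
  refine (Fintype.sum_equiv (MulAut.conj l).toEquiv _ _ fun m => ?_).symm
  simp only [MulEquiv.toEquiv_eq_coe, EquivLike.coe_coe, MulAut.conj_apply, Subgroup.coe_mul,
    InvMemClass.coe_inv]
  have h1 : ((l : G) * m * (l : G)⁻¹ ∈ A) ↔ (m : G) ∈ A := by
    constructor
    · intro h
      have := hD.conj_mem (l : G)⁻¹ (inv_mem l.2) _ h
      simpa [mul_assoc] using this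
    · exact hD.conj_mem _ l.2 _
  have h2 : (∀ c, c ∈ conjFinset (l : G) B ↔
      (l : G) * m * (l : G)⁻¹ * c * ((l : G) * m * (l : G)⁻¹)⁻¹ ∈ conjFinset (l : G) B) ↔
      ∀ b, b ∈ B ↔ (m : G) * b * (m : G)⁻¹ ∈ B := by
    rw [← conjSet_eq_self, ← conjSet_eq_self, ← conjSet_mul,
      show (l : G) * m * (l : G)⁻¹ * l = l * m by group, conjSet_mul]
    constructor
    · intro h
      have := congrArg (conjFinset (l : G)⁻¹) h
      simpa [← conjSet_mul, conjSet_one] using this
    · intro h; rw [h]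
  by_cases hc : (m : G) ∈ A ∧ ∀ b, b ∈ B ↔ (m : G) * b * (m : G)⁻¹ ∈ B
  · rw [if_pos hc]
    refine Eq.trans ?_ (if_pos ⟨h1.mpr hc.1, h2.mpr hc.2⟩).symm
    rw [hα m l]
    congr 1
    rw [cosetCount, cosetCount]
    have hcI : Nat.card (hInter H B) = Nat.card (hInter H (conjFinset (l : G) B)) :=
      Nat.card_congr ((MulAut.conj (l : G)).toEquiv.subtypeEquiv fun v =>
        (hInter_conjSet hD hB l.2).symm)
    rw [hcI]
    congr 1
    · refine Fintype.sum_equiv (Equiv.mulRight (l : G)⁻¹) _ _ fun g => ?_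
      simp only [Equiv.coe_mulRight]
      congr 1
      refine propext ((hInter_conjSet hD hB l.2).symm.trans (iff_of_eq (congrArg (· ∈ _) ?_)))
      group
  · rw [if_neg hc]
    exact (if_neg (fun h => hc ⟨h1.mp h.1, h2.mp h.2⟩)).symm

/-- The orbit of `B` under `L`. -/
noncomputable def setOrbit (L : Subgroup G) [Fintype L] (B : Finset G) : Finset (Finset G) :=
  haveI := Classical.decEq (Finset G)
  Finset.univ.image fun l : L => conjFinset (l : G) B

theorem mem_setOrbit [Fintype L] {B C : Finset G} :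
    C ∈ setOrbit L B ↔ ∃ l : L, conjFinset (l : G) B = C := by
  simp [setOrbit]

theorem setOrbit_eq_iff [Fintype L] {B C : Finset G} :
    setOrbit L C = setOrbit L B ↔ C ∈ setOrbit L B := by
  constructor
  · intro h
    rw [← h]
    exact mem_setOrbit.mpr ⟨1, conjSet_one C⟩
  · intro h
    obtain ⟨l, rfl⟩ := mem_setOrbit.mp h
    ext D
    simp only [mem_setOrbit, ← conjSet_mul]
    constructor
    · rintro ⟨m, rfl⟩
      exact ⟨m * l, rfl⟩
    · rintro ⟨m, rfl⟩
      exact ⟨m * l⁻¹, by simp⟩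

theorem setOrbit_card [Fintype G] [Fintype L] (B : Finset G) :
    (setOrbit L B).card * Nat.card (setNorm L B) = Nat.card L := by
  classical
  have h := Finset.card_eq_sum_card_fiberwise (s := (Finset.univ : Finset L))
    (f := fun l : L => conjFinset (l : G) B) (t := setOrbit L B)
    (fun l _ => Finset.mem_coe.mpr (mem_setOrbit.mpr ⟨l, rfl⟩))
  rw [Nat.card_eq_fintype_card (α := L), ← Finset.card_univ, h, ← smul_eq_mul, ← Finset.sum_const]
  refine Finset.sum_congr rfl fun C hC => ?_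
  obtain ⟨l, rfl⟩ := mem_setOrbit.mp hC
  rw [Nat.card_eq_fintype_card, ← Finset.card_univ]
  refine Finset.card_bij (fun n _ => l * (⟨(n : G), setNorm_le B n.2⟩ : L)) ?_ ?_ ?_
  · intro n _
    simp only [Finset.mem_filter, Finset.mem_univ, true_and, Subgroup.coe_mul]
    rw [conjSet_mul, conjSet_eq_self.mpr n.2.2]
  · intro n _ n' _ h
    exact Subtype.ext (Subtype.ext_iff.mp (mul_left_cancel h) :)
  · intro m hm
    simp only [Finset.mem_filter, Finset.mem_univ, true_and] at hm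
    refine ⟨⟨(l : G)⁻¹ * m, mul_mem (inv_mem l.2) m.2, conjSet_eq_self.mp ?_⟩,
      Finset.mem_univ _, Subtype.ext (by simp)⟩
    rw [conjSet_mul, hm, ← conjSet_mul, inv_mul_cancel, conjSet_one]

theorem dade_isGen [Fintype G] [Fintype L] (hD : Cfsg.DadeHypothesis A L H) {α : L → ℂ}
    (hα : Cfsg.IsGeneralizedCharacter L α) (hαA : ∀ x : L, (x : G) ∉ A → α x = 0) :
    Cfsg.IsGeneralizedCharacter G (Cfsg.dadeIsometry A L H α) := by
  classical
  have hcf := CT.isClassFunction_of_isGen hα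
  choose f hf hval using fun B : {B // B ∈ subsetsOf A} => exists_gen_incTerm hD hα hαA B.2
  let F : Finset G → G → ℂ := fun B => if h : B ∈ subsetsOf A then f ⟨B, h⟩ else 0
  have hF : ∀ B, Cfsg.IsGeneralizedCharacter G (F B) := by
    intro B
    simp only [F]
    split
    · exact hf _
    · exact CT.isGen_zero
  obtain ⟨rep, hrep⟩ : ∃ rep : Finset (Finset G) → Finset G,
      ∀ B ∈ subsetsOf A, rep (setOrbit L B) ∈ subsetsOf A ∧
        setOrbit L (rep (setOrbit L B)) = setOrbit L B := by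
    refine ⟨fun O => if h : ∃ B, B ∈ subsetsOf A ∧ setOrbit L B = O then h.choose else ∅,
      fun B hB => ?_⟩
    have h : ∃ B', B' ∈ subsetsOf A ∧ setOrbit L B' = setOrbit L B := ⟨B, hB, rfl⟩
    simp only [dif_pos h]
    exact h.choose_spec
  have key : Cfsg.dadeIsometry A L H α =
      ∑ O ∈ (subsetsOf A).image (setOrbit L), F (rep O) := by
    funext x
    have hL : (Nat.card L : ℂ) ≠ 0 := Nat.cast_ne_zero.mpr Nat.card_pos.ne'
    refine mul_left_cancel₀ hL ?_
    rw [inclusion_exclusion hD α hcf x, Finset.sum_apply, Finset.mul_sum,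
      ← Finset.sum_fiberwise_of_maps_to (fun B hB => Finset.mem_image_of_mem (setOrbit L) hB)]
    refine Finset.sum_congr rfl fun O hO => ?_
    obtain ⟨B, hB, rfl⟩ := Finset.mem_image.mp hO
    obtain ⟨hR, hRO⟩ := hrep B hB
    generalize rep (setOrbit L B) = R at hR hRO ⊢
    rw [← hRO]
    have hfib : (subsetsOf A).filter (fun C => setOrbit L C = setOrbit L R) = setOrbit L R := by
      ext C
      rw [Finset.mem_filter, setOrbit_eq_iff]
      refine ⟨fun h => h.2, fun h => ⟨?_, h⟩⟩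
      obtain ⟨l, rfl⟩ := mem_setOrbit.mp h
      exact conjSet_mem_subsetsOf hD l.2 hR
    rw [hfib, Finset.sum_congr rfl (g := fun _ => incTerm A L H α x R) fun C hC => ?_,
      Finset.sum_const, nsmul_eq_mul, hval ⟨R, hR⟩, show F R = f ⟨R, hR⟩ from dif_pos hR,
      ← mul_assoc, ← Nat.cast_mul, setOrbit_card]
    obtain ⟨l, rfl⟩ := mem_setOrbit.mp hC
    exact incTerm_conj hD hcf (mem_subsetsOf.mp hR).1 l x
  rw [key]
  exact CT.isGen_sum _ fun O _ => hF _

end Cfsg.Agent.OddChar
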