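import Cfsg.Agent.Lib.OddChar.Dade

/-! Summation over the union of conjugates of the Dade cosets. -/

namespace Cfsg.Agent.OddChar

universe u

variable {G : Type u} [Group G] {A : Set G} {L : Subgroup G} {H : G → Subgroup G}

/-- The union of the conjugates of the cosets `a · H a`. -/
def dadeSupport (A : Set G) (H : G → Subgroup G) : Set G :=
  {g : G | ∃ a ∈ A, ∃ u ∈ H a, ∃ x : G, x * g * x⁻¹ = a * u}

/-- Index triples (conjugator, element of `A`, element of `H a`). -/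
abbrev DadeTriple (A : Set G) (L : Subgroup G) (H : G → Subgroup G) : Type u :=
  G × (Σ a : {a : L // (a : G) ∈ A}, H ((a.1 : L) : G))

/-- The element attached to a triple. -/
def tripleVal (p : DadeTriple A L H) : G :=
  p.1 * (((p.2.1.1 : L) : G) * (p.2.2 : G)) * p.1⁻¹

theorem dade_card_conj (hD : Cfsg.DadeHypothesis A L H) {a x : G} (ha : a ∈ A) (hx : x ∈ L) :
    Nat.card (H (x * a * x⁻¹)) = Nat.card (H a) := by
  rw [dade_H_conj hD ha hx]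
  exact Nat.card_congr ((H a).equivMapOfInjective _ (MulAut.conj x).injective).toEquiv.symm

theorem tripleVal_mem_support (p : DadeTriple A L H) : tripleVal p ∈ dadeSupport A H :=
  ⟨_, p.2.1.2, _, p.2.2.2, p.1⁻¹, by simp [tripleVal, mul_assoc]⟩

/-- The second component of a fibre element is `L`-conjugate to a given one. -/
theorem triple_conj (hD : Cfsg.DadeHypothesis A L H) {p q : DadeTriple A L H}
    (h : tripleVal p = tripleVal q) :
    ∃ l ∈ L, ((q.2.1.1 : L) : G) = l * ((p.2.1.1 : L) : G) * l⁻¹ := by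
  have h1 : (q.1⁻¹ * p.1) * (((p.2.1.1 : L) : G) * (p.2.2 : G)) * (q.1⁻¹ * p.1)⁻¹ =
      ((q.2.1.1 : L) : G) * (q.2.2 : G) := by
    simp only [tripleVal] at h
    calc _ = q.1⁻¹ * (p.1 * (((p.2.1.1 : L) : G) * (p.2.2 : G)) * p.1⁻¹) * q.1 := by group
      _ = _ := by rw [h]; group
  have h2 := dade_conj_eq hD p.2.1.2 q.2.1.2 p.2.2.2 q.2.2.2 h1
  obtain ⟨l, hl, hle⟩ := hD.fusion _ p.2.1.2 _ (h2 ▸ q.2.1.2)
  exact ⟨l, hl, by rw [hle, h2]⟩

theorem triple_card_H (hD : Cfsg.DadeHypothesis A L H) {p q : DadeTriple A L H}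
    (h : tripleVal p = tripleVal q) :
    Nat.card (H ((q.2.1.1 : L) : G)) = Nat.card (H ((p.2.1.1 : L) : G)) := by
  obtain ⟨l, hl, hle⟩ := triple_conj hD h
  rw [hle, dade_card_conj hD p.2.1.2 hl]

theorem triple_fibre_card [Finite G] (hD : Cfsg.DadeHypothesis A L H) (p : DadeTriple A L H) :
    Nat.card {q : DadeTriple A L H // tripleVal q = tripleVal p} =
      Nat.card L * Nat.card (H ((p.2.1.1 : L) : G)) := by
  obtain ⟨x₀, ⟨a₀, ha₀⟩, u₀, hu₀⟩ := p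
  simp only at u₀ hu₀ ⊢
  have hb : ∀ l : L, (l : G) * a₀ * (l : G)⁻¹ ∈ A := fun l => hD.conj_mem _ l.2 _ ha₀
  have hu : ∀ (l : L) (h : H (a₀ : G)),
      (l : G) * ((h : G)⁻¹ * u₀ * h) * (l : G)⁻¹ ∈ H ((l : G) * a₀ * (l : G)⁻¹) := fun l h =>
    dade_conj_mem hD ha₀ (hb l) rfl (mul_mem (mul_mem ((H _).inv_mem h.2) hu₀) h.2)
  let f : L × H (a₀ : G) → DadeTriple A L H := fun z =>
    (x₀ * z.2 * (z.1 : G)⁻¹,
      ⟨⟨⟨(z.1 : G) * a₀ * (z.1 : G)⁻¹, L.mul_mem (L.mul_mem z.1.2 a₀.2) (L.inv_mem z.1.2)⟩, hb z.1⟩,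
        ⟨_, hu z.1 z.2⟩⟩)
  have hf : ∀ z, tripleVal (f z) = tripleVal (A := A) (L := L) (H := H)
      (x₀, ⟨⟨a₀, ha₀⟩, ⟨u₀, hu₀⟩⟩) := by
    rintro ⟨l, h⟩
    have hc := (dade_commute hD ha₀ h.2).eq
    simp only [tripleVal, f]
    calc x₀ * ↑h * (↑l)⁻¹ * (↑l * ↑a₀ * (↑l)⁻¹ * (↑l * ((↑h)⁻¹ * u₀ * ↑h) * (↑l)⁻¹)) *
          (x₀ * ↑h * (↑l)⁻¹)⁻¹
        = x₀ * ((h : G) * a₀) * (h : G)⁻¹ * u₀ * x₀⁻¹ := by group
      _ = x₀ * ((a₀ : G) * h) * (h : G)⁻¹ * u₀ * x₀⁻¹ := by rw [hc]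
      _ = _ := by group
  have hinj : Function.Injective f := by
    rintro ⟨l, h⟩ ⟨l', h'⟩ he
    simp only [f, Prod.ext_iff] at he
    obtain ⟨h1, h2⟩ := he
    have h3 : (l : G) * a₀ * (l : G)⁻¹ = (l' : G) * a₀ * (l' : G)⁻¹ :=
      congrArg (fun s : Σ a : {a : L // (a : G) ∈ A}, H ((a.1 : L) : G) => ((s.1.1 : L) : G)) h2
    obtain ⟨m, hm⟩ : ∃ m, m = (h' : G)⁻¹ * h := ⟨_, rfl⟩
    have hm' : m = (l' : G)⁻¹ * l := by
      rw [hm]
      have h4 : (h : G) * (l : G)⁻¹ = (h' : G) * (l' : G)⁻¹ := by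
        have := congrArg (x₀⁻¹ * ·) h1
        simpa [mul_assoc] using this
      calc (h' : G)⁻¹ * h = (h' : G)⁻¹ * ((h : G) * (l : G)⁻¹) * l := by group
        _ = _ := by rw [h4]; group
    have hmem : m ∈ H (a₀ : G) ⊓ (L ⊓ Subgroup.centralizer ({(a₀ : G)} : Set G)) := by
      refine Subgroup.mem_inf.mpr ⟨hm ▸ (H _).mul_mem ((H _).inv_mem h'.2) h.2,
        Subgroup.mem_inf.mpr ⟨hm' ▸ L.mul_mem (L.inv_mem l'.2) l.2, ?_⟩⟩
      rw [Subgroup.mem_centralizer_singleton_iff, hm']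
      calc (l' : G)⁻¹ * l * a₀ = (l' : G)⁻¹ * ((l : G) * a₀ * (l : G)⁻¹) * l := by group
        _ = _ := by rw [h3]; group
    rw [hD.inf_eq_bot _ ha₀, Subgroup.mem_bot] at hmem
    subst hmem
    exact Prod.ext (Subtype.ext (inv_mul_eq_one.mp hm'.symm).symm)
      (Subtype.ext (inv_mul_eq_one.mp hm.symm).symm)
  have hrange : Set.range f =
      {q | tripleVal q = tripleVal (A := A) (L := L) (H := H) (x₀, ⟨⟨a₀, ha₀⟩, ⟨u₀, hu₀⟩⟩)} := by
    apply Set.Subset.antisymm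
    · rintro _ ⟨z, rfl⟩
      exact hf z
    rintro ⟨x, ⟨⟨a, haL⟩, ha⟩, ⟨u, hu'⟩⟩ he
    simp only [Set.mem_ofPred_eq, tripleVal] at he
    have h1 : (x₀⁻¹ * x) * (a * u) * (x₀⁻¹ * x)⁻¹ = a₀ * u₀ := by
      calc _ = x₀⁻¹ * (x * (a * u) * x⁻¹) * x₀ := by group
        _ = _ := by rw [he]; group
    have h2 := dade_conj_eq hD ha ha₀ hu' hu₀ h1
    obtain ⟨k, hk, hke⟩ := hD.fusion a ha _ (by rw [h2]; exact ha₀)
    have hc : (x₀⁻¹ * x) * k⁻¹ ∈ Subgroup.centralizer ({(a₀ : G)} : Set G) := by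
      rw [Subgroup.mem_centralizer_singleton_iff]
      have : (a₀ : G) = k * a * k⁻¹ := by rw [hke, h2]
      calc x₀⁻¹ * x * k⁻¹ * a₀ = ((x₀⁻¹ * x) * a * (x₀⁻¹ * x)⁻¹) * (x₀⁻¹ * x * k⁻¹) := by
            rw [this]; group
        _ = _ := by rw [h2]
    have hnorm : L ⊓ Subgroup.centralizer ({(a₀ : G)} : Set G) ≤
        Subgroup.normalizer ((H (a₀ : G)) : Set G) := by
      intro c hc'
      rw [Subgroup.mem_normalizer_iff]
      refine fun v => ⟨fun hv => hD.conj_mem_H _ ha₀ c hc'.2 v hv, fun hv => ?_⟩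
      have := hD.conj_mem_H _ ha₀ c⁻¹ ((Subgroup.centralizer _).inv_mem hc'.2) _ hv
      simpa [mul_assoc] using this
    rw [← hD.sup_eq _ ha₀, ← SetLike.mem_coe,
      Subgroup.coe_mul_of_right_le_normalizer_left _ _ hnorm] at hc
    obtain ⟨h, hh, m, hm, hhm⟩ := hc
    replace hhm : h * m = x₀⁻¹ * x * k⁻¹ := hhm
    obtain ⟨l, hl⟩ : ∃ l, l = k⁻¹ * m⁻¹ := ⟨_, rfl⟩
    have hlL : l ∈ L := hl ▸ L.mul_mem (L.inv_mem hk) (L.inv_mem hm.1)
    have hx : x = x₀ * h * l⁻¹ := by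
      rw [hl]
      calc x = x₀ * (x₀⁻¹ * x * k⁻¹) * k := by group
        _ = x₀ * (h * m) * k := by rw [hhm]
        _ = _ := by group
    have hla : l * a₀ * l⁻¹ = a := by
      have h5 : m⁻¹ * a₀ = (a₀ : G) * m⁻¹ := by
        have := Subgroup.mem_centralizer_singleton_iff.mp hm.2
        calc m⁻¹ * a₀ = m⁻¹ * (a₀ * m) * m⁻¹ := by group
          _ = m⁻¹ * (m * a₀) * m⁻¹ := by rw [this]
          _ = _ := by group
      have : (a₀ : G) = k * a * k⁻¹ := by rw [hke, h2]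
      rw [hl]
      calc k⁻¹ * m⁻¹ * a₀ * (k⁻¹ * m⁻¹)⁻¹ = k⁻¹ * (m⁻¹ * a₀) * m * k := by group
        _ = k⁻¹ * (a₀ * m⁻¹) * m * k := by rw [h5]
        _ = _ := by rw [this]; group
    refine ⟨(⟨l, hlL⟩, ⟨h, hh⟩), ?_⟩
    refine Prod.ext hx.symm ?_
    have hav : (l : G) * a₀ * l⁻¹ = a := hla
    subst hav
    refine Sigma.ext rfl (heq_of_eq (Subtype.ext ?_))
    have hcomm := (dade_commute hD ha₀ hh).eq
    have e2 : (l * a₀ * l⁻¹) * u = l * h⁻¹ * (a₀ * u₀) * h * l⁻¹ := by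
      rw [← h1, hx]
      group
    show l * (h⁻¹ * u₀ * h) * l⁻¹ = u
    calc l * (h⁻¹ * u₀ * h) * l⁻¹
        = (l * a₀ * l⁻¹)⁻¹ * (l * h⁻¹ * ((h * (a₀ : G)) * h⁻¹) * u₀ * h * l⁻¹) := by group
      _ = (l * a₀ * l⁻¹)⁻¹ * (l * h⁻¹ * (((a₀ : G) * h) * h⁻¹) * u₀ * h * l⁻¹) := by rw [← hcomm]
      _ = (l * a₀ * l⁻¹)⁻¹ * (l * h⁻¹ * (a₀ * u₀) * h * l⁻¹) := by group
      _ = u := by rw [← e2]; group
  have hc := Nat.card_range_of_injective hinj
  rw [hrange, Nat.card_prod] at hc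
  exact hc

/-- Summation over the union of conjugates of the cosets `a · H a`. -/
theorem dade_sum [Fintype G] (hD : Cfsg.DadeHypothesis A L H) (F : G → ℂ) :
    ∑ᶠ g ∈ dadeSupport A H, F g = (Nat.card L : ℂ)⁻¹ * ∑ᶠ a ∈ {a : L | (a : G) ∈ A},
      (Nat.card (H (a : G)) : ℂ)⁻¹ * ∑ᶠ u ∈ (H (a : G) : Set G), ∑ x : G, F (x * ((a : G) * u) * x⁻¹) := by
  classical
  haveI : Fintype L := Fintype.ofFinite L
  haveI : ∀ a : G, Fintype (H a) := fun a => Fintype.ofFinite _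
  haveI : Fintype {a : L // (a : G) ∈ A} := Fintype.ofFinite _
  have hrhs : (Nat.card L : ℂ)⁻¹ * ∑ᶠ a ∈ {a : L | (a : G) ∈ A},
      (Nat.card (H (a : G)) : ℂ)⁻¹ * ∑ᶠ u ∈ (H (a : G) : Set G), ∑ x : G, F (x * ((a : G) * u) * x⁻¹) =
      ∑ p : DadeTriple A L H, (Nat.card L : ℂ)⁻¹ * (Nat.card (H ((p.2.1.1 : L) : G)) : ℂ)⁻¹ *
        F (tripleVal p) := by
    rw [finsum_mem_eq_toFinset_sum, Set.toFinset_ofPred, Finset.sum_subtype (p := fun a : L => (a : G) ∈ A)]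
    · rw [Fintype.sum_prod_type, Finset.sum_comm, Fintype.sum_sigma, Finset.mul_sum]
      refine Finset.sum_congr rfl fun a _ => ?_
      rw [finsum_mem_eq_toFinset_sum,
        Finset.sum_subtype (p := fun u : G => u ∈ H ((a.1 : L) : G))]
      · simp only [Finset.mul_sum, tripleVal]
        refine Finset.sum_congr rfl fun u _ => Finset.sum_congr rfl fun x _ => ?_
        ring
      · intro u; simp
    · intro a; simp
  rw [hrhs, ← Finset.sum_fiberwise_of_maps_to (g := tripleVal)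
    (t := (dadeSupport A H).toFinset) fun p _ => Set.mem_toFinset.mpr (tripleVal_mem_support p),
    finsum_mem_eq_toFinset_sum]
  refine Finset.sum_congr rfl fun g hg => ?_
  obtain ⟨a, ha, u, hu, x, hx⟩ := Set.mem_toFinset.mp hg
  obtain ⟨p₀, hp₀⟩ : ∃ p : DadeTriple A L H, tripleVal p = g :=
    ⟨(x⁻¹, ⟨⟨⟨a, hD.subset ha⟩, ha⟩, ⟨u, hu⟩⟩), by
      simp [tripleVal, ← hx, mul_assoc]⟩
  rw [Finset.sum_congr rfl (g := fun _ => (Nat.card L : ℂ)⁻¹ *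
    (Nat.card (H ((p₀.2.1.1 : L) : G)) : ℂ)⁻¹ * F g) fun p hp => ?_, Finset.sum_const, nsmul_eq_mul]
  · have hc := triple_fibre_card hD p₀
    rw [Nat.card_eq_fintype_card, Fintype.card_subtype, hp₀] at hc
    rw [hc]
    have h1 : (Nat.card L : ℂ) ≠ 0 := Nat.cast_ne_zero.mpr Nat.card_pos.ne'
    have h2 : (Nat.card (H ((p₀.2.1.1 : L) : G)) : ℂ) ≠ 0 := Nat.cast_ne_zero.mpr Nat.card_pos.ne'
    push_cast
    field_simp
  · have hp' := (Finset.mem_filter.mp hp).2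
    rw [triple_card_H hD (hp₀.trans hp'.symm), hp']

theorem dadeIsometry_apply (hD : Cfsg.DadeHypothesis A L H) {α : L → ℂ}
    (hα : Cfsg.IsClassFunction L α) {g x u : G} {a : L} (ha : (a : G) ∈ A) (hu : u ∈ H (a : G))
    (hx : x * g * x⁻¹ = (a : G) * u) : Cfsg.dadeIsometry A L H α g = α a := by
  have hex : ∃ a : L, (a : G) ∈ A ∧ ∃ x : G, ∃ u ∈ H (a : G), x * g * x⁻¹ = (a : G) * u :=
    ⟨a, ha, x, u, hu, hx⟩
  rw [Cfsg.dadeIsometry, dif_pos hex]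
  obtain ⟨hb, y, v, hv, hy⟩ := Classical.choose_spec hex
  have h1 : (x * y⁻¹) * (((Classical.choose hex : L) : G) * v) * (x * y⁻¹)⁻¹ = (a : G) * u := by
    rw [← hy, ← hx]
    group
  have h2 := dade_conj_eq hD hb ha hv hu h1
  obtain ⟨l, hl, hle⟩ := hD.fusion _ hb _ (by rw [h2]; exact ha)
  have h3 : a = (⟨l, hl⟩ : L) * Classical.choose hex * (⟨l, hl⟩ : L)⁻¹ :=
    Subtype.ext (by push_cast; rw [hle, h2])
  conv_rhs => rw [h3]
  exact (hα _ _).symm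

theorem dadeIsometry_eq_zero {α : L → ℂ} {g : G} (hg : g ∉ dadeSupport A H) :
    Cfsg.dadeIsometry A L H α g = 0 := by
  rw [Cfsg.dadeIsometry, dif_neg]
  rintro ⟨a, ha, x, u, hu, hx⟩
  exact hg ⟨a, ha, u, hu, x, hx⟩

theorem dadeIsometry_classFunction (hD : Cfsg.DadeHypothesis A L H) {α : L → ℂ}
    (hα : Cfsg.IsClassFunction L α) : Cfsg.IsClassFunction G (Cfsg.dadeIsometry A L H α) := by
  intro g h
  by_cases hg : g ∈ dadeSupport A H
  · obtain ⟨a, ha, u, hu, x, hx⟩ := hg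
    rw [dadeIsometry_apply hD hα (a := ⟨a, hD.subset ha⟩) ha hu hx,
      dadeIsometry_apply hD hα (a := ⟨a, hD.subset ha⟩) ha hu (x := x * h⁻¹)
        (g := h * g * h⁻¹) ?_]
    rw [← hx]
    group
  · rw [dadeIsometry_eq_zero hg, dadeIsometry_eq_zero]
    rintro ⟨a, ha, u, hu, x, hx⟩
    exact hg ⟨a, ha, u, hu, x * h, by rw [← hx]; group⟩

/-- The average of a function over the coset `a · H a`. -/
noncomputable def dadeAvg (H : G → Subgroup G) (χ : G → ℂ) (a : G) : ℂ :=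
  (Nat.card (H a) : ℂ)⁻¹ * ∑ᶠ u ∈ (H a : Set G), χ (a * u)

theorem classInner_dadeIsometry [Fintype G] [Fintype L] (hD : Cfsg.DadeHypothesis A L H) (α : L → ℂ)
    (hα : Cfsg.IsClassFunction L α) (hαA : ∀ x : L, (x : G) ∉ A → α x = 0)
    (χ : G → ℂ) (ψ : L → ℂ) (hχ : Cfsg.IsClassFunction G χ)
    (hψ : ∀ a : L, (a : G) ∈ A → ψ a = dadeAvg H χ a) :
    Cfsg.classInner (Cfsg.dadeIsometry A L H α) χ = Cfsg.classInner α ψ := by
  classical
  have hG : (Nat.card G : ℂ) ≠ 0 := Nat.cast_ne_zero.mpr Nat.card_pos.ne'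
  have h0 : ∑ g : G, Cfsg.dadeIsometry A L H α g * (starRingEnd ℂ) (χ g) =
      ∑ᶠ g ∈ dadeSupport A H, Cfsg.dadeIsometry A L H α g * (starRingEnd ℂ) (χ g) := by
    rw [finsum_mem_eq_toFinset_sum]
    refine (Finset.sum_subset (Finset.subset_univ _) fun g _ hg => ?_).symm
    rw [dadeIsometry_eq_zero (fun h => hg (Set.mem_toFinset.mpr h)), zero_mul]
  have h1 : ∀ a : L, (a : G) ∈ A →
      (Nat.card (H (a : G)) : ℂ)⁻¹ * ∑ᶠ u ∈ (H (a : G) : Set G), ∑ x : G,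
        Cfsg.dadeIsometry A L H α (x * ((a : G) * u) * x⁻¹) *
          (starRingEnd ℂ) (χ (x * ((a : G) * u) * x⁻¹)) =
      (Nat.card G : ℂ) * (α a * (starRingEnd ℂ) (ψ a)) := by
    intro a ha
    rw [hψ a ha, dadeAvg, map_mul, map_inv₀, map_natCast, finsum_mem_eq_toFinset_sum,
      finsum_mem_eq_toFinset_sum, map_sum, Finset.mul_sum, Finset.mul_sum, Finset.mul_sum,
      Finset.mul_sum]
    refine Finset.sum_congr rfl fun u hu => ?_
    rw [Finset.sum_congr rfl fun x _ => by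
      rw [dadeIsometry_apply hD hα ha (Set.mem_toFinset.mp hu) (x := x⁻¹) (by group), hχ],
      Finset.sum_const, Finset.card_univ, Nat.card_eq_fintype_card, nsmul_eq_mul]
    simp [Nat.card_eq_fintype_card]
    ring
  rw [Cfsg.classInner, h0, dade_sum hD, Cfsg.classInner]
  rw [finsum_mem_congr (s := {a : L | (a : G) ∈ A}) rfl h1, finsum_mem_eq_toFinset_sum, ← Finset.mul_sum, ← mul_assoc, ← mul_assoc]
  rw [mul_right_comm (Nat.card G : ℂ)⁻¹, inv_mul_cancel₀ hG, one_mul]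
  congr 1
  refine Finset.sum_subset (Finset.subset_univ _) fun a _ ha => ?_
  rw [hαA a (fun h => ha (Set.mem_toFinset.mpr h)), zero_mul]

end Cfsg.Agent.OddChar
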