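import Cfsg.Agent.Lib.OddChar.DadeSum
import Cfsg.Agent.Lib.CT.Induced

/-! The Dade map preserves virtual characters (inclusion–exclusion over subsets of `A`). -/

namespace Cfsg.Agent.OddChar

universe u

variable {G : Type u} [Group G] {A : Set G} {L : Subgroup G} {H : G → Subgroup G}

/-- The intersection of the subgroups `H b`, `b ∈ B`. -/
def hInter (H : G → Subgroup G) (B : Finset G) : Subgroup G := ⨅ b ∈ B, H b

theorem mem_hInter {B : Finset G} {g : G} : g ∈ hInter H B ↔ ∀ b ∈ B, g ∈ H b := by
  simp [hInter, Subgroup.mem_iInf]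

theorem hInter_conj_mem (hD : Cfsg.DadeHypothesis A L H) {B : Finset G} (hB : ↑B ⊆ A) {l : G}
    (hl : l ∈ L) (hlB : ∀ b, b ∈ B ↔ l * b * l⁻¹ ∈ B) {v : G} (hv : v ∈ hInter H B) :
    l * v * l⁻¹ ∈ hInter H B := by
  rw [mem_hInter] at hv ⊢
  intro b hb
  have hb' : l⁻¹ * b * l ∈ B := (hlB _).mpr (by simpa [mul_assoc] using hb)
  exact dade_conj_mem hD (hB hb') (hB hb) (by group) (hv _ hb')

theorem coprime_mem_H (hD : Cfsg.DadeHypothesis A L H) {a c : G} (ha : a ∈ A)
    (hc : c ∈ Subgroup.centralizer ({a} : Set G)) {n : ℕ} (hord : orderOf c ∣ n)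
    (hn : Nat.Coprime n (Nat.card ↥(L ⊓ Subgroup.centralizer ({a} : Set G)))) : c ∈ H a := by
  have hnorm : L ⊓ Subgroup.centralizer ({a} : Set G) ≤ Subgroup.normalizer ((H a) : Set G) := by
    intro c hc'
    rw [Subgroup.mem_normalizer_iff]
    refine fun v => ⟨fun hv => hD.conj_mem_H _ ha c hc'.2 v hv, fun hv => ?_⟩
    have := hD.conj_mem_H _ ha c⁻¹ ((Subgroup.centralizer _).inv_mem hc'.2) _ hv
    simpa [mul_assoc] using this
  rw [← hD.sup_eq _ ha, ← SetLike.mem_coe,
    Subgroup.coe_mul_of_right_le_normalizer_left _ _ hnorm] at hc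
  obtain ⟨v, hv, l, hl, hvl⟩ := hc
  replace hvl : v * l = c := hvl
  have key : ∀ k : ℕ, ∃ v' ∈ H a, (v * l) ^ k = v' * l ^ k := by
    intro k
    induction k with
    | zero => exact ⟨1, one_mem _, by simp⟩
    | succ k ih =>
      obtain ⟨v', hv', he⟩ := ih
      refine ⟨v' * (l ^ k * v * (l ^ k)⁻¹), mul_mem hv' ?_, ?_⟩
      · exact hD.conj_mem_H _ ha _ (pow_mem hl.2 k) v hv
      · rw [pow_succ, he, pow_succ]
        group
  obtain ⟨v', hv', he⟩ := key n
  rw [hvl, orderOf_dvd_iff_pow_eq_one.mp hord] at he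
  have h1 : l ^ n ∈ H a ⊓ (L ⊓ Subgroup.centralizer ({a} : Set G)) := by
    refine Subgroup.mem_inf.mpr ⟨?_, pow_mem hl _⟩
    rw [eq_inv_of_mul_eq_one_right he.symm]
    exact (H a).inv_mem hv'
  rw [hD.inf_eq_bot _ ha, Subgroup.mem_bot] at h1
  have hl' : l = 1 := by
    rw [← orderOf_eq_one_iff]
    exact Nat.eq_one_of_dvd_coprimes hn (orderOf_dvd_iff_pow_eq_one.mpr h1)
      (Subgroup.orderOf_dvd_natCard _ hl)
  rw [← hvl, hl', mul_one]
  exact hv

theorem centralizing_part_eq [DecidableEq G] (hD : Cfsg.DadeHypothesis A L H) {B : Finset G}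
    (hB : ↑B ⊆ A) (hne : B.Nonempty) {l : G} (hl : l ∈ A) :
    hInter H B ⊓ Subgroup.centralizer ({l} : Set G) = hInter H (insert l B) := by
  ext c
  simp only [Subgroup.mem_inf, mem_hInter, Finset.forall_mem_insert]
  refine ⟨fun h => ⟨?_, h.1⟩, fun h => ⟨h.2, hD.le_centralizer l hl h.1⟩⟩
  obtain ⟨b, hb⟩ := hne
  exact coprime_mem_H hD hl h.2 (Subgroup.orderOf_dvd_natCard _ (h.1 b hb))
    (hD.coprime b (hB hb) l hl)

theorem insert_subset_A [DecidableEq G] {B : Finset G} (hB : ↑B ⊆ A) {l : G} (hl : l ∈ A) :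
    ↑(insert l B) ⊆ A := by
  rw [Finset.coe_insert]
  exact Set.insert_subset hl hB

/-- Summing a conjugation-invariant function over a coprime coset. -/
theorem sum_coprime_coset (K : Subgroup G) [Fintype K] (l : G)
    (hn : ∀ v ∈ K, l * v * l⁻¹ ∈ K) (hcop : Nat.Coprime (orderOf l) (Nat.card K))
    (f : G → ℂ) (hf : ∀ k ∈ K, ∀ y, f (k * y * k⁻¹) = f y)
    [Fintype ↥(K ⊓ Subgroup.centralizer ({l} : Set G))] :
    (Nat.card ↥(K ⊓ Subgroup.centralizer ({l} : Set G)) : ℂ) * ∑ k : K, f (k * l) =
      (Nat.card K : ℂ) * ∑ c : ↥(K ⊓ Subgroup.centralizer ({l} : Set G)), f (c * l) := by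
  classical
  obtain ⟨C, hC⟩ : ∃ C : Subgroup K, C = (Subgroup.centralizer ({l} : Set G)).subgroupOf K := ⟨_, rfl⟩
  have hmem : ∀ c : K, c ∈ C ↔ (c : G) * l = l * c := by
    intro c
    rw [hC, Subgroup.mem_subgroupOf, Subgroup.mem_centralizer_singleton_iff]
  have hfun : ∀ p : (K ⧸ C) × C,
      (p.1.out : G) * ((p.2 : K) * l) * (p.1.out : G)⁻¹ * l⁻¹ ∈ K := by
    intro p
    have := mul_mem (mul_mem p.1.out.2 (p.2 : K).2) (hn _ (K.inv_mem p.1.out.2))
    convert this using 1
    group
  let Φ : (K ⧸ C) × C → K := fun p => ⟨_, hfun p⟩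
  have hinj : Function.Injective Φ := by
    rintro ⟨q, c⟩ ⟨q', c'⟩ hp
    simp only [Φ, Subtype.mk.injEq, mul_left_inj] at hp
    obtain ⟨r, hr⟩ : ∃ r : K, r = q.out := ⟨_, rfl⟩
    obtain ⟨r', hr'⟩ : ∃ r' : K, r' = q'.out := ⟨_, rfl⟩
    rw [← hr, ← hr'] at hp
    have hc : Commute l ((c : K) : G) := ((hmem c).mp c.2).symm
    have hc' : Commute l ((c' : K) : G) := ((hmem c').mp c'.2).symm
    have hz : ((r'⁻¹ * r : K) : G) * (l * (c : K)) * ((r'⁻¹ * r : K) : G)⁻¹ = l * (c' : K) := by
      rw [hc.eq, hc'.eq]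
      push_cast
      calc (r' : G)⁻¹ * r * ((c : K) * l) * ((r' : G)⁻¹ * r)⁻¹
          = (r' : G)⁻¹ * (r * ((c : K) * l) * (r : G)⁻¹) * r' := by group
        _ = (c' : K) * l := by rw [hp]; group
    have hgz := conj_left_eq hcop hc hc' dvd_rfl dvd_rfl (Subgroup.orderOf_dvd_natCard _ (c : K).2)
      (Subgroup.orderOf_dvd_natCard _ (c' : K).2) hz
    have hzC : r'⁻¹ * r ∈ C := by
      rw [hmem]
      exact mul_inv_eq_iff_eq_mul.mp hgz
    have hqq : q = q' := by
      rw [← QuotientGroup.out_eq' q, ← QuotientGroup.out_eq' q', ← hr, ← hr', eq_comm,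
        QuotientGroup.eq]
      exact hzC
    subst hqq
    rw [hr, hr'] at hp
    have : ((c : K) : G) * l = (c' : K) * l := by simpa using hp
    exact Prod.ext rfl (Subtype.ext (Subtype.ext (mul_right_cancel this)))
  have hbij : Function.Bijective Φ := by
    refine (Nat.bijective_iff_injective_and_card Φ).mpr ⟨hinj, ?_⟩
    rw [Nat.card_prod, ← Subgroup.card_eq_card_quotient_mul_card_subgroup]
  haveI : Fintype C := Fintype.ofFinite C
  haveI : Fintype (K ⧸ C) := Fintype.ofFinite _
  let e : C ≃ ↥(K ⊓ Subgroup.centralizer ({l} : Set G)) :=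
    { toFun := fun c => ⟨(c : K), Subgroup.mem_inf.mpr ⟨(c : K).2,
        Subgroup.mem_centralizer_singleton_iff.mpr ((hmem c).mp c.2)⟩⟩
      invFun := fun c => ⟨⟨c, (Subgroup.mem_inf.mp c.2).1⟩,
        (hmem _).mpr (Subgroup.mem_centralizer_singleton_iff.mp (Subgroup.mem_inf.mp c.2).2)⟩
      left_inv := fun c => rfl
      right_inv := fun c => rfl }
  have hsum : ∑ k : K, f (k * l) =
      (Nat.card (K ⧸ C) : ℂ) * ∑ c : ↥(K ⊓ Subgroup.centralizer ({l} : Set G)), f (c * l) := by
    rw [← (Equiv.ofBijective Φ hbij).sum_comp, Fintype.sum_prod_type,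
      Finset.sum_congr rfl (g := fun _ : K ⧸ C =>
        ∑ c : ↥(K ⊓ Subgroup.centralizer ({l} : Set G)), f (c * l)) fun q _ => ?_,
      Finset.sum_const, Finset.card_univ, nsmul_eq_mul, Nat.card_eq_fintype_card]
    refine Fintype.sum_equiv e _ _ fun c => ?_
    simp only [Φ, Equiv.ofBijective_apply, inv_mul_cancel_right]
    exact hf _ q.out.2 _
  rw [hsum, Subgroup.card_eq_card_quotient_mul_card_subgroup C, Nat.card_congr e]
  push_cast
  ring

open Classical in
/-- The conjugator count used in the inclusion–exclusion. -/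
noncomputable def cosetCount [Fintype G] (H : G → Subgroup G) (B : Finset G) (x l : G) : ℂ :=
  (Nat.card (hInter H B) : ℂ)⁻¹ *
    ∑ g : G, if g⁻¹ * x * g * l⁻¹ ∈ hInter H B then 1 else 0

theorem cosetCount_insert [Fintype G] [DecidableEq G] (hD : Cfsg.DadeHypothesis A L H) {B : Finset G}
    (hB : ↑B ⊆ A) (hne : B.Nonempty) {l : G} (hl : l ∈ A)
    (hlB : ∀ b, b ∈ B ↔ l * b * l⁻¹ ∈ B) (x : G) :
    cosetCount H B x l = cosetCount H (insert l B) x l := by
  classical
  haveI : ∀ K : Subgroup G, Fintype K := fun K => Fintype.ofFinite _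
  let f : G → ℂ := fun y => ((Finset.univ.filter fun g : G => g⁻¹ * x * g = y).card : ℂ)
  have hcount : ∀ K : Subgroup G, (∑ g : G, if g⁻¹ * x * g * l⁻¹ ∈ K then (1 : ℂ) else 0) =
      ∑ k : K, f (k * l) := by
    intro K
    simp only [f, ← Finset.sum_boole]
    rw [Finset.sum_comm]
    refine Finset.sum_congr rfl fun g _ => ?_
    by_cases h : g⁻¹ * x * g * l⁻¹ ∈ K
    · rw [if_pos h, Finset.sum_eq_single ⟨_, h⟩, if_pos (by simp)]
      · intro k _ hk
        rw [if_neg]
        intro e
        exact hk (Subtype.ext (by simp [e]))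
      · simp
    · rw [if_neg h, Finset.sum_eq_zero]
      intro k _
      rw [if_neg]
      intro e
      apply h
      rw [e, mul_inv_cancel_right]
      exact k.2
  obtain ⟨b, hb⟩ := id hne
  have hcop : Nat.Coprime (orderOf l) (Nat.card (hInter H B)) :=
    (dade_orderOf_coprime hD hl (hB hb)).coprime_dvd_right
      (Subgroup.card_dvd_of_le fun v hv => mem_hInter.mp hv b hb)
  have h := sum_coprime_coset (hInter H B) l
    (fun v hv => hInter_conj_mem hD hB (hD.subset hl) hlB hv) hcop f fun k hk y => by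
      simp only [f]
      norm_cast
      refine Finset.card_equiv (Equiv.mulRight k) fun g => ?_
      simp only [Finset.mem_filter, Finset.mem_univ, true_and, Equiv.coe_mulRight]
      constructor
      · intro e
        calc (g * k)⁻¹ * x * (g * k) = k⁻¹ * (g⁻¹ * x * g) * k := by group
          _ = y := by rw [e]; group
      · intro e
        calc g⁻¹ * x * g = k * ((g * k)⁻¹ * x * (g * k)) * k⁻¹ := by group
          _ = _ := by rw [e]
  have hC := centralizing_part_eq hD hB hne hl
  have e2 : (∑ c : ↥(hInter H B ⊓ Subgroup.centralizer ({l} : Set G)), f (c * l)) =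
      ∑ c : ↥(hInter H (insert l B)), f (c * l) :=
    Fintype.sum_equiv (Equiv.subtypeEquivRight fun c => by rw [hC]) _ _ fun c => rfl
  rw [e2, hC] at h
  rw [cosetCount, cosetCount, hcount, hcount]
  have n1 : (Nat.card (hInter H B) : ℂ) ≠ 0 := Nat.cast_ne_zero.mpr Nat.card_pos.ne'
  have n2 : (Nat.card (hInter H (insert l B)) : ℂ) ≠ 0 := Nat.cast_ne_zero.mpr Nat.card_pos.ne'
  field_simp
  linear_combination h

/-- The nonempty subsets of `A`. -/
noncomputable def subsetsOf [Fintype G] (A : Set G) : Finset (Finset G) :=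
  haveI := Classical.decPred fun B : Finset G => ↑B ⊆ A ∧ B.Nonempty
  Finset.univ.filter fun B => ↑B ⊆ A ∧ B.Nonempty

theorem mem_subsetsOf [Fintype G] {B : Finset G} : B ∈ subsetsOf A ↔ ↑B ⊆ A ∧ B.Nonempty := by
  simp [subsetsOf]

open Classical in
/-- One summand of the inclusion–exclusion. -/
noncomputable def incTerm [Fintype G] (A : Set G) (L : Subgroup G) (H : G → Subgroup G)
    (α : L → ℂ) (x : G) (B : Finset G) : ℂ :=
  (-1 : ℂ) ^ (B.card + 1) * ∑ᶠ l ∈ {l : L | (l : G) ∈ A ∧ ∀ b, b ∈ B ↔ (l : G) * b * (l : G)⁻¹ ∈ B},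
    α l * cosetCount H B x l

theorem inclusion_exclusion [Fintype G] [Fintype L] (hD : Cfsg.DadeHypothesis A L H) (α : L → ℂ)
    (hα : Cfsg.IsClassFunction L α) (x : G) :
    (Nat.card L : ℂ) * Cfsg.dadeIsometry A L H α x = ∑ B ∈ subsetsOf A, incTerm A L H α x B := by
  classical
  simp only [incTerm, finsum_mem_eq_toFinset_sum, Set.toFinset_ofPred, Finset.sum_filter, Finset.mul_sum]
  rw [Finset.sum_comm]
  have hinner : ∀ l : L, (∑ B ∈ subsetsOf A, (-1 : ℂ) ^ (B.card + 1) *
      if (l : G) ∈ A ∧ ∀ b, b ∈ B ↔ (l : G) * b * (l : G)⁻¹ ∈ B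
        then α l * cosetCount H B x l else 0) =
      if (l : G) ∈ A then α l * cosetCount H {(l : G)} x l else 0 := by
    intro l
    by_cases hl : (l : G) ∈ A
    · rw [if_pos hl]
      have hone : ({(l : G)} : Finset G) ∈ subsetsOf A := mem_subsetsOf.mpr ⟨by simpa using hl, by simp⟩
      rw [← Finset.add_sum_erase _ _ hone, if_pos ⟨hl, fun b => by
        simp only [Finset.mem_singleton]
        constructor
        · intro e; rw [e]; group
        · intro e
          calc b = (l : G)⁻¹ * ((l : G) * b * (l : G)⁻¹) * l := by group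
            _ = l := by rw [e]; group⟩]
      rw [Finset.card_singleton]
      norm_num
      refine Finset.sum_involution (fun B _ => if (l : G) ∈ B then B.erase (l : G) else insert (l : G) B)
        ?_ ?_ ?_ ?_
      · intro B hB
        obtain ⟨hne1, hB'⟩ := Finset.mem_erase.mp hB
        obtain ⟨hBA, hBne⟩ := mem_subsetsOf.mp hB'
        have hcond : ∀ b : G, (b ∈ insert (l : G) B ↔ (l : G) * b * (l : G)⁻¹ ∈ insert (l : G) B) ↔
            (b = (l : G) ∨ (b ∈ B ↔ (l : G) * b * (l : G)⁻¹ ∈ B)) := by
          intro b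
          by_cases hb : b = (l : G)
          · subst hb
            simp
          · have : (l : G) * b * (l : G)⁻¹ ≠ (l : G) := fun e => hb <| by
              calc b = (l : G)⁻¹ * ((l : G) * b * (l : G)⁻¹) * l := by group
                _ = l := by rw [e]; group
            simp [hb, this]
        by_cases hmem : (l : G) ∈ B
        · simp only [if_pos hmem]
          have hne' : (B.erase (l : G)).Nonempty := by
            rw [← Finset.card_pos, Finset.card_erase_of_mem hmem]
            have : B.card ≠ 1 := fun h1 => by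
              obtain ⟨b, rfl⟩ := Finset.card_eq_one.mp h1
              rw [Finset.mem_singleton] at hmem
              exact hne1 (by rw [hmem])
            have := hBne.card_pos
            omega
          have hins : insert (l : G) (B.erase (l : G)) = B := Finset.insert_erase hmem
          have hiff : (∀ b, b ∈ B ↔ (l : G) * b * (l : G)⁻¹ ∈ B) ↔
              ∀ b, b ∈ B.erase (l : G) ↔ (l : G) * b * (l : G)⁻¹ ∈ B.erase (l : G) := by
            refine forall_congr' fun b => ?_
            have : (l : G) * b * (l : G)⁻¹ = (l : G) ↔ b = (l : G) := by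
              constructor
              · intro e
                calc b = (l : G)⁻¹ * ((l : G) * b * (l : G)⁻¹) * l := by group
                  _ = l := by rw [e]; group
              · intro e; rw [e]; group
            by_cases hb : b = (l : G)
            · subst hb; simp [hmem]
            · simp [hb, mt this.mp hb]
          by_cases hc : ∀ b, b ∈ B ↔ (l : G) * b * (l : G)⁻¹ ∈ B
          · rw [if_pos ⟨hl, hc⟩, if_pos ⟨hl, hiff.mp hc⟩]
            rw [cosetCount_insert hD (fun b hb => hBA (Finset.mem_of_mem_erase hb)) hne' hl (hiff.mp hc) x,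
              hins, Finset.card_erase_of_mem hmem]
            have : B.card - 1 + 1 = B.card := Nat.sub_add_cancel hBne.card_pos
            rw [this, pow_succ]
            ring
          · rw [if_neg (fun h => hc h.2), if_neg (fun h => hc (hiff.mpr h.2))]
            simp
        · simp only [if_neg hmem]
          have hiff : (∀ b, b ∈ B ↔ (l : G) * b * (l : G)⁻¹ ∈ B) ↔
              ∀ b, b ∈ insert (l : G) B ↔ (l : G) * b * (l : G)⁻¹ ∈ insert (l : G) B := by
            refine forall_congr' fun b => ?_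
            rw [hcond]
            constructor
            · exact fun h => Or.inr h
            · rintro (rfl | h)
              · simp [hmem]
              · exact h
          by_cases hc : ∀ b, b ∈ B ↔ (l : G) * b * (l : G)⁻¹ ∈ B
          · rw [if_pos ⟨hl, hc⟩, if_pos ⟨hl, hiff.mp hc⟩, ← cosetCount_insert hD hBA hBne hl hc x,
              Finset.card_insert_of_notMem hmem, pow_succ _ (B.card + 1)]
            ring
          · rw [if_neg (fun h => hc h.2), if_neg (fun h => hc (hiff.mpr h.2))]
            simp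
      · intro B hB _
        by_cases hmem : (l : G) ∈ B
        · simp only [if_pos hmem]
          exact fun e => Finset.notMem_erase (l : G) B (e.symm ▸ hmem)
        · simp only [if_neg hmem]
          exact fun e => hmem (e ▸ Finset.mem_insert_self _ _)
      · intro B hB
        obtain ⟨hne1, hB'⟩ := Finset.mem_erase.mp hB
        obtain ⟨hBA, hBne⟩ := mem_subsetsOf.mp hB'
        rw [Finset.mem_erase, mem_subsetsOf]
        by_cases hmem : (l : G) ∈ B
        · simp only [if_pos hmem]
          refine ⟨fun e => Finset.notMem_erase (l : G) B (e ▸ Finset.mem_singleton_self _),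
            fun b hb => hBA (Finset.mem_of_mem_erase hb), ?_⟩
          by_contra hh
          rw [Finset.not_nonempty_iff_eq_empty] at hh
          exact hne1 (by rw [← Finset.insert_erase hmem, hh]; simp)
        · simp only [if_neg hmem]
          refine ⟨fun e => ?_, insert_subset_A hBA hl, Finset.insert_nonempty _ _⟩
          obtain ⟨b, hb⟩ := hBne
          have hb' : b ∈ ({(l : G)} : Finset G) := e ▸ Finset.mem_insert_of_mem hb
          exact hmem (Finset.mem_singleton.mp hb' ▸ hb)
      · intro B hB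
        by_cases hmem : (l : G) ∈ B
        · simp [hmem]
        · simp [hmem]
    · rw [if_neg hl]
      exact Finset.sum_eq_zero fun B _ => by rw [if_neg (fun h => hl h.1), mul_zero]
  rw [Finset.sum_congr rfl fun l _ => hinner l]
  have hsingle : ∀ l : G, hInter H {l} = H l := fun l => by
    ext c; simp [mem_hInter]
  by_cases hx : x ∈ dadeSupport A H
  · obtain ⟨a, ha, u, hu, y, hy⟩ := hx
    rw [dadeIsometry_apply hD hα (a := ⟨a, hD.subset ha⟩) ha hu hy]
    have hval : ∀ l : L, (if (l : G) ∈ A then α l * cosetCount H {(l : G)} x l else 0) =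
        (if (∃ k : L, (k : G) * a * (k : G)⁻¹ = (l : G)) then
          α ⟨a, hD.subset ha⟩ * (Nat.card (L ⊓ Subgroup.centralizer ({a} : Set G) : Subgroup G) : ℂ) else 0) := by
      intro l
      by_cases hl : (l : G) ∈ A
      · rw [if_pos hl, cosetCount, hsingle]
        by_cases hk : ∃ k : L, (k : G) * a * (k : G)⁻¹ = (l : G)
        · rw [if_pos hk]
          obtain ⟨k, hk⟩ := hk
          have hα' : α l = α ⟨a, hD.subset ha⟩ := by
            rw [← hα ⟨a, hD.subset ha⟩ k]
            congr 1
            exact Subtype.ext hk.symm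
          have hset : ∀ g : G, g⁻¹ * x * g * (l : G)⁻¹ ∈ H (l : G) ↔
              (k : G)⁻¹ * g⁻¹ * y⁻¹ ∈ Subgroup.centralizer ({a} : Set G) := by
            intro g
            have hg : (k : G)⁻¹ * g⁻¹ * y⁻¹ * (a * u) * ((k : G)⁻¹ * g⁻¹ * y⁻¹)⁻¹ =
                (k : G)⁻¹ * (g⁻¹ * x * g) * k := by
              rw [← hy]; group
            constructor
            · intro hm
              have hm2 : (k : G)⁻¹ * ((l : G)⁻¹ * (g⁻¹ * x * g * (l : G)⁻¹) * l) * k ∈ H a := by
                have h1 := hD.conj_mem_H _ hl (l : G)⁻¹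
                  ((Subgroup.centralizer _).inv_mem (Subgroup.mem_centralizer_singleton_iff.mpr rfl)) _ hm
                rw [inv_inv] at h1
                have h2 := dade_conj_mem hD hl ha (x := (k : G)⁻¹) (by rw [← hk]; group) h1
                rwa [inv_inv] at h2
              have h2 := dade_conj_eq hD ha ha hu hm2 (g := (k : G)⁻¹ * g⁻¹ * y⁻¹) (by rw [hg, ← hk]; group)
              rw [Subgroup.mem_centralizer_singleton_iff]
              exact mul_inv_eq_iff_eq_mul.mp h2
            · intro hc
              have h1 := hD.conj_mem_H a ha _ hc u hu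
              have hc' := Subgroup.mem_centralizer_singleton_iff.mp hc
              have h4 := hg
              rw [show (k : G)⁻¹ * g⁻¹ * y⁻¹ * (a * u) * ((k : G)⁻¹ * g⁻¹ * y⁻¹)⁻¹ =
                ((k : G)⁻¹ * g⁻¹ * y⁻¹ * a) * u * ((k : G)⁻¹ * g⁻¹ * y⁻¹)⁻¹ by group, hc'] at h4
              obtain ⟨z, hz⟩ : ∃ z, z = (k : G)⁻¹ * g⁻¹ * y⁻¹ * u * ((k : G)⁻¹ * g⁻¹ * y⁻¹)⁻¹ :=
                ⟨_, rfl⟩
              rw [← hz] at h1
              have h2 := dade_conj_mem hD ha hl hk h1
              have e : g⁻¹ * x * g * (l : G)⁻¹ = (l : G) * ((k : G) * z * (k : G)⁻¹) * (l : G)⁻¹ := by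
                rw [← hk, hz]
                calc g⁻¹ * x * g * ((k : G) * a * (k : G)⁻¹)⁻¹
                    = (k : G) * ((k : G)⁻¹ * (g⁻¹ * x * g) * k) * a⁻¹ * (k : G)⁻¹ := by group
                  _ = _ := by rw [← h4]; group
              rw [e]
              exact hD.conj_mem_H _ hl _ (Subgroup.mem_centralizer_singleton_iff.mpr rfl) _ h2
          simp only [hset]
          have hcardC : (∑ g : G, if (k : G)⁻¹ * g⁻¹ * y⁻¹ ∈ Subgroup.centralizer ({a} : Set G)
              then (1 : ℂ) else 0) = Nat.card (Subgroup.centralizer ({a} : Set G)) := by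
            rw [Finset.sum_boole, Nat.card_eq_fintype_card, Fintype.card_subtype]
            norm_cast
            refine Finset.card_equiv (((Equiv.inv G).trans (Equiv.mulLeft (k : G)⁻¹)).trans
              (Equiv.mulRight y⁻¹)) fun g => ?_
            simp
          rw [hcardC]
          have hprod : Nat.card (Subgroup.centralizer ({a} : Set G)) =
              Nat.card (H a) * Nat.card ↥(L ⊓ Subgroup.centralizer ({a} : Set G)) := by
            have hnorm : L ⊓ Subgroup.centralizer ({a} : Set G) ≤ Subgroup.normalizer ((H a) : Set G) := by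
              intro c hc'
              rw [Subgroup.mem_normalizer_iff]
              refine fun v => ⟨fun hv => hD.conj_mem_H _ ha c hc'.2 v hv, fun hv => ?_⟩
              have := hD.conj_mem_H _ ha c⁻¹ ((Subgroup.centralizer _).inv_mem hc'.2) _ hv
              simpa [mul_assoc] using this
            rw [← Nat.card_prod]
            refine (Nat.card_congr (Equiv.ofBijective (fun p : H a × ↥(L ⊓ Subgroup.centralizer ({a} : Set G)) =>
              (⟨(p.1 : G) * p.2, Subgroup.mul_mem _ (hD.le_centralizer a ha p.1.2)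
                (Subgroup.mem_inf.mp p.2.2).2⟩ : Subgroup.centralizer ({a} : Set G))) ⟨?_, ?_⟩)).symm
            · intro p q hpq
              exact Subgroup.mul_injective_of_disjoint (disjoint_iff.mpr (hD.inf_eq_bot a ha))
                (congrArg Subtype.val hpq)
            · rintro ⟨c, hc⟩
              rw [← hD.sup_eq _ ha, ← SetLike.mem_coe,
                Subgroup.coe_mul_of_right_le_normalizer_left _ _ hnorm] at hc
              obtain ⟨v, hv, m, hm, hvm⟩ := hc
              exact ⟨(⟨v, hv⟩, ⟨m, hm⟩), Subtype.ext hvm⟩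
          have hH : Nat.card (H (l : G)) = Nat.card (H a) := hk ▸ dade_card_conj hD ha k.2
          rw [hα', hprod, hH]
          have : (Nat.card (H a) : ℂ) ≠ 0 := Nat.cast_ne_zero.mpr Nat.card_pos.ne'
          push_cast
          field_simp
        · rw [if_neg hk, Finset.sum_eq_zero fun g _ => ?_, mul_zero, mul_zero]
          rw [if_neg]
          intro hm
          apply hk
          have hm2 : (l : G)⁻¹ * (g⁻¹ * x * g * (l : G)⁻¹) * l ∈ H (l : G) := by
            simpa using hD.conj_mem_H _ hl (l : G)⁻¹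
              ((Subgroup.centralizer _).inv_mem (Subgroup.mem_centralizer_singleton_iff.mpr rfl)) _ hm
          have h2 := dade_conj_eq hD (g := g⁻¹ * y⁻¹) ha hl hu hm2 (by rw [← hy]; group)
          obtain ⟨k, hkL, hke⟩ := hD.fusion a ha _ (by rw [h2]; exact hl)
          exact ⟨⟨k, hkL⟩, by rw [hke, h2]⟩
      · rw [if_neg hl, if_neg]
        rintro ⟨k, hk⟩
        exact hl (hk ▸ hD.conj_mem _ k.2 a ha)
    rw [Finset.sum_congr rfl fun l _ => hval l, ← Finset.sum_filter, Finset.sum_const, nsmul_eq_mul]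
    have horb : ((Finset.univ.filter fun l : L => ∃ k : L, (k : G) * a * (k : G)⁻¹ = (l : G)).card : ℂ) *
        (Nat.card ↥(L ⊓ Subgroup.centralizer ({a} : Set G)) : ℂ) = Nat.card L := by
      have horbit : (Finset.univ.filter fun l : L => ∃ k : L, (k : G) * a * (k : G)⁻¹ = (l : G)).card =
          Nat.card (MulAction.orbit (ConjAct L) (⟨a, hD.subset ha⟩ : L)) := by
        rw [Nat.card_eq_fintype_card, ← Set.toFinset_card]
        congr 1
        ext l
        simp only [Finset.mem_filter, Finset.mem_univ, true_and, Set.mem_toFinset,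
          ConjAct.mem_orbit_conjAct, isConj_comm (g := l), isConj_iff]
        exact ⟨fun ⟨k, hk⟩ => ⟨k, Subtype.ext hk⟩, fun ⟨k, hk⟩ => ⟨k, congrArg Subtype.val hk⟩⟩
      have hst : Nat.card ↥(L ⊓ Subgroup.centralizer ({a} : Set G)) =
          Nat.card (MulAction.stabilizer (ConjAct L) (⟨a, hD.subset ha⟩ : L)) := by
        refine Nat.card_congr
          { toFun := fun c => ⟨ConjAct.toConjAct ⟨c, (Subgroup.mem_inf.mp c.2).1⟩, ?_⟩
            invFun := fun c => ⟨((ConjAct.ofConjAct (c : ConjAct L) : L) : G), ?_⟩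
            left_inv := fun c => rfl
            right_inv := fun c => rfl }
        · rw [MulAction.mem_stabilizer_iff, ConjAct.smul_def]
          refine Subtype.ext ?_
          exact mul_inv_eq_iff_eq_mul.mpr
            (Subgroup.mem_centralizer_singleton_iff.mp (Subgroup.mem_inf.mp c.2).2)
        · have := MulAction.mem_stabilizer_iff.mp c.2
          rw [ConjAct.smul_def] at this
          exact Subgroup.mem_inf.mpr ⟨SetLike.coe_mem _, Subgroup.mem_centralizer_singleton_iff.mpr
            (mul_inv_eq_iff_eq_mul.mp (congrArg Subtype.val this))⟩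
      rw [horbit, hst]
      norm_cast
      rw [← Nat.card_prod, Nat.card_congr (MulAction.orbitProdStabilizerEquivGroup (ConjAct L) _)]
      exact Nat.card_congr ConjAct.ofConjAct.toEquiv
    linear_combination -(α ⟨a, hD.subset ha⟩) * horb
  · rw [dadeIsometry_eq_zero hx, mul_zero]
    refine (Finset.sum_eq_zero fun l _ => ?_).symm
    by_cases hl : (l : G) ∈ A
    · rw [if_pos hl, cosetCount, hsingle, Finset.sum_eq_zero, mul_zero, mul_zero]
      intro g _
      rw [if_neg]
      intro hm
      have hm2 : (l : G)⁻¹ * (g⁻¹ * x * g * (l : G)⁻¹) * l ∈ H (l : G) := by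
        simpa using hD.conj_mem_H _ hl (l : G)⁻¹
          ((Subgroup.centralizer _).inv_mem (Subgroup.mem_centralizer_singleton_iff.mpr rfl)) _ hm
      exact hx ⟨l, hl, _, hm2, g⁻¹, by group⟩
    · rw [if_neg hl]

end Cfsg.Agent.OddChar
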